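import Cfsg.Agent.S5563
import Cfsg.Agent.S5564
import Cfsg.Agent.S5565
import Cfsg.Agent.S5566
import Cfsg.Agent.S5567
import Cfsg.Agent.S5568
import Cfsg.Agent.Lib.J4Type.LargePrimes.Main
import Cfsg.Agent.Lib.J4Type.FromCentralizer

/-!
Groups of Janko-four type: the inputs from the landed rows, two classes of involutions, and the reduction of
S1646 and S5577 to the order formula (helper86).

* `not_comm`, `inputs`, `two_classes`
* `j4_of_centralizer` : the content of S1646, given the order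
* `sylow_large_primes` : the content of S5577, given the order
-/

set_option autoImplicit false
set_option linter.unusedSectionVars false

namespace Cfsg.Agent.J4Type.Wiring

open Cfsg

variable {G : Type*} [Group G] [Finite G]

theorem not_comm {z : G} {P : Subgroup G} (hJ : Cfsg.IsOfJankoFourTypeWith z P) : ¬ IsMulCommutative G := by
  intro hc
  obtain ⟨hz, -, hcard, -, -, -, hfix, -⟩ := hJ
  rw [show Subgroup.centralizer (P : Set G) = ⊤ from eq_top_iff.2 fun x _ =>
    Subgroup.mem_centralizer_iff.2 fun y _ => hc.is_comm.comm y x, inf_top_eq] at hfix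
  rw [hfix, Nat.card_zpowers, hz] at hcard
  norm_num at hcard

variable [IsSimpleGroup G]

theorem inputs {z : G} {P : Subgroup G} (hJ : Cfsg.IsOfJankoFourTypeWith z P) : TwoTen.Inputs z P where
  typeWith := hJ
  uniq := S5566.result (not_comm hJ) ⟨z, P, hJ⟩
  split := S5567.result (not_comm hJ) ⟨z, P, hJ⟩
  orb := S5568.result (not_comm hJ) z ⟨P, hJ⟩
  three := S5564.result (not_comm hJ) ⟨z, P, hJ⟩
  local3 := S5563.result (not_comm hJ) z P hJ

/-- Exactly two classes of involutions. -/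
theorem two_classes {z : G} {P : Subgroup G} (hJ : Cfsg.IsOfJankoFourTypeWith z P) :
    ∃ x y : G, orderOf x = 2 ∧ orderOf y = 2 ∧ ¬ IsConj x y ∧ ∀ u : G, orderOf u = 2 → IsConj u x ∨ IsConj u y := by
  have h := inputs hJ
  obtain ⟨V, ⟨-, hV, hcard⟩, -⟩ := h.uniq (default : Sylow 2 G)
  obtain ⟨D, hzs, hzt, -⟩ := SecondClass.exists_splitData hV hcard (h.split V hV hcard) (h.orb V hV hcard)
  have htne : D.t ≠ 1 := by
    intro e
    have h1 := D.t_orbit
    rw [show {v : G | ∃ n ∈ Subgroup.normalizer (D.V : Set G), n * D.t * n⁻¹ = v} = {1} from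
      Set.ext fun v => ⟨fun ⟨n, _, hn⟩ => by simp [← hn, e],
        fun hv => ⟨1, one_mem _, by rw [Set.mem_singleton_iff.1 hv, e]; group⟩⟩, Set.ncard_singleton] at h1
    norm_num at h1
  haveI : Fact (Nat.Prime 2) := ⟨Nat.prime_two⟩
  refine ⟨z, D.t, hJ.1, orderOf_eq_prime ?_ htne, hzt, fun u hu => ?_⟩
  · rw [pow_two]; exact D.sq_one D.t_mem
  · exact (SecondClass.isConj_or h.typeWith D hzs hzt h.uniq h.three h.local3 hu).imp IsConj.symm IsConj.symm

/-- S1646, given the order. -/
theorem j4_of_centralizer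
    (hnat : ∀ (z : G) (P : Subgroup G), Cfsg.IsOfJankoFourTypeWith z P → Nat.card G = 86775571046077562880)
    {t : G} (hJ : Cfsg.IsOfJankoFourTypeAt t) :
    Cfsg.IsJ4 G ∧ ∃ x y : G, orderOf x = 2 ∧ orderOf y = 2 ∧ ¬ IsConj x y ∧
      ∀ z : G, orderOf z = 2 → IsConj z x ∨ IsConj z y := by
  obtain ⟨P, hP⟩ := hJ
  exact ⟨⟨inferInstance, hnat t P hP⟩, two_classes hP⟩

/-- S5577, given the order. -/
theorem sylow_large_primes {z : G} {P : Subgroup G} (hJ : Cfsg.IsOfJankoFourTypeWith z P)
    (hcard : Nat.card G = 86775571046077562880) :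
    (∀ U : Sylow 23 G, Subgroup.centralizer ((U : Subgroup G) : Set G) = (U : Subgroup G) ∧
      Nat.card ↥(Subgroup.normalizer ((U : Subgroup G) : Set G)) = 23 * 22) ∧
    (∀ U : Sylow 29 G, Subgroup.centralizer ((U : Subgroup G) : Set G) = (U : Subgroup G) ∧
      Nat.card ↥(Subgroup.normalizer ((U : Subgroup G) : Set G)) = 29 * 28) ∧
    (∀ U : Sylow 31 G, Subgroup.centralizer ((U : Subgroup G) : Set G) = (U : Subgroup G) ∧
      Nat.card ↥(Subgroup.normalizer ((U : Subgroup G) : Set G)) = 31 * 10) ∧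
    (∀ U : Sylow 37 G, Subgroup.centralizer ((U : Subgroup G) : Set G) = (U : Subgroup G) ∧
      Nat.card ↥(Subgroup.normalizer ((U : Subgroup G) : Set G)) = 37 * 12) ∧
    (∀ U : Sylow 43 G, Subgroup.centralizer ((U : Subgroup G) : Set G) = (U : Subgroup G) ∧
      Nat.card ↥(Subgroup.normalizer ((U : Subgroup G) : Set G)) = 43 * 14) :=
  LargePrimes.large_primes (inputs hJ)
    (fun R hR => by
      obtain ⟨h1, h2, -⟩ := S5565.result (not_comm hJ) z ⟨P, hJ⟩ R hR
      exact ⟨h1, h2⟩) hcard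

end Cfsg.Agent.J4Type.Wiring
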