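import Cfsg.Agent.Lib.J4Type.Order.Pair

/-
Groups of Janko-four type, order formula: labels of the involutions of `2^11 : M24` and counts of
pairs with an element of `V` in their dihedral group from tables of rows (owner: helper43).

Main results: `LabData`, `Ctx.baseElt`, `Ctx.type_lab`, `PairRow`, `Ctx.sum_rows`, `Ctx.count_eq`,
`Ctx.forall_rows`.
-/

set_option autoImplicit false
set_option linter.unusedSectionVars false
set_option linter.unusedSimpArgs false
set_option maxRecDepth 100000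
set_option exponentiation.threshold 4096
open scoped Pointwise
open Cfsg Cfsg.Agent.Golay Cfsg.Agent.J4Type Cfsg.Agent.J4Type.TwoTen

namespace Cfsg.Agent.J4Type.Order

/-- The data of the four classes over the two base permutations. -/
structure LabData where
  masks : ℕ × ℕ
  bases : List ℕ
  rows : List ClassRow

/-- The kind of a label. -/
def kindOf (l : ℕ) : ℕ := if l < 2 then 1 else if l < 4 then 2 else 0

/-- The coordinate of the base element of a label. -/
def LabData.baseA (D : LabData) (l : ℕ) : ℕ :=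
  if l < 4 then D.bases.getD l 0 else if l = 4 then xS else if l = 5 then xT else 0

/-- The members of a class listed by a row. -/
def ClassRow.members (D : LabData) (r : ClassRow) : List ℕ :=
  let cols := colsOf (act (baseCode (kindOf r.lab)))
  let a0 := act r.g (D.baseA r.lab)
  r.es.map fun e => a0 ^^^ (e ^^^ encAux cols e)

/-- The rows are correct. -/
def LabData.okRows (D : LabData) : Bool :=
  D.rows.all fun r => decide (r.lab < 4) && isAut r.g && r.es.all (fun e => decide (e < 2048)) &&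
    fixOK (baseCode (kindOf r.lab)) &&
    (fixList (baseCode (kindOf r.lab))).contains (D.baseA r.lab) &&
    (List.range 24).all fun i =>
      fn r.g (fn (baseCode (kindOf r.lab)) i) == fn (baseCode (kindOf r.lab)) (fn r.g i)

/-- Every fixed coordinate over the base of kind `k` is listed with its label. -/
def LabData.okCover (D : LabData) (k : ℕ) : Bool :=
  fixOK (baseCode k) &&
    let M := D.rows.map fun r => (r.lab, r.members D)
    (fixList (baseCode k)).all fun a =>
      M.any fun p => p.1 == labBase D.masks k a && p.2.contains a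

/-- Everything about the labels. -/
def LabData.ok (D : LabData) : Bool := D.okRows && D.okCover 1 && D.okCover 2

theorem baseCode_aut : ∀ k, isAut (baseCode k) = true := by
  intro k
  have h : isAut GolayInvol.invRepFix = true ∧ isAut GolayInvol.invRepFree = true ∧
      isAut idCode = true := by decide +kernel
  unfold baseCode
  split_ifs
  exacts [h.1, h.2.1, h.2.2]

theorem kindOf_lab (masks : ℕ × ℕ) {k : ℕ} (hk : k = 1 ∨ k = 2) (a : ℕ) :
    kindOf (labBase masks k a) = k ∧ labBase masks k a < 4 := by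
  rcases hk with rfl | rfl <;> simp only [labBase, kindOf] <;> split_ifs <;> omega

/-- A row of the table of pairs: weight, the two seeds and which side is reduced. -/
structure PairRow where
  w : ℕ
  s : Seed
  t : Seed
  mode : ℕ

/-- The row is correct. -/
def PairRow.ok (x : ℕ) (r : PairRow) : Bool :=
  r.s.ok x && r.t.ok x &&
    if r.mode = 0 then r.s.redOK && fixOK r.t.code && ordOK r.s.code r.t.code
    else if r.mode = 1 then r.t.redOK && fixOK r.s.code && ordOK r.t.code r.s.code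
    else r.s.code == idCode && r.t.code == idCode

/-- The multiplicity of the hits of a row. -/
def PairRow.mult (r : PairRow) : ℕ :=
  if r.mode = 0 then r.s.es.length else if r.mode = 1 then r.t.es.length else 1

/-- The hits of a row. -/
def PairRow.hits (x : ℕ) (r : PairRow) : List (ℕ × ℕ) :=
  if r.mode = 0 then hitsOf x r.s.code r.t.code r.s.reps (fixList r.t.code)
  else if r.mode = 1 then
    (hitsOf x r.t.code r.s.code r.t.reps (fixList r.s.code)).map fun p => (p.2, p.1)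
  else (List.range 2048).map fun a => (a, a ^^^ x)

/-- The table of a row by the labels of both members, weighted by `wc`. -/
def PairRow.tab (x : ℕ) (masks : ℕ × ℕ) (wc : Seed → Seed → ℕ → ℕ → ℕ) (r : PairRow) : List ℕ :=
  tabHits (fun p : ℕ × ℕ => 7 * r.s.lab masks p.1 + r.t.lab masks p.2)
    (fun p => wc r.s r.t p.1 p.2) 49 (r.hits x)

/-- The weighted table of a row. -/
def PairRow.entry (x : ℕ) (masks : ℕ × ℕ) (wc : Seed → Seed → ℕ → ℕ → ℕ) (r : PairRow) :
    ℕ × List ℕ :=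
  (r.w * r.mult, r.tab x masks wc)

theorem Seed.lab_lt (masks : ℕ × ℕ) (s : Seed) (a : ℕ) : s.lab masks a < 7 := by
  simp only [Seed.lab, labBase]
  split_ifs <;> omega

end Cfsg.Agent.J4Type.Order

namespace Cfsg.Agent.J4Type.TwoTen.Ctx

open Cfsg.Agent.J4Type.Order

variable {G : Type*} [Group G] [Finite G] (C : Ctx G)

local notation "NV" => Subgroup.normalizer (C.D.V : Set G)

/-- The base element of a label. -/
noncomputable def baseElt (D : LabData) (l : ℕ) : G :=
  C.ee (D.baseA l) (toPerm (baseCode (kindOf l)))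

theorem isConj_duad_pair {i j : ℕ} (hi : i < 24) (hj : j < 24) (hij : i ≠ j) :
    ∃ σ : ↥M24, C.D.el σ * C.D.t * (C.D.el σ)⁻¹ = C.vv (q (1 <<< i ^^^ 1 <<< j)) := by
  have hne : pt i ≠ pt j := fun e => hij (by simpa [idx_pt hi, idx_pt hj] using congrArg idx e)
  obtain ⟨σ, hσ⟩ := C.M.duad _ _ hne
  refine ⟨σ, hσ.trans ?_⟩
  rw [← word_pair, idx_pt hi, idx_pt hj]
  have hall : ∀ i < 24, ∀ j < 24, popcount (1 <<< i ^^^ 1 <<< j) % 2 = 0 := by decide +kernel
  refine C.phi_word (Nat.xor_lt_two_pow ?_ ?_) (ev_word (hall i hi j hj))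
  · rw [Nat.one_shiftLeft]; exact Nat.pow_lt_pow_right (by omega) hi
  · rw [Nat.one_shiftLeft]; exact Nat.pow_lt_pow_right (by omega) hj

theorem vv_class {a : ℕ} (ha : a < 2048) (ha0 : a ≠ 0) :
    ∃ n ∈ NV, n * C.vv (if clsT a then xT else xS) * n⁻¹ = C.vv a := by
  have duad : ∀ {a}, a < 2048 → clsT a = true →
      ∃ σ : ↥M24, C.D.el σ * C.D.t * (C.D.el σ)⁻¹ = C.vv a := by
    intro a ha hd
    have h := forall_lt_two_pow duad_cases (k := 11) ha
    simp only [hd, Bool.not_true, Bool.false_or, List.any_eq_true, List.mem_range,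
      Bool.and_eq_true, bne_iff_ne, ne_eq, beq_iff_eq] at h
    obtain ⟨i, hi, j, hj, hij, rfl⟩ := h
    exact C.isConj_duad_pair hi hj hij
  have other : ∀ {a}, a < 2048 → a ≠ 0 → clsT a = false →
      ∃ σ : ↥M24, C.D.el σ * C.D.s * (C.D.el σ)⁻¹ = C.vv a := by
    intro a ha ha0 hd
    rcases C.D.eq_one_or (C.vv_mem a) with h | ⟨σ, h⟩ | h
    · rw [← C.vv_zero] at h
      exact absurd (C.vv_inj ha (by norm_num) h) ha0
    · obtain ⟨p, r, hpr, hphi⟩ := C.M.duad_all σ
      rw [h, ← word_pair] at hphi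
      have hall : ∀ i < 24, ∀ j < 24, popcount (1 <<< i ^^^ 1 <<< j) % 2 = 0 := by decide +kernel
      rw [C.phi_word (Nat.xor_lt_two_pow
        (by rw [Nat.one_shiftLeft]; exact Nat.pow_lt_pow_right (by omega) (idx_lt p))
        (by rw [Nat.one_shiftLeft]; exact Nat.pow_lt_pow_right (by omega) (idx_lt r)))
        (ev_word (hall _ (idx_lt p) _ (idx_lt r)))] at hphi
      have := C.vv_inj (q_lt _) ha hphi
      rw [← this, clsT_pairs _ (idx_lt p) _ (idx_lt r) fun e => hpr (idx_injective e)] at hd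
      exact absurd hd (by decide)
    · exact h
  have key : ∀ {v : G} {σ τ : ↥M24} {b : ℕ}, C.D.el σ * v * (C.D.el σ)⁻¹ = C.vv b →
      C.D.el τ * v * (C.D.el τ)⁻¹ = C.vv a → ∃ n ∈ NV, n * C.vv b * n⁻¹ = C.vv a := by
    intro v σ τ b h1 h2
    refine ⟨C.D.el τ * (C.D.el σ)⁻¹, mul_mem (C.D.el_norm _) (inv_mem (C.D.el_norm _)), ?_⟩
    rw [← h1, ← h2]; group
  have hx : clsT xT = true ∧ xT < 2048 ∧ clsT xS = false ∧ xS ≠ 0 ∧ xS < 2048 := by decide +kernel
  by_cases hd : clsT a = true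
  · rw [if_pos hd]
    obtain ⟨σ, hσ⟩ := duad hx.2.1 hx.1
    obtain ⟨τ, hτ⟩ := duad ha hd
    exact key hσ hτ
  · rw [if_neg hd]
    obtain ⟨σ, hσ⟩ := other hx.2.2.2.2 hx.2.2.2.1 hx.2.2.1
    obtain ⟨τ, hτ⟩ := other ha ha0 (by simpa using hd)
    exact key hσ hτ

/-- **The label decides the class in the normaliser of `V`.** -/
theorem type_lab {D : LabData} (hD : D.ok = true) {x : ℕ} (hx : x < 2048) {s : Seed}
    (hs : s.ok x = true) {a : ℕ} (ha : a ∈ fixC (toPerm s.code)) :
    (s.lab D.masks a = 6 ∧ C.ee a (toPerm s.code) = 1) ∨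
    (s.lab D.masks a < 6 ∧
      ∃ n ∈ NV, n * C.baseElt D (s.lab D.masks a) * n⁻¹ = C.ee a (toPerm s.code)) := by
  simp only [Seed.ok, Bool.and_eq_true, decide_eq_true_eq, Bool.or_eq_true, bne_iff_ne, ne_eq,
    beq_iff_eq, List.all_eq_true, List.mem_range] at hs
  obtain ⟨⟨⟨⟨hinv, hcA⟩, hk2⟩, hk0⟩, hrel⟩ := hs
  obtain ⟨hI, hsc⟩ := invOK_spec hx hinv
  obtain ⟨haLt, haf⟩ := mem_fixC.1 ha
  by_cases hk : s.kind = 1 ∨ s.kind = 2
  · have hlab : s.lab D.masks a = labBase D.masks s.kind (act s.conj a) := by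
      simp [Seed.lab, hk]
    obtain ⟨hkl, hl4⟩ := kindOf_lab D.masks hk (act s.conj a)
    refine Or.inr ⟨by rw [hlab]; omega, ?_⟩
    have hcv := validPerm_of_isAut hcA
    have hbA := baseCode_aut s.kind
    have hbv := validPerm_of_isAut hbA
    set h := toPerm s.conj with hh
    set ρ := toPerm (baseCode s.kind) with hρ
    have hhM : h ∈ M24 := toPerm_mem_M24 hcA
    have hσM := (mem_Invs.1 hI).1.1
    have hρM : ρ ∈ M24 := toPerm_mem_M24 hbA
    have hcon : h * toPerm s.code * h⁻¹ = ρ := by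
      rw [mul_inv_eq_iff_eq_mul]
      refine Equiv.ext fun p => idx_injective ?_
      rw [Equiv.Perm.mul_apply, Equiv.Perm.mul_apply, hh, hρ, idx_toPerm hcv, hsc, idx_toPerm hbv,
        idx_toPerm hcv]
      exact hrel _ (idx_lt p)
    have hact : act s.conj a = actP h a := (actP_toPerm hcv a).symm
    have ha' : actP h a ∈ fixC ρ := hcon ▸ actP_conj_fix hhM hσM ha
    simp only [LabData.ok, Bool.and_eq_true] at hD
    have hcover : D.okCover s.kind = true := by
      rcases hk with e | e <;> rw [e]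
      exacts [hD.1.2, hD.2]
    simp only [LabData.okCover, Bool.and_eq_true, List.all_eq_true, List.any_eq_true,
      List.mem_map, beq_iff_eq, List.contains_iff_mem] at hcover
    obtain ⟨hfl, hcov⟩ := hcover
    obtain ⟨hfb, -⟩ := fixList_spec (cod_toPerm hbv) hfl
    rw [← hρ] at hfb
    obtain ⟨_, ⟨r, hr, rfl⟩, hrl, hmem⟩ := hcov (act s.conj a)
      (List.mem_toFinset.1 (by rw [hfb, hact]; exact ha'))
    simp only at hrl hmem
    have hrk : kindOf r.lab = s.kind := by rw [hrl]; exact hkl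
    have hrows := hD.1.1
    simp only [LabData.okRows, List.all_eq_true, Bool.and_eq_true, decide_eq_true_eq, beq_iff_eq,
      List.mem_range, List.contains_iff_mem] at hrows
    obtain ⟨⟨⟨⟨⟨-, hgA⟩, hes⟩, -⟩, hbase⟩, hgc⟩ := hrows r hr
    rw [hrk] at hbase hgc
    have hgv := validPerm_of_isAut hgA
    set g := toPerm r.g with hg
    have hgM : g ∈ M24 := toPerm_mem_M24 hgA
    have hgρ : g * ρ * g⁻¹ = ρ := by
      rw [mul_inv_eq_iff_eq_mul]
      refine Equiv.ext fun p => idx_injective ?_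
      rw [Equiv.Perm.mul_apply, Equiv.Perm.mul_apply, hg, hρ, idx_toPerm hgv, idx_toPerm hbv,
        idx_toPerm hbv, idx_toPerm hgv]
      exact hgc _ (idx_lt p)
    simp only [ClassRow.members, List.mem_map, hrk] at hmem
    obtain ⟨e, he, hae⟩ := hmem
    rw [encAux_colsOf (act_xor hbv) (hes e he), (cod_toPerm hbv).act_eq, ← hρ, ← actP_toPerm hgv,
      ← hg, hact] at hae
    have e1 : C.vv e * (C.ee 0 g * C.baseElt D r.lab * (C.ee 0 g)⁻¹) * (C.vv e)⁻¹ =
        C.ee 0 h * C.ee a (toPerm s.code) * (C.ee 0 h)⁻¹ := by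
      rw [baseElt, hrk, ← hρ, C.ee_conj hgM hρM, hgρ, C.ee_conj_vv hρM (actP_lt' _ _),
        C.ee_conj hhM hσM, hcon, hae]
    refine ⟨(C.ee 0 h)⁻¹ * C.vv e * C.ee 0 g,
      mul_mem (mul_mem (inv_mem (C.ee_mem _ hhM)) (Subgroup.le_normalizer (C.vv_mem _)))
        (C.ee_mem _ hgM), ?_⟩
    rw [hlab, ← hrl]
    calc (C.ee 0 h)⁻¹ * C.vv e * C.ee 0 g * C.baseElt D r.lab *
          ((C.ee 0 h)⁻¹ * C.vv e * C.ee 0 g)⁻¹
        = (C.ee 0 h)⁻¹ * (C.vv e * (C.ee 0 g * C.baseElt D r.lab * (C.ee 0 g)⁻¹) * (C.vv e)⁻¹) *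
            C.ee 0 h := by group
      _ = _ := by rw [e1]; group
  · have hkz : s.kind = 0 := by omega
    have hlab : s.lab D.masks a = if a = 0 then 6 else if clsT a then 5 else 4 := by
      simp [Seed.lab, labBase, hkz]
    have hid : toPerm s.code = 1 := by
      rcases hk0 with e | e
      · exact absurd hkz e
      · rw [e]; exact cod_idCode.toPerm_eq
    rw [hid]
    by_cases h0 : a = 0
    · subst h0
      exact Or.inl ⟨by simp [hlab], C.ee_zero_one⟩
    · refine Or.inr ⟨by rw [hlab, if_neg h0]; split_ifs <;> omega, ?_⟩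
      obtain ⟨n, hn, he⟩ := C.vv_class haLt h0
      refine ⟨n, hn, ?_⟩
      rw [hlab, if_neg h0, C.ee_one, ← he, baseElt]
      have hid' : toPerm (baseCode 0) = 1 := cod_idCode.toPerm_eq
      by_cases hd : clsT a <;> simp only [hd, if_true, if_false, Bool.false_eq_true] <;>
        simp only [kindOf, LabData.baseA, show ¬ (5 : ℕ) < 4 by omega,
          show ¬ (4 : ℕ) < 4 by omega, show ¬ (5 : ℕ) < 2 by omega, show ¬ (4 : ℕ) < 2 by omega,
          if_false, if_true, show (5 : ℕ) ≠ 4 by omega, hid', C.ee_one]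

theorem row_eval {x : ℕ} (hx : x < 2048) (hx0 : x ≠ 0) {r : PairRow} (hr : r.ok x = true)
    {M : Type*} [AddCommMonoid M] {W : G → G → M} (hWc : C.ConjInv x W) (Φ : ℕ → ℕ → M)
    (hW : ∀ a ∈ fixC (toPerm r.s.code), ∀ b ∈ fixC (toPerm r.t.code),
      (C.vv x ∈ Subgroup.zpowers (C.ee a (toPerm r.s.code) * C.ee b (toPerm r.t.code)) →
        W (C.ee a (toPerm r.s.code)) (C.ee b (toPerm r.t.code)) = Φ a b) ∧
      (C.vv x ∉ Subgroup.zpowers (C.ee a (toPerm r.s.code) * C.ee b (toPerm r.t.code)) →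
        W (C.ee a (toPerm r.s.code)) (C.ee b (toPerm r.t.code)) = 0)) :
    C.pairF W (toPerm r.s.code) (toPerm r.t.code) =
      r.mult • ((r.hits x).map fun p => Φ p.1 p.2).sum := by
  simp only [PairRow.ok, Bool.and_eq_true] at hr
  obtain ⟨⟨hs, ht⟩, hmode⟩ := hr
  simp only [Seed.ok, Bool.and_eq_true] at hs ht
  have hsI := hs.1.1.1.1
  have htI := ht.1.1.1.1
  rw [PairRow.mult, PairRow.hits]
  by_cases h0 : r.mode = 0
  · simp only [h0, if_true, Bool.and_eq_true] at hmode ⊢
    exact C.pairF_hits hx hx0 hsI htI hmode.1.1 hmode.1.2 hmode.2 hWc Φ hW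
  by_cases h1 : r.mode = 1
  · simp only [h1, if_true, Bool.and_eq_true, show ¬ (1 : ℕ) = 0 by omega, if_false] at hmode ⊢
    rw [C.pairF_swap]
    have hsym : ∀ u v : G, u * u = 1 → v * v = 1 →
        (C.vv x ∈ Subgroup.zpowers (u * v) ↔ C.vv x ∈ Subgroup.zpowers (v * u)) := by
      intro u v hu hv
      rw [show v * u = (u * v)⁻¹ by
        rw [_root_.mul_inv_rev, inv_eq_of_mul_eq_one_left hu, inv_eq_of_mul_eq_one_left hv],
        Subgroup.zpowers_inv]
    have hM : ∀ {c : ℕ}, invOK x c = true → ∀ a ∈ fixC (toPerm c),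
        C.ee a (toPerm c) * C.ee a (toPerm c) = 1 := by
      intro c hc a ha
      obtain ⟨hI, -⟩ := invOK_spec hx hc
      exact (C.mem_invPart.1 (C.ee_mem_invPart hx hI ha)).2.2
    rw [C.pairF_hits hx hx0 htI hsI hmode.1.1 hmode.1.2 hmode.2
      (W := fun u v => W v u) (fun g hg hc u hu v hv => hWc g hg hc v hv u hu) (fun a b => Φ b a)
      (fun a ha b hb => ?_), List.map_map]
    · rfl
    · rw [hsym _ _ (hM htI a ha) (hM hsI b hb)]
      exact hW b hb a ha
  · simp only [h0, h1, if_false, Bool.and_eq_true, beq_iff_eq, one_smul] at hmode ⊢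
    rw [hmode.1, hmode.2, cod_idCode.toPerm_eq] at hW ⊢
    rw [C.pairF_ident hx hx0 W Φ (fun a ha b hb => hW a (by simp [fixC_one, ha]) b
      (by simp [fixC_one, hb])), List.map_map]
    rfl

/-- **Sums over all pairs by the rows.** -/
theorem sum_rows {K : Cover} {n : ℕ} {cls : ℕ → Bool} {tabs : List (List (ℕ × ℕ × ℕ))}
    (h : Checked K n cls tabs) (hx0 : K.x ≠ 0) {rows : List PairRow}
    (hrows : rows.map (fun r => (r.w, r.s.code, r.t.code)) = tabs.flatten)
    (hok : ∀ r ∈ rows, r.ok K.x = true) {M : Type*} [AddCommMonoid M] {W : G → G → M}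
    (hWc : C.ConjInv K.x W) (Φ : PairRow → ℕ → ℕ → M)
    (hW : ∀ r ∈ rows, ∀ a ∈ fixC (toPerm r.s.code), ∀ b ∈ fixC (toPerm r.t.code),
      (C.vv K.x ∈ Subgroup.zpowers (C.ee a (toPerm r.s.code) * C.ee b (toPerm r.t.code)) →
        W (C.ee a (toPerm r.s.code)) (C.ee b (toPerm r.t.code)) = Φ r a b) ∧
      (C.vv K.x ∉ Subgroup.zpowers (C.ee a (toPerm r.s.code) * C.ee b (toPerm r.t.code)) →
        W (C.ee a (toPerm r.s.code)) (C.ee b (toPerm r.t.code)) = 0)) :
    ∑ u ∈ C.invPart K.x, ∑ v ∈ C.invPart K.x, W u v =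
      (rows.map fun r => (r.w * r.mult) • ((r.hits K.x).map fun p => Φ r p.1 p.2).sum).sum := by
  rw [C.sum_pairs h hWc, ← hrows, List.map_map]
  refine congrArg List.sum (List.map_congr_left fun r hr => ?_)
  simp only [Function.comp_apply]
  rw [C.row_eval (Cover.x_lt h.order) hx0 (hok r hr) hWc (Φ r) (hW r hr), mul_smul]

open Classical in
/-- **Counting pairs by the classes.** -/
theorem count_eq {K : Cover} {n : ℕ} {cls : ℕ → Bool} {tabs : List (List (ℕ × ℕ × ℕ))}
    (h : Checked K n cls tabs) (hx0 : K.x ≠ 0) {rows : List PairRow}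
    (hrows : rows.map (fun r => (r.w, r.s.code, r.t.code)) = tabs.flatten)
    (hok : ∀ r ∈ rows, r.ok K.x = true) {D : LabData} (hD : D.ok = true)
    {wc : Seed → Seed → ℕ → ℕ → ℕ} {tot : List ℕ}
    (htot : totTab 49 (rows.map (PairRow.entry K.x D.masks wc)) = tot)
    (P1 P2 : G → Prop) (hP1 : ∀ g u, P1 (g * u * g⁻¹) ↔ P1 u) (hP2 : ∀ g u, P2 (g * u * g⁻¹) ↔ P2 u)
    (hone : ¬ P1 1 ∧ ¬ P2 1) (s1 s2 : ℕ → Bool) (h6 : s1 6 = false ∧ s2 6 = false)
    (hs1 : ∀ l < 6, P1 (C.baseElt D l) ↔ s1 l = true)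
    (hs2 : ∀ l < 6, P2 (C.baseElt D l) ↔ s2 l = true)
    (wt : G → G → ℕ) (hwt : C.ConjInv K.x wt)
    (hwc : ∀ r ∈ rows, ∀ a ∈ fixC (toPerm r.s.code), ∀ b ∈ fixC (toPerm r.t.code),
      wt (C.ee a (toPerm r.s.code)) (C.ee b (toPerm r.t.code)) = wc r.s r.t a b) :
    (∑ u ∈ C.invPart K.x, ∑ v ∈ C.invPart K.x,
      if P1 u ∧ P2 v ∧ C.vv K.x ∈ Subgroup.zpowers (u * v) then wt u v else 0) =
      evalTab (fun i => s1 (i / 7) && s2 (i % 7)) tot 0 := by
  have hx := Cover.x_lt h.order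
  have hWc : C.ConjInv K.x fun u v =>
      if P1 u ∧ P2 v ∧ C.vv K.x ∈ Subgroup.zpowers (u * v) then wt u v else 0 := by
    intro g hg hc u hu v hv
    have hz : C.vv K.x ∈ Subgroup.zpowers (g * u * g⁻¹ * (g * v * g⁻¹)) ↔
        C.vv K.x ∈ Subgroup.zpowers (u * v) := by
      rw [show g * u * g⁻¹ * (g * v * g⁻¹) = (MulAut.conj g).toMonoidHom (u * v) by simp [mul_assoc],
        ← MonoidHom.map_zpowers]
      conv_lhs => rw [show C.vv K.x = (MulAut.conj g).toMonoidHom (C.vv K.x) by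
        simp [hc]]
      exact Subgroup.mem_map_iff_mem (f := (MulAut.conj g).toMonoidHom) (MulAut.conj g).injective
    simp only [hP1, hP2, hz, hwt g hg hc u hu v hv]
  have lab : ∀ {s : Seed}, s.ok K.x = true → ∀ a ∈ fixC (toPerm s.code), ∀ (Q : G → Prop),
      (∀ g u, Q (g * u * g⁻¹) ↔ Q u) → ¬ Q 1 → ∀ f : ℕ → Bool, f 6 = false →
      (∀ l < 6, Q (C.baseElt D l) ↔ f l = true) →
      (Q (C.ee a (toPerm s.code)) ↔ f (s.lab D.masks a) = true) := by
    intro s hs a ha Q hQ hQ1 f hf6 hf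
    rcases C.type_lab hD hx hs ha with ⟨e1, e2⟩ | ⟨hl, n, hn, he⟩
    · rw [e1, e2, hf6]; simp [hQ1]
    · rw [← he, hQ, hf _ hl]
  rw [C.sum_rows h hx0 hrows hok hWc
    (fun r a b => bif s1 (r.s.lab D.masks a) && s2 (r.t.lab D.masks b) then wc r.s r.t a b else 0)
    fun r hr a ha b hb => ?_]
  · rw [← htot]
    obtain ⟨-, hev⟩ := totTab_spec (fun i => s1 (i / 7) && s2 (i % 7)) 49
      (rows.map (PairRow.entry K.x D.masks wc)) (by
        intro e he
        obtain ⟨r, -, rfl⟩ := List.mem_map.1 he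
        exact (tabHits_spec (fun _ => false) _ _ 49 _ fun p _ => by
          have := r.s.lab_lt D.masks p.1
          have := r.t.lab_lt D.masks p.2
          omega).1)
    rw [hev, List.map_map]
    refine congrArg List.sum (List.map_congr_left fun r _ => ?_)
    simp only [Function.comp_apply, PairRow.entry, PairRow.tab, smul_eq_mul]
    rw [(tabHits_spec _ _ _ 49 _ fun p _ => by
      have := r.s.lab_lt D.masks p.1
      have := r.t.lab_lt D.masks p.2
      omega).2]
    congr 2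
    refine List.map_congr_left fun p _ => ?_
    have := r.t.lab_lt D.masks p.2
    rw [show (7 * r.s.lab D.masks p.1 + r.t.lab D.masks p.2) / 7 = r.s.lab D.masks p.1 by omega,
      show (7 * r.s.lab D.masks p.1 + r.t.lab D.masks p.2) % 7 = r.t.lab D.masks p.2 by omega]
  · have hr' := hok r hr
    simp only [PairRow.ok, Bool.and_eq_true] at hr'
    have l1 := lab hr'.1.1 a ha P1 hP1 hone.1 s1 h6.1 hs1
    have l2 := lab hr'.1.2 b hb P2 hP2 hone.2 s2 h6.2 hs2
    refine ⟨fun hz => ?_, fun hz => if_neg fun hh => hz hh.2.2⟩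
    simp only [hz, and_true, l1, l2, hwc r hr a ha b hb]
    cases s1 (r.s.lab D.masks a) <;> cases s2 (r.t.lab D.masks b) <;> simp

open Classical in
/-- A property of the hits holds at all pairs. -/
theorem forall_rows {K : Cover} {n : ℕ} {cls : ℕ → Bool} {tabs : List (List (ℕ × ℕ × ℕ))}
    (h : Checked K n cls tabs) (hx0 : K.x ≠ 0) {rows : List PairRow}
    (hrows : rows.map (fun r => (r.w, r.s.code, r.t.code)) = tabs.flatten)
    (hok : ∀ r ∈ rows, r.ok K.x = true) (Q : G → G → Prop)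
    (hQ : ∀ g u v, g ∈ NV → g * C.vv K.x = C.vv K.x * g →
      (Q (g * u * g⁻¹) (g * v * g⁻¹) ↔ Q u v))
    (hhit : ∀ r ∈ rows, ∀ p ∈ r.hits K.x, p.1 ∈ fixC (toPerm r.s.code) →
      p.2 ∈ fixC (toPerm r.t.code) → Q (C.ee p.1 (toPerm r.s.code)) (C.ee p.2 (toPerm r.t.code))) :
    ∀ u ∈ C.invPart K.x, ∀ v ∈ C.invPart K.x, C.vv K.x ∈ Subgroup.zpowers (u * v) → Q u v := by
  have hWc : C.ConjInv K.x fun u v =>
      if C.vv K.x ∈ Subgroup.zpowers (u * v) ∧ ¬ Q u v then 1 else 0 := by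
    intro g hg hc u hu v hv
    have hz : C.vv K.x ∈ Subgroup.zpowers (g * u * g⁻¹ * (g * v * g⁻¹)) ↔
        C.vv K.x ∈ Subgroup.zpowers (u * v) := by
      rw [show g * u * g⁻¹ * (g * v * g⁻¹) = (MulAut.conj g).toMonoidHom (u * v) by simp [mul_assoc],
        ← MonoidHom.map_zpowers]
      conv_lhs => rw [show C.vv K.x = (MulAut.conj g).toMonoidHom (C.vv K.x) by simp [hc]]
      exact Subgroup.mem_map_iff_mem (f := (MulAut.conj g).toMonoidHom) (MulAut.conj g).injective
    simp only [hz, hQ g u v hg hc]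
  have hsum := C.sum_rows h hx0 hrows hok hWc
    (fun r a b => if a ∈ fixC (toPerm r.s.code) ∧ b ∈ fixC (toPerm r.t.code) ∧
      ¬ Q (C.ee a (toPerm r.s.code)) (C.ee b (toPerm r.t.code)) then 1 else 0)
    fun r hr a ha b hb => ⟨fun hz => by simp [hz, ha, hb], fun hz => by simp [hz]⟩
  rw [List.sum_eq_zero (l := rows.map _) (by
    intro c hc
    obtain ⟨r, hr, rfl⟩ := List.mem_map.1 hc
    rw [List.sum_eq_zero (by
      intro c hc
      obtain ⟨p, hp, rfl⟩ := List.mem_map.1 hc
      exact if_neg fun hh => hh.2.2 (hhit r hr p hp hh.1 hh.2.1)), smul_zero]),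
    Finset.sum_eq_zero_iff] at hsum
  intro u hu v hv hz
  have := Finset.sum_eq_zero_iff.1 (hsum u hu) v hv
  by_contra hn
  simp [hz, hn] at this

end Cfsg.Agent.J4Type.TwoTen.Ctx
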