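import Cfsg.Agent.Lib.J4Type.Order.KappaData
import Cfsg.Agent.Lib.J4Type.Order.Count
import Cfsg.Agent.Lib.J4Type.Order.SeedsS

/-
Groups of Janko-four type, order formula: weights by common hexads for the pairs over the sextet
stabiliser (owner: helper43).

Main definitions: `ACode`, `gOf`, `pmask`, `wz`, `auxOK`, `goodHit`.
-/

set_option autoImplicit false
set_option maxRecDepth 100000
open Cfsg Cfsg.Agent.Golay Cfsg.Agent.J4Type.TwoTen
open Cfsg.Agent.M24Sylow hiding word

namespace Cfsg.Agent.J4Type.Order

/-- The code of an element fixing the standard octad pointwise, by number. -/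
def ACode (j : ℕ) : ℕ := M24Sylow.perm (TwoTen.rcode j)

/-- The number of a candidate. -/
def candNo (i : Bool) : ℕ := if i then 1 else 0

/-- The image of the permutation of a seed under a candidate. -/
def gOf (i : Bool) (s : Seed) : ℕ := s.aux.getD (candNo i) 0

/-- The fixed hexads of an image, as bits. -/
def pmask (i : Bool) (s : Seed) (j : ℕ) : ℕ := s.aux.getD (2 + 16 * candNo i + j) 0

/-- The number of set bits below 96. -/
def pop96 (m : ℕ) : ℕ :=
  popcount (m % 16777216) + popcount ((m >>> 24) % 16777216) +
    popcount ((m >>> 48) % 16777216) + popcount ((m >>> 72) % 16777216)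

/-- The number of common fixed hexads. -/
def fHit (i : Bool) (s t : Seed) (a b : ℕ) : ℕ :=
  pop96 (pmask i s (phiIdx a) &&& pmask i t (phiIdx b))

/-- The weight of a pair. -/
def wz (i : Bool) (s t : Seed) (a b : ℕ) : ℕ :=
  let f := fHit i s t a b
  bif f == 0 then 0 else 90090 / f

/-- The trivial weight. -/
def wOne (_ _ : Seed) (_ _ : ℕ) : ℕ := 1

/-- Fixing the anchor of a candidate, on codes. -/
def anchorOK (i : Bool) (g : ℕ) : Bool :=
  if i then imgMask g anchorMask == anchorMask else fn g anchorIdx == anchorIdx

/-- A coded permutation fixes a hexad given with five of its points. -/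
def hexFixed (p : ℕ) (h : ℕ × List ℕ) : Bool := h.2.all fun k => h.1.testBit (fn p k)

/-- The hexads fixed by a coded permutation, as bits. -/
def hexMask (p : ℕ) : List (ℕ × List ℕ) → ℕ
  | [] => 0
  | h :: l => (bif hexFixed p h then 1 else 0) + 2 * hexMask p l

/-- The image of the seed is pinned by the anchor and by its action on the octad group. -/
def auxOK (i : Bool) (s : Seed) : Bool :=
  let g := gOf i s
  isAut g && imgMask g oM == oM && anchorOK i g &&
    (List.range 11).all (fun k =>
      let A := ACode (phiIdx (2 ^ k))
      let B := ACode (phiIdx (act s.code (2 ^ k)))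
      (List.range 24).all fun n => fn g (fn A n) == fn B (fn g n)) &&
    (List.range 16).all fun j => pmask i s j == hexMask (Order.comp (ACode j) g) hexList

/-- The code of the image of an element over a seed. -/
def imgCode (i : Bool) (s : Seed) (a : ℕ) : ℕ := Order.comp (ACode (phiIdx a)) (gOf i s)

/-- The image is inner. -/
def innerHit (i : Bool) (s : Seed) (a : ℕ) : Bool :=
  fn (ACode (phiIdx a)) (fn (gOf i s) 23) == 23

/-- The image is outer without fixed points. -/
def freeHit (i : Bool) (s : Seed) (a : ℕ) : Bool :=
  !innerHit i s a && (List.range 24).all fun k => fn (ACode (phiIdx a)) (fn (gOf i s) k) != k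

/-- The images commute. -/
def commHit (i : Bool) (s t : Seed) (a b : ℕ) : Bool :=
  let p := imgCode i s a
  let p' := imgCode i t b
  (List.range 24).all fun k => fn p (fn p' k) == fn p' (fn p k)

/-- The count of common hexads divides `90090`; commuting images, inner and free, have one label. -/
def goodHit (masks : ℕ × ℕ) (i : Bool) (r : PairRow) (p : ℕ × ℕ) : Bool :=
  let f := fHit i r.s r.t p.1 p.2
  (f == 0 || 90090 % f == 0) &&
    ((r.s.lab masks p.1 == r.t.lab masks p.2) ||
      !(innerHit i r.s p.1 && freeHit i r.t p.2 && !(imgCode i r.s p.1 == idCode) &&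
        commHit i r.s r.t p.1 p.2))

/-- The images without fixed points outside M22 have the label of the second class over the octad. -/
def freeLabOK (masks : ℕ × ℕ) (i : Bool) (s : Seed) : Bool :=
  fixOK s.code && (fixList s.code).all fun a => !freeHit i s a || s.lab masks a == 1

end Cfsg.Agent.J4Type.Order
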