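import Cfsg.Agent.Lib.J4Type.Order.CertDefs

/-
Groups of Janko-four type, order formula: tables and checks of some rows over the sextet stabiliser (owner: helper43; generated).
-/

set_option autoImplicit false
set_option maxRecDepth 100000

namespace Cfsg.Agent.J4Type.Order

def chunkS3 : List PairRow := (rowsS.drop 60).take 20

theorem chunkS3_ok : (chunkS3.all fun r => r.ok xS) = true := by decide +kernel

def totS3c0 : List ℕ :=
  [0, 3993753600, 3116620800, 3116620800, 0, 0, 0, 161740800, 34045194240, 285850874880, 285850874880, 0, 0, 0, 0, 0, 0, 0, 0, 0, 0, 0, 0, 0, 0, 0, 0, 0, 0, 0, 0, 0, 0, 0, 0, 0, 0, 0, 0, 0, 0, 0, 0, 0, 0, 0, 0, 0, 0]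

theorem chunkS3c0_tot : totTab 49 (chunkS3.map (PairRow.entry xS labD.masks (wz false))) = totS3c0 := by
  decide +kernel

theorem chunkS3c0_good : (chunkS3.all fun r => (r.hits xS).all (goodHit labD.masks false r)) = true := by
  decide +kernel

theorem chunkS3c0_aux : (chunkS3.all fun r => auxOK false r.t) = true := by decide +kernel

def totS3c1 : List ℕ :=
  [0, 3993753600, 3116620800, 3116620800, 0, 0, 0, 161740800, 34045194240, 285850874880, 285850874880, 0, 0, 0, 0, 0, 0, 0, 0, 0, 0, 0, 0, 0, 0, 0, 0, 0, 0, 0, 0, 0, 0, 0, 0, 0, 0, 0, 0, 0, 0, 0, 0, 0, 0, 0, 0, 0, 0]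

theorem chunkS3c1_tot : totTab 49 (chunkS3.map (PairRow.entry xS labD.masks (wz true))) = totS3c1 := by
  decide +kernel

theorem chunkS3c1_good : (chunkS3.all fun r => (r.hits xS).all (goodHit labD.masks true r)) = true := by
  decide +kernel

theorem chunkS3c1_aux : (chunkS3.all fun r => auxOK true r.t) = true := by decide +kernel

end Cfsg.Agent.J4Type.Order
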