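import Cfsg.Agent.Lib.J4Type.Order.SeedsT

/-
Groups of Janko-four type, order formula: tables of the rows over the duad stabiliser (owner: helper43; generated).
-/

set_option autoImplicit false
set_option maxRecDepth 100000

namespace Cfsg.Agent.J4Type.Order

def chunkT0 : List PairRow := (rowsT.drop 0).take 20

def totT0 : List ℕ :=
  [0, 141944880, 0, 0, 0, 0, 0, 369027120, 1532916000, 0, 0, 0, 0, 0, 0, 0, 0, 0, 0, 0, 0, 0, 0, 0, 0, 0, 0, 0, 591360, 4139520, 0, 0, 1540, 231, 0, 84480, 591360, 0, 0, 231, 44, 1, 0, 0, 0, 0, 0, 1, 0]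

theorem chunkT0_tot : totTab 49 (chunkT0.map (PairRow.entry xT labD.masks fun _ _ _ _ => 1)) = totT0 := by
  decide +kernel

theorem chunkT0_ok : (chunkT0.all fun r => r.ok xT) = true := by decide +kernel

def chunkT1 : List PairRow := (rowsT.drop 20).take 20

def totT1 : List ℕ :=
  [0, 234178560, 0, 0, 591360, 84480, 0, 7096320, 723824640, 0, 0, 4139520, 591360, 0, 0, 0, 0, 0, 0, 0, 0, 0, 0, 0, 0, 0, 0, 0, 0, 0, 0, 0, 0, 0, 0, 0, 0, 0, 0, 0, 0, 0, 0, 0, 0, 0, 0, 0, 0]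

theorem chunkT1_tot : totTab 49 (chunkT1.map (PairRow.entry xT labD.masks fun _ _ _ _ => 1)) = totT1 := by
  decide +kernel

theorem chunkT1_ok : (chunkT1.all fun r => r.ok xT) = true := by decide +kernel

def chunkT2 : List PairRow := (rowsT.drop 40).take 20

def totT2 : List ℕ :=
  [4736160, 0, 0, 0, 0, 0, 0, 0, 33153120, 0, 0, 0, 0, 0, 0, 0, 0, 0, 0, 0, 0, 0, 0, 0, 0, 0, 0, 0, 0, 0, 0, 0, 0, 0, 0, 0, 0, 0, 0, 0, 0, 0, 0, 0, 0, 0, 0, 0, 0]

theorem chunkT2_tot : totTab 49 (chunkT2.map (PairRow.entry xT labD.masks fun _ _ _ _ => 1)) = totT2 := by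
  decide +kernel

theorem chunkT2_ok : (chunkT2.all fun r => r.ok xT) = true := by decide +kernel

def chunkT3 : List PairRow := (rowsT.drop 60).take 20

def totT3 : List ℕ :=
  [0, 0, 0, 0, 0, 0, 0, 0, 0, 0, 0, 0, 0, 0, 0, 0, 0, 1163840832, 0, 0, 0, 0, 0, 1163840832, 0, 0, 0, 0, 0, 0, 0, 0, 0, 0, 0, 0, 0, 0, 0, 0, 0, 0, 0, 0, 0, 0, 0, 0, 0]

theorem chunkT3_tot : totTab 49 (chunkT3.map (PairRow.entry xT labD.masks fun _ _ _ _ => 1)) = totT3 := by
  decide +kernel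

theorem chunkT3_ok : (chunkT3.all fun r => r.ok xT) = true := by decide +kernel

end Cfsg.Agent.J4Type.Order
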