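import Cfsg.Agent.Lib.J4Type.Order.Stab

/-
Groups of Janko-four type, order formula: lists of the involutions of the stabiliser of a point of the cocode
(owner: helper43; generated).
-/

set_option autoImplicit false
set_option maxRecDepth 100000

namespace Cfsg.Agent.J4Type.Order

def xS : ℕ := 834

def rowS0 : Row :=
  ⟨0xbdab49ca307b9ac5a928398a418820, 1,
   [(0x19ec68a4457056f520979b010a49b5, 0x4540338a6463c266ae4ab5209bc5c5),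
    (0xac513b428b349ec71ee9515a418022, 0x4cef1a3ad26acac81d1553cc418022)],
   [(0xbdab49ca307b9ac5a928398a418820, []),
    (0x5c613a22d56a5ecba9d2394c418820, [[[0,1]],
      [[0,1],[0]],
      [[0,1],[0,1],[0,1]],
      [[0,1],[0,1],[0,1],[0,1],[1],[0,1]],
      [[1],[0],[0,1],[0,1],[1],[0,1],[0,1],[0],[0,1],[0,1],[0,1]],
      [[0,1],[0,1],[1],[0,1],[1],[0],[0,1],[0,1],[0,1],[1],[0],[0,1],[1],[0,1],[0,1],[1],[],[0]],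
      [[0,1],[0,1],[1],[0,1],[0,1],[0],[0,1],[0],[0,1],[0,1],[0],[1],[1],[0,1],[],[0],[],[1],[0,1],[0,1],[0,1],[0],[0],[1],[0,1],[0,1]],
      [[],[0,1],[1],[0],[0,1],[0,1],[0],[0,1],[0,1],[0,1],[0,1],[0],[],[],[0,1],[0,1],[0,1],[0,1],[1],[0,1],[0],[],[0,1],[0],[0],[1],[0,1],[0,1],[],[0,1],[1],[],[0,1],[0,1],[],[0,1],[1]],
      [[0],[0],[],[],[1],[],[],[1],[1],[],[],[1],[],[],[],[],[0],[1],[0,1],[0,1],[],[1],[1],[0],[0],[],[0,1],[1],[],[0,1],[],[],[],[],[],[0,1],[],[],[],[],[],[],[],[],[0],[0,1],[],[],[]],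
      [[],[],[],[],[],[],[],[],[],[],[],[],[],[],[],[],[],[],[],[],[],[],[1],[],[],[]]]),
    (0x8adb2452ef816acb28d33a5c418820, [[[0,1]],
      [[0,1],[0]],
      [[1],[0],[0,1]],
      [[0],[0,1],[0,1],[0,1]],
      [[0,1],[0],[0,1],[0],[0],[0],[]],
      [[1],[0],[0],[0],[0,1],[],[1],[]],
      [[0,1],[0],[0,1],[0],[1],[0],[0]],
      [[1],[],[0,1],[],[0],[],[],[],[]]]),
    (0x8da6fac2f2a390c59ccd524a410c20, [[[0,1]],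
      [[0,1],[0,1]],
      [[0,1],[0,1],[0,1],[0,1]],
      [[0,1],[0,1],[0,1],[0,1],[0,1],[0,1],[1],[0]],
      [[0,1],[0,1],[0,1],[0,1],[0,1],[0,1],[0,1],[0],[0],[0,1],[0,1],[0,1],[0],[0,1]],
      [[0,1],[0],[0,1],[0,1],[0,1],[0,1],[1],[0],[0,1],[0,1],[0,1],[0,1],[0,1],[1],[0,1],[0,1],[0,1],[0,1],[0,1],[0,1],[1],[0],[0,1],[1],[0]],
      [[0,1],[0],[0,1],[0,1],[0,1],[0,1],[0],[0],[0,1],[0],[0],[0,1],[0,1],[0],[1],[1],[0],[0,1],[0,1],[0,1],[0],[1],[0,1],[1],[],[0,1],[1],[0,1],[0,1],[0,1],[0],[0],[0,1],[1],[1],[0,1],[0,1],[0,1],[0,1],[0,1],[0,1],[0,1]],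
      [[1],[0],[0],[1],[0],[0,1],[0,1],[0,1],[0,1],[0,1],[],[0,1],[],[0,1],[0],[0,1],[0],[0,1],[0,1],[1],[0,1],[1],[0],[0],[0,1],[0],[0],[0],[0,1],[1],[0],[0],[0],[1],[],[0],[0],[0,1],[],[0,1],[0,1],[0],[0],[1],[0],[0,1],[0,1],[0,1],[0],[],[1],[1],[],[0],[0,1],[0,1],[1],[1],[0,1],[0],[],[],[0],[1],[0]],
      [[],[0,1],[1],[0,1],[0],[0,1],[0,1],[0,1],[0],[0,1],[0,1],[0,1],[0],[],[0],[1],[1],[0],[0,1],[],[0],[1],[0],[0],[0],[],[],[0,1],[0],[1],[0],[0,1],[],[0,1],[0],[0],[0,1],[0,1],[],[],[0],[1],[0],[],[0],[1],[0],[1],[],[0],[],[0],[],[],[0],[1],[0,1],[1],[0],[1],[],[1],[],[0,1],[],[0,1],[1],[0,1],[],[0],[1],[0],[0],[],[0],[],[0,1],[],[]],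
      [[],[0],[1],[1],[],[0],[],[0],[0],[0],[0,1],[0],[],[0],[],[],[0],[1],[],[1],[],[1],[0],[],[0,1],[1],[0,1],[],[],[],[],[1],[],[],[0],[],[1],[0],[1],[0,1],[],[1],[0],[],[1],[],[],[],[],[],[0,1],[],[],[],[],[],[],[1],[],[],[],[0],[],[0],[],[],[],[],[],[0],[],[],[],[],[],[],[]],
      [[],[],[],[0],[0],[],[],[0],[],[],[0],[],[],[],[],[1],[],[],[],[],[],[],[],[],[],[],[],[],[],[],[],[],[],[],[],[],[1]]]),
    (0x52e68ac0f26b1eeb5cd48a48510c01, [[[0,1]],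
      [[0,1],[0,1]],
      [[0,1],[0,1],[0,1],[0,1]],
      [[0,1],[0,1],[0,1],[0,1],[0,1],[1],[1],[0]],
      [[0,1],[0,1],[0,1],[0,1],[0,1],[0,1],[0,1],[0],[0,1],[0,1],[0,1],[0],[0,1]],
      [[1],[0,1],[0,1],[0,1],[0,1],[0,1],[0,1],[0],[0,1],[0,1],[0,1],[0,1],[0,1],[0,1],[0,1],[0,1],[0,1],[0,1],[0,1],[0,1],[0],[0,1],[0,1],[0,1]],
      [[0,1],[0,1],[0,1],[0,1],[0,1],[1],[0],[0,1],[0,1],[0],[0,1],[1],[1],[0,1],[0,1],[0,1],[0,1],[0,1],[0,1],[0],[0,1],[0],[1],[0],[1],[0,1],[0,1],[0,1],[1],[0,1],[0,1],[0,1],[0,1],[0,1],[0],[0],[0,1],[0,1],[0,1],[0,1],[0,1],[1],[0,1],[0],[0,1]],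
      [[0],[0,1],[1],[],[0,1],[0],[0,1],[0,1],[0,1],[0,1],[0],[0],[0],[0,1],[0,1],[0,1],[0,1],[0,1],[0],[0,1],[0,1],[1],[0],[0,1],[0,1],[0,1],[0,1],[1],[0],[0,1],[0],[0,1],[0,1],[0],[0,1],[0,1],[0,1],[],[0],[0,1],[0,1],[0],[0,1],[0,1],[0],[0],[],[0,1],[0,1],[1],[0,1],[0,1],[0],[0,1],[0,1],[0],[0,1],[0,1],[],[0,1],[0,1],[0,1],[0,1],[0,1],[0,1],[0,1],[],[0],[0,1],[1],[],[0,1],[0,1],[],[0]],
      [[0,1],[1],[],[0,1],[0],[0,1],[1],[0],[0,1],[0,1],[],[1],[1],[0,1],[0],[0,1],[0],[0,1],[1],[1],[1],[0,1],[1],[],[0,1],[0,1],[1],[],[0],[0],[1],[1],[0],[0],[0],[],[0],[0,1],[0,1],[0,1],[0,1],[],[],[0,1],[0,1],[0,1],[0,1],[0,1],[0,1],[0],[],[1],[0,1],[0,1],[0],[0,1],[0],[0],[0,1],[0],[],[0],[],[0,1],[1],[0,1],[0,1],[],[],[0],[0],[0],[0,1],[0,1],[0],[1],[0,1],[0,1],[],[],[],[1],[1],[1],[0,1],[0,1],[1],[],[1],[0],[0,1],[1],[0],[],[0,1],[0],[0,1],[0],[1],[],[1],[0,1],[1],[0],[1],[0,1],[],[1],[],[],[1],[],[0]],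
      [[1],[0],[1],[],[],[1],[1],[0,1],[1],[],[],[],[0],[0],[1],[0],[0],[0],[],[],[],[0,1],[0],[],[],[],[],[1],[0],[0],[0,1],[1],[],[1],[],[],[],[0],[],[0],[1],[0],[0],[1],[0],[],[0],[1],[],[0],[0,1],[0,1],[],[],[],[1],[0],[0],[0,1],[1],[0,1],[],[],[0],[0],[],[],[1],[1],[0],[1],[],[0],[1],[1],[0],[1],[0],[0,1],[1],[1],[1],[0,1],[1],[],[1],[],[],[],[1],[],[0,1],[1],[],[1],[],[],[0],[],[0,1],[],[],[],[],[1],[],[],[],[],[],[0],[0],[],[],[],[1],[0,1],[1],[0],[1],[],[],[],[],[],[],[],[],[1],[0]],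
      [[],[],[0,1],[0],[0],[],[],[0,1],[],[],[0],[],[0],[0],[1],[0,1],[],[],[],[],[],[],[1],[],[0,1],[1],[],[],[1],[],[],[0],[],[1],[],[],[],[1],[],[],[0,1],[],[],[0],[],[],[0],[],[1],[],[0],[],[],[],[],[],[],[],[1],[],[],[],[0],[],[],[],[],[],[],[],[],[0,1],[],[],[],[],[],[],[],[],[],[],[],[],[],[0,1]],
      [[],[],[0],[0],[],[],[],[],[],[],[],[],[],[],[],[],[],[],[0],[],[],[0],[],[],[],[0],[0],[],[],[1],[],[]]]),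
    (0x89a4d456ef8168a4b173259c710c01, [[[0,1]],
      [[0,1],[0]],
      [[0,1],[0,1],[1]],
      [[0],[],[],[0,1],[0,1]],
      [[0,1],[],[],[],[]]]),
    (0x5ba70aa1346d9e3b8a32094c0628e4, [[[0,1]],
      [[0,1],[0]],
      [[0,1],[0,1],[0,1]],
      [[1],[0,1],[0,1],[0,1],[0,1],[0,1]],
      [[0],[0,1],[0,1],[0,1],[0,1],[0,1],[0],[0,1],[0,1],[0,1],[0,1]],
      [[0,1],[0,1],[0,1],[1],[0],[0,1],[0,1],[0],[0,1],[0,1],[0],[0,1],[0,1],[1],[0,1],[0,1],[0,1],[1],[0,1],[0]],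
      [[0,1],[0,1],[0,1],[0,1],[0,1],[0,1],[0],[0,1],[0,1],[0],[1],[0],[0,1],[0],[0],[0,1],[0],[0,1],[0,1],[0,1],[1],[0,1],[0,1],[0],[0],[0,1],[0],[0,1],[1],[0,1],[0],[],[0,1]],
      [[0,1],[0,1],[0],[0],[1],[0],[0,1],[0,1],[0],[1],[0,1],[0],[0,1],[1],[],[0],[0,1],[0,1],[0,1],[0,1],[0],[0,1],[0,1],[0,1],[1],[0],[0,1],[],[0],[0,1],[0,1],[0],[0,1],[0],[0],[0,1],[1],[0],[0],[0],[0,1],[0],[0,1],[0,1],[0,1],[0,1],[1],[0],[0,1],[0,1],[1]],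
      [[0,1],[0,1],[1],[0],[],[0,1],[0],[1],[0,1],[0],[0,1],[0],[1],[],[0],[0],[0,1],[0,1],[0,1],[0,1],[0],[0],[0,1],[1],[],[0],[1],[0,1],[],[],[0,1],[0,1],[0,1],[0,1],[1],[1],[0],[0,1],[1],[0],[0],[0,1],[0],[1],[0],[0],[],[],[0,1],[],[1],[0],[],[],[0,1],[0,1],[],[0],[1],[1],[1],[1],[1],[],[0,1],[],[0],[0,1],[0,1],[],[0],[1],[0],[0,1]],
      [[1],[0,1],[0,1],[0],[0,1],[1],[1],[1],[0],[0],[0,1],[],[],[1],[],[0],[1],[0,1],[],[0,1],[0,1],[0],[0],[0],[0],[1],[],[],[],[],[],[],[0],[],[],[0],[0],[1],[],[],[],[],[],[1],[0],[0],[0],[],[],[0],[0],[],[1],[],[],[1],[1],[],[],[],[0],[0],[],[1],[1],[0],[],[],[0],[0],[],[0,1],[1],[],[1],[],[0],[],[],[0],[],[],[],[]],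
      [[0],[0],[1],[],[],[],[0],[],[],[],[],[],[],[1],[1],[],[0],[1],[1],[],[],[0,1],[],[0],[],[],[],[0],[],[],[],[1],[],[],[],[],[],[1],[],[],[0],[],[],[],[0,1],[],[],[],[],[],[],[],[],[],[]],
      [[],[1],[],[],[],[],[1],[],[],[],[],[],[],[],[],[],[],[]]])],
   []⟩

def rowS1 : Row :=
  ⟨0x5c613a22d56a5ecba9d2394c418820, 180,
   [(0x9c8d68ad0574122a02b70b5e3230ea, 0x4512bbda6e2bcc2901b10d603230ea),
    (0xa3e375b9b6354a79b2095224408803, 0xa41d7596a9b4a2a99d0663da400861),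
    (0x2da0f6ce3595d00309740a5c3530e4, 0x75a0893e35a166248ccd0aee0228ec)],
   [(0xbdab49ca307b9ac5a928398a418820, []),
    (0x5c613a22d56a5ecba9d2394c418820, []),
    (0x7d6c971a11bcd6c6aa853c90418820, [[[1,2]],
      [[1,2],[1]],
      [[0],[0],[]]]),
    (0xb5de894d6da9a0c8a8b43b92418820, [[[1]],
      [[0]]]),
    (0x8adb2452ef816acb28d33a5c418820, [[[1]],
      [[0]]]),
    (0x55a0f94cf5a310e5dd2d8988518820, [[[0,1,2]],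
      [[0,1,2],[2],[0,1]],
      [[0,1,2],[0,2],[0,2],[0,1],[0,1,2],[2]],
      [[],[],[0,2],[0],[],[2],[],[2],[],[0,1],[0],[],[1]]]),
    (0x63eb44c946b1db74466b7408518820, [[[0,1,2]],
      [[0,1,2],[0,2],[0,1]],
      [[0,1,2],[2],[0,1],[0,1,2],[0,1],[0,2],[0,2]],
      [[2],[0,1,2],[0,1],[1,2],[0,2],[2],[1,2],[],[0],[0,2],[0,2],[],[1],[0],[0]],
      [[1],[0,1,2],[2],[1],[2],[2],[2],[],[0,1],[1],[1],[],[],[],[],[],[],[],[0],[],[]],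
      [[],[],[],[1],[],[2],[],[1],[],[],[],[],[],[]]]),
    (0xb99b28523343aaa4b16f258a718820, [[[0,1,2]],
      [[1,2],[0,1,2],[0,1]],
      [[1,2],[],[2],[1,2],[],[2],[0]],
      [[0,1],[1],[0,1],[],[],[1],[]]]),
    (0x8da6fac2f2a390c59ccd524a410c20, [[[0,1,2]],
      [[1,2],[0,2],[1,2]],
      [[0,1,2],[0],[0,1,2],[0,2],[1],[1,2]],
      [[0],[],[],[0],[],[],[],[],[],[],[],[]]]),
    (0xbd136819d37c56a6b2a83c8a410c20, [[[0,1,2]],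
      [[0,1,2],[0,1,2],[0,1]],
      [[0,2],[0,1,2],[0,1,2],[1,2],[0,1,2],[0,1,2],[1,2],[0]],
      [[1,2],[0,1],[1,2],[0,1],[0,2],[2],[0,1,2],[0,1,2],[0,2],[0,2],[1],[1],[1,2],[],[0,1,2],[0,2],[1,2],[1,2],[1,2]],
      [[1],[0,1],[1],[0],[1],[2],[],[1,2],[1,2],[0],[1],[1,2],[],[0],[],[],[],[],[],[],[],[],[1,2],[2],[],[],[],[],[],[1],[0],[],[2],[2],[],[1]],
      [[],[],[],[1],[1],[],[],[2],[],[],[2],[],[],[0],[],[],[],[],[],[],[],[],[],[]]]),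
    (0x3da54855537b1ae5c4c8ba48510c20, [[[0,1,2]],
      [[0,1,2],[0,1,2],[0,1,2]],
      [[0,1,2],[0,1,2],[0,1,2],[0,1,2],[0,1,2],[0,1,2],[0,1,2],[0,1,2],[0,1,2]],
      [[1,2],[0,1,2],[0,1,2],[0,1,2],[0,1,2],[0,1],[0,1,2],[0,2],[0,1],[0,2],[0,1],[0,1,2],[1,2],[0],[0,1],[0,1,2],[0],[0,1,2],[0,1],[0,1,2],[1],[0],[0,1],[0,1],[],[0,1,2],[0]],
      [[0,1,2],[0,1,2],[0,2],[0,1,2],[0,1,2],[0,1,2],[0],[2],[0,2],[0,2],[0,1],[2],[2],[1],[0,1,2],[0,1,2],[0,1],[0,2],[1],[0,1,2],[0,1],[],[1],[1,2],[],[],[0,2],[],[0,2],[],[2],[1],[2],[1],[2],[1,2],[2],[1],[],[],[2],[],[],[0],[1,2],[0],[0,2],[0,1],[],[2],[1],[1],[0],[1],[],[],[]],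
      [[1],[0],[],[2],[],[],[],[1],[],[],[0],[],[],[],[0],[0,1,2],[1],[],[0],[],[],[],[0],[],[2],[],[],[2],[],[],[],[1],[],[],[],[],[],[],[],[],[],[],[],[0],[],[],[0],[],[],[0],[],[0],[],[0],[],[],[],[],[],[2],[],[],[],[],[],[],[],[],[],[],[],[],[],[]]]),
    (0x8adf3a22edaba04b2932398ac10c20, [[[0,1,2]],
      [[1,2],[0,1,2],[0,2]],
      [[0,1,2],[],[0,1,2],[2],[1,2],[0],[0,1]],
      [[0],[],[],[],[],[],[],[],[],[],[],[]]]),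
    (0x52e68ac0f26b1eeb5cd48a48510c01, [[[0,1,2]],
      [[0,1,2],[0,1,2],[0,1,2]],
      [[0,1,2],[0,1,2],[0,2],[0,2],[0,1,2],[0,1,2],[0,1,2],[0,1,2],[0,2]],
      [[1],[0,1],[0,1,2],[0,1],[0,1,2],[0,1],[1,2],[0,1],[0,2],[0,1,2],[],[],[1],[1,2],[0],[0,1,2],[0,1],[0,1],[],[0],[0,1],[1],[],[0]],
      [[0,2],[],[0,2],[0,2],[0],[],[0,2],[],[2],[],[],[0,1,2],[1],[0],[1],[],[],[1,2],[],[],[],[],[],[],[],[],[],[2],[],[],[],[2],[],[],[2],[],[],[]]]),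
    (0x3b52b8199342ad1a3aafbc88510c01, [[[0,1,2]],
      [[0,1,2],[0,1,2],[0,1,2]],
      [[0,1,2],[0,1,2],[0,1,2],[0,2],[0,1,2],[0,1],[0,2],[0,1,2],[0,1,2]],
      [[1,2],[0,2],[0,1],[0,2],[0,1,2],[0,1],[0,2],[0,1,2],[0,1,2],[0,1,2],[0,1],[0,2],[2],[0,1,2],[0,1,2],[2],[0,1],[1,2],[0],[0],[],[],[],[1,2]],
      [[0,2],[0,1],[0,2],[0,1],[0,2],[0,1,2],[0,1,2],[0,1],[0,2],[],[1,2],[0,1,2],[2],[0,1],[1,2],[0],[0],[],[],[],[1,2],[1,2],[1],[],[],[2],[1],[0,1],[],[2],[1,2],[1,2],[1],[1,2],[1],[0],[2],[0,2],[0,1],[],[0,2],[2],[],[]],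
      [[0,2],[0],[0,2],[1,2],[0],[0,1],[2],[2],[0],[1,2],[],[0],[],[1,2],[1],[],[],[2],[1],[1],[1,2],[2],[],[1,2],[1],[0],[2],[0,2],[0,1],[],[0,2],[2],[],[],[],[],[],[],[],[],[0,2],[],[],[],[],[],[2],[2],[],[],[],[],[],[],[],[],[],[],[0]],
      [[],[0,1],[2],[0],[1],[],[],[2],[],[2],[],[],[],[],[],[2],[],[],[],[],[],[2],[],[],[],[2],[],[],[],[],[],[],[],[],[],[],[],[],[],[],[],[]]]),
    (0xba6959b6307ba4a332c822ca710c01, [[[0,1,2]],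
      [[1,2],[2],[0,1]],
      [[0,1],[],[1],[],[]]]),
    (0x7d13672e11bccca932a52350710c01, [[[0,1,2]],
      [[1,2],[1,2],[0,1]],
      [[1,2],[0],[1,2],[0],[1,2],[0]],
      [[0],[2],[],[1],[],[],[2],[],[1]]]),
    (0x89a4d456ef8168a4b173259c710c01, [[[0,1,2]],
      [[2],[0,1,2],[1]],
      [[1],[],[0,2],[],[]]]),
    (0xbd9b24522f83aa459d33518ac10c01, [[[0,1,2]],
      [[],[0,2],[]]]),
    (0x5c5e894ecdaa604b9dd4514cc10c01, [[[0,1,2]],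
      [[],[0,2],[]]]),
    (0x3390f6c132a5a6429e3555d6c10c01, [[[1,2]],
      [[0,1],[]],
      [[2],[]]]),
    (0x71a95834b345e4449d6f55a2c10c01, [[[1,2]],
      [[0,1],[]],
      [[2],[]]]),
    (0xba695849d37c5a358ac8098a0628e4, [[[0,1]],
      [[0,1],[0,1]],
      [[0],[0,1,2],[],[]],
      [[1],[],[],[]]]),
    (0x5ba70aa1346d9e3b8a32094c0628e4, [[[0,1]],
      [[0,1],[0,1]],
      [[0],[0,1,2],[],[]],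
      [[1],[],[],[]]]),
    (0x7d13689a6ebc16368aa50c900628e4, [[[0,1,2]],
      [[0,1,2],[0,1,2],[0,1]],
      [[0],[1,2],[0],[1],[0,2],[1],[1],[]],
      [[2],[0],[0],[],[],[],[],[],[]]]),
    (0xbd6c999a307b96268e880c8a0530e4, [[[1,2]],
      [[1,2],[0,1]],
      [[0,1],[0,2],[1],[]],
      [[1],[1],[],[],[1]],
      [[],[2],[]]]),
    (0x8b566426ef816c2a8e530d1c0530e4, [[[1,2]],
      [[0,1,2],[0,1,2]],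
      [[1,2],[0,1,2],[0,2],[1],[0,1,2],[0,1,2]],
      [[1,2],[1,2],[1,2],[1,2],[],[1,2],[0],[1,2],[1],[],[],[],[1],[0]],
      [[0],[0,2],[2],[],[2],[2],[2],[],[],[2],[],[],[],[0],[],[]]]),
    (0x71a547d6309dda2585281d8a03b144, [[[0,1,2]],
      [[0,1,2],[0,2],[0,1]],
      [[0],[],[],[],[],[],[]]]),
    (0x9c8c9bda1173d62686851d5003b144, [[[0,1,2]],
      [[0,1,2],[0,1,2],[0,2]],
      [[0,1,2],[],[1],[2],[0],[],[],[1,2]],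
      [[2],[2],[],[0],[],[2],[],[]]]),
    (0x33a68abd6d95a02884b41dd203b144, [[[0,1,2]],
      [[0,1,2],[0,1],[0,2]],
      [[0],[],[],[],[],[],[]]]),
    (0xbda70abe34939015892d198a03a984, [[[0,1,2]],
      [[2],[1],[]]]),
    (0x5c695836d342641b89cf194c03a984, [[[0,1,2]],
      [[2],[1],[]]]),
    (0xb5e4d7d56899a81888b01b9203a984, [[[0,1,2]],
      [[1,2],[0,1,2],[0]],
      [[],[],[2],[1],[],[]]]),
    (0x1c8c93d84c505706be849d408bc5c5, [[[0,1,2]],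
      [[0,1,2],[0,1,2],[0,1,2]],
      [[0,1,2],[0,1,2],[0,1,2],[0,2],[0,1,2],[0],[0,2],[0,1,2],[0,1,2]],
      [[1,2],[0,1,2],[0,1],[0,1,2],[0,1,2],[0,1],[0,1,2],[0,2],[0],[2],[0,1,2],[0,1,2],[0,2],[0,1,2],[0,1,2],[0,1,2],[1],[0,1],[0],[0,1],[0],[],[0,1]],
      [[1,2],[0,1],[0,2],[1,2],[0],[0,2],[0,2],[1,2],[0,1,2],[0],[2],[],[1],[1],[2],[0],[1],[1,2],[0,1,2],[0],[0],[0],[],[0,2],[2],[1],[0,2],[0,1,2],[],[0],[2],[2],[1,2],[1,2],[1,2],[1],[2],[0,2],[2],[0,1,2],[0,2],[0],[2],[1],[0,1],[2],[],[2]],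
      [[],[],[2],[2],[],[1,2],[2],[],[],[],[2],[1],[0,1],[2],[],[2],[],[],[],[1],[2],[],[],[1,2],[2],[0,1],[2],[0,2],[],[],[2],[],[],[0],[],[0],[2],[],[0],[],[2],[],[2],[],[],[2],[],[],[],[2],[],[],[0],[1],[0,1],[],[],[0],[],[1],[],[],[],[],[],[],[0],[]],
      [[],[],[2],[],[],[],[],[],[1],[],[],[],[],[],[],[],[],[],[0],[],[],[],[],[],[],[],[],[],[],[],[],[],[],[],[],[],[]]]),
    (0x1b26fac052a05162254d31c0bbc5c5, [[[0,1,2]],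
      [[0,1,2],[0,2],[0,1,2]],
      [[0,1,2],[0,1,2],[0,2],[0,2],[0,2],[0,2],[1,2],[1]],
      [[],[0],[0,1],[0,1],[],[0],[2],[0,1],[],[0,1],[2],[],[],[],[],[1],[]],
      [[2],[2],[],[2],[],[0],[1],[],[],[],[],[],[]],
      [[1],[],[],[],[]]]),
    (0x191f3a204da860b618f24a816bc5c5, [[[0,1,2]],
      [[0,1,2],[0,1,2],[0,1,2]],
      [[0,1,2],[0,1,2],[],[0,2],[2],[2],[0,2],[1,2],[1]],
      [[1],[],[0,1,2],[0,1],[],[0],[2],[1,2],[0,1],[],[],[],[0],[],[0]],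
      [[2],[0],[1],[],[2],[],[0],[],[],[],[2],[],[],[]]]),
    (0x11e4d4546f8068952d93b10068ddc5, [[[0,1,2]],
      [[0,2],[0,1,2],[0,1,2]],
      [[0,1,2],[0,1],[0,2],[0,1,2],[0],[0,1,2],[0,2],[0,2]],
      [[1],[],[0,2],[2],[0],[0],[0,1],[1],[],[],[0,2],[0,1],[0],[],[0],[0],[],[]],
      [[],[],[],[1],[],[2],[],[],[],[],[],[],[],[],[],[]]]),
    (0x132b49c870785b6218e84a80b8ddc5, [[[0,1,2]],
      [[0,1],[2],[0,1]],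
      [[1,2],[2],[],[0,2],[]],
      [[0],[0],[],[],[]]]),
    (0x1d8ea9b030788925d128a980dbba25, [[[0,1,2]],
      [[0,1,2],[1,2],[0,1]],
      [[0,1],[0,2],[0,1,2],[0,2],[0],[],[1,2]],
      [[1,2],[0],[],[0],[0],[],[],[0],[1],[0],[],[]],
      [[],[],[0],[],[],[],[],[]]]),
    (0x1ad47790289898db54d0a2412bba25, [[[0,1,2]],
      [[0,1,2],[0,1,2],[0,1,2]],
      [[0,1,2],[0,1,2],[0,1,2],[0,2],[0,1,2],[0],[0,2],[0,1,2],[0,1,2]],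
      [[2],[0,2],[1],[0,2],[0,1,2],[0,1],[0,2],[0,1,2],[0,1],[0,2],[0],[0,2],[],[0,2],[0,1,2],[1],[1,2],[],[0],[],[],[],[1,2]],
      [[1],[],[0],[0,2],[0,1],[1],[0],[],[1,2],[0],[],[],[1,2],[0],[0],[],[],[],[1],[],[],[1],[],[2],[1,2],[],[2],[],[0],[0],[],[2],[],[]],
      [[1],[],[],[],[],[],[],[1],[],[],[],[],[],[],[],[],[],[],[],[],[],[],[],[]]]),
    (0xbda13a22356b9e358132098a2610ea, [[[0]]]),
    (0xb5db24516f81aa3880b30b922610ea, [[[0,1,2]],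
      [[],[0,2],[]]])],
   [[[0,1,2]],
    [[0,1,2],[0,1,2],[0,1,2]],
    [[0,1,2],[0,1,2],[0,1,2],[0,1,2],[0,1,2],[0,1,2],[0,1,2],[0,1,2],[0,1,2]],
    [[1,2],[0,1,2],[0,1,2],[0,1,2],[0,1,2],[0,1,2],[0,1,2],[0,1,2],[0,1,2],[0,1,2],[0,1,2],[0,1,2],[0,1,2],[0,1,2],[0,1,2],[0,1,2],[0,1,2],[0,1,2],[0,1,2],[0,1,2],[1,2],[0,1,2],[0,1],[0,1],[0],[0,1,2],[0,1,2]],
    [[0,1,2],[0,1,2],[0,1,2],[0,1,2],[0,1,2],[0,1,2],[0,1,2],[0,1,2],[0,1,2],[0,1,2],[0,1,2],[0,1,2],[1,2],[0,1,2],[0,1,2],[0,1,2],[0],[0,1,2],[0,1,2],[1,2],[0,1,2],[0,1],[0,1],[0],[1,2],[0,1,2],[1,2],[0,1,2],[0,2],[2],[0,1,2],[0,1,2],[],[0,2],[2],[1,2],[0,2],[0,1,2],[1,2],[0,1,2],[0,1,2],[1,2],[1,2],[1,2],[1,2],[1,2],[1,2],[1,2],[0,1],[0,1],[],[2],[1],[1,2],[0,1,2],[0,1,2],[1,2],[0,2],[0,1,2],[0,1,2],[0,1,2],[0,2],[0,1,2],[0,1,2],[1,2],[0,1],[1,2],[0,1],[1,2],[1],[0],[0,1],[],[2],[]],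
    [[0,1,2],[0,2],[0,1,2],[0,1,2],[1,2],[2],[0],[0,1,2],[0,1,2],[2],[1,2],[0,1,2],[1,2],[0,2],[0],[0],[0,1,2],[1,2],[1],[0,1],[0,1],[],[1],[0,1,2],[1,2],[1,2],[2],[2],[0,1,2],[0,1,2],[],[2],[2],[1,2],[0,2],[0,1,2],[0,1,2],[0,1,2],[1],[1,2],[1,2],[2],[1,2],[1,2],[1,2],[0,1],[0,1],[],[1,2],[0,2],[1,2],[1,2],[0,2],[0,1,2],[0,1,2],[0,1,2],[0,2],[0,1,2],[0,2],[1,2],[0,1],[1,2],[0,1],[1,2],[0],[0,1],[],[2],[],[0,1,2],[0],[1,2],[1,2],[0],[],[0],[1,2],[0,1],[2],[],[0,2],[2],[],[0,1,2],[1],[0,1],[2],[0],[2],[0,1],[],[0,2],[2],[0],[0],[2],[0],[0,1],[2],[2],[1,2],[],[1],[0],[0,1],[2],[1],[1,2],[0],[2],[0],[0,1,2],[0,1,2],[1,2],[1,2],[2],[0],[2],[0,1],[1],[2],[],[0],[1],[1],[0,1],[],[1],[0],[0],[0,1],[0,2],[0],[0],[],[0],[0,1,2],[0,1],[0],[],[1],[0],[1],[0],[],[1],[1],[],[2],[],[2],[0,1,2],[],[0],[],[],[],[0,1],[1],[0],[0,2],[],[2],[],[]],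
    [[0],[1,2],[0,1,2],[],[0],[2],[2],[0],[0],[0,1,2],[1,2],[1],[0],[0,1],[1,2],[2],[1,2],[1],[],[2],[2],[0,1,2],[0],[0],[1],[],[1,2],[1,2],[1,2],[1,2],[0,1],[],[1,2],[1,2],[2],[2],[2],[1,2],[0,1,2],[1,2],[0,1],[1,2],[1],[0],[],[2],[],[0,1,2],[0],[2],[0],[0],[1],[0,1],[2],[],[0,2],[2],[],[1],[1],[2],[0],[],[0,1],[],[0,2],[],[2],[0],[0],[2],[2],[1],[],[0],[0,1],[2],[1],[0],[2],[],[0,1,2],[0,1,2],[1,2],[1,2],[2],[],[2],[0,1],[],[],[1],[0,1],[1],[0],[0],[0],[0],[0],[0],[],[0],[0,1,2],[0,1],[0],[],[1],[0],[1],[0],[],[1],[1],[],[],[2],[0,1,2],[],[0],[],[],[],[0,1],[1],[0],[],[2],[],[],[],[0],[],[],[1],[1],[2],[1,2],[1],[],[2],[2],[],[2],[1],[],[],[],[],[0],[],[1],[],[],[0],[],[1],[],[2],[],[],[],[2],[],[],[2],[2],[2],[1],[],[],[],[2],[2],[2],[],[],[2],[1],[0],[],[0],[],[1],[],[],[],[1],[],[],[],[],[],[2],[],[],[],[0],[],[],[],[],[1],[1],[],[],[],[],[],[],[2],[],[1],[2],[],[],[2],[],[],[1],[],[],[],[],[],[],[],[],[],[],[],[],[],[],[],[],[],[],[],[]],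
    [[2],[2],[1],[],[2],[2],[1],[1],[1],[],[1],[2],[2],[2],[2],[2],[0],[1],[],[2],[0],[0],[1],[2],[],[2],[1],[],[],[0],[],[2],[],[],[],[1],[2],[],[],[1,2],[1],[2],[],[0,1],[],[],[0],[0],[0],[0],[0],[1],[0],[],[],[],[],[0,2],[],[0],[],[],[],[],[],[],[0],[],[],[2],[],[],[],[],[],[1],[],[],[],[],[],[],[],[],[2],[],[],[],[2],[2],[1],[],[],[2],[2],[],[],[],[],[0],[],[],[],[],[1],[],[],[],[],[],[2],[],[],[],[],[],[],[],[],[],[],[2],[1],[2],[],[],[],[],[],[1],[],[],[],[],[],[],[],[],[],[],[],[],[],[],[],[],[],[],[],[],[],[],[],[],[],[],[],[],[],[],[],[],[],[],[],[],[],[],[],[],[],[],[],[],[],[],[],[],[],[],[],[],[],[],[],[]],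
    [[],[],[2],[],[],[],[],[],[],[0],[],[0],[],[],[],[],[],[],[],[],[],[],[],[],[],[],[],[],[],[],[],[],[],[],[],[],[],[],[],[],[],[],[],[],[],[],[],[],[],[],[],[],[],[],[],[],[],[],[]]]⟩

def rowS2 : Row :=
  ⟨0x8adb2452ef816acb28d33a5c418820, 45,
   [(0x99655b35064c28370a2b0dde0510ec, 0x34e8dbd52e2ae4040df10c2c2628e4),
    (0x82e2ea15f56a2ecb1cd22266a00861, 0x6ae132a2b78d1ecb10ce5264708803),
    (0xa250f8c24e2b66c312d752ea708803, 0x424b76c672a41cc31ed522dea00861),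
    (0x6ba6f342b65c90a29ee92468c08c02, 0x4c225ab8d2a5ae47b10d54d6710061)],
   [(0xbdab49ca307b9ac5a928398a418820, []),
    (0x5c613a22d56a5ecba9d2394c418820, [[[0,1,2,3]],
      [[1,2],[3],[],[0,1]],
      [[3],[],[],[0],[]]]),
    (0x8adb2452ef816acb28d33a5c418820, []),
    (0x71a4d7d4a89de8c4a9703da2418820, [[[0]]]),
    (0x55a0f94cf5a310e5dd2d8988518820, [[[0,1,2,3]],
      [[0,1,2,3],[0,1,2,3],[0,2,3],[0,1,2,3]],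
      [[0,1,2],[1,2,3],[2],[0,2,3],[0,1,2,3],[0,1,2,3],[0,2,3],[0,1,3],[0,2],[0,2],[1,2],[3],[0,1,2],[0,2],[]],
      [[2],[1,2],[2],[1],[2,3],[2,3],[],[],[],[1,3],[2],[2,3],[2,3],[3],[1,2],[2],[3],[1,3],[],[0,2,3],[],[],[],[3],[2],[],[0],[],[0,1],[],[],[],[3],[3],[2],[]],
      [[2],[2],[0],[],[],[],[],[],[],[1],[],[],[],[2],[],[],[],[1],[],[],[],[],[],[],[],[],[],[],[],[],[],[],[],[]]]),
    (0xb99b28523343aaa4b16f258a718820, [[[0,1,2]],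
      [[0,1,2,3],[],[0,3]],
      [[0,1,2,3],[],[],[0,1,2,3],[0,2,3],[1]],
      [[0,2],[],[],[],[],[],[],[],[],[],[],[]]]),
    (0x8da6fac2f2a390c59ccd524a410c20, [[[0,1,2,3]],
      [[0,1,2,3],[0,1,2,3],[0,3],[0,1,3]],
      [[0,3],[2,3],[3],[0,2],[0,1,2,3],[],[3],[0,1,2,3],[0,2,3],[],[0],[0,1],[]],
      [[3],[],[],[0,1],[0,2],[],[],[],[3],[],[1],[],[],[],[],[],[],[3],[],[],[],[]]]),
    (0xbd136819d37c56a6b2a83c8a410c20, [[[0,1,2,3]],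
      [[0,1,2,3],[0,2,3],[0,2,3],[0,1,2,3]],
      [[0,1,2,3],[1,3],[2,3],[0,1,2,3],[0,1,2,3],[2,3],[0,3],[0,2,3],[0],[0,1,2],[0,2],[0,1],[0,2,3],[1,3]],
      [[0,1],[],[2,3],[2],[0,3],[2],[3],[0,2],[1,3],[0,3],[3],[],[2,3],[1],[],[0],[],[],[0,2,3],[3],[3],[3],[],[0],[0,2],[0],[0,2],[],[],[0],[],[3],[],[2],[],[]],
      [[3],[3],[],[],[],[3],[],[2],[],[],[],[],[1],[],[],[],[],[],[],[0],[],[],[],[],[],[],[],[],[],[],[],[],[],[],[]]]),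
    (0x3da54855537b1ae5c4c8ba48510c20, [[[0,1,2,3]],
      [[0,1,2,3],[0,1,2,3],[0,2,3],[0,1,2,3]],
      [[0,1,3],[1,2,3],[2,3],[0,2,3],[0,1,2,3],[0,2,3],[0,2,3],[1,2,3],[0,2,3],[0,2,3],[1,2],[0,2,3],[0,2],[2,3],[1,3]],
      [[1,2,3],[1],[],[0,2,3],[2,3],[0,1,2,3],[3],[0,2],[3],[3],[1,3],[],[1,2,3],[2,3],[0,1],[1,2,3],[],[3],[],[0,2,3],[1],[0,1,2],[],[],[2],[2,3],[0,2],[3],[],[],[0,1],[2],[0],[2],[0,1,2],[2,3],[2],[0],[0],[],[]],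
      [[3],[2],[0,1,2],[],[],[3],[0,1,2],[3],[],[1,3],[0,3],[0,2],[],[0],[0,1,2,3],[0,3],[],[],[3],[],[2],[3],[0],[],[],[0,1,2],[0,1,3],[1,3],[3],[0,1],[],[],[],[],[],[],[],[],[],[],[0],[1,3],[0,2],[0],[],[],[],[3],[],[0,2,3],[0],[0,2],[],[0,2],[],[3],[]],
      [[],[3],[1,3],[],[],[],[1,2],[0],[],[0],[3],[2],[],[0],[2,3],[],[0],[0],[3],[],[0],[],[],[],[],[0],[],[],[],[],[],[0],[],[],[],[],[3],[0],[],[],[],[],[],[],[],[],[],[],[],[],[],[],[],[]]]),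
    (0x52e68ac0f26b1eeb5cd48a48510c01, [[[0,1,2,3]],
      [[0,1,2,3],[0,1,2,3],[0,2,3],[0,1,2,3]],
      [[0,1,2],[1,2,3],[2],[0,2,3],[0,1,2,3],[0,1,2,3],[0,2,3],[0,1,3],[0,2],[0,2],[1,2],[3],[0,1,2],[0,2],[]],
      [[2],[1,2],[2],[1],[2,3],[2,3],[],[],[],[1,3],[2],[2,3],[2,3],[3],[1,2],[2],[3],[1,3],[],[0,2,3],[],[],[],[3],[2],[],[0],[],[0,1],[],[],[],[3],[3],[2],[]],
      [[2],[2],[0],[],[],[],[],[],[],[1],[],[],[],[2],[],[],[],[1],[],[],[],[],[],[],[],[],[],[],[],[],[],[],[],[]]]),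
    (0x3b52b8199342ad1a3aafbc88510c01, [[[0,1,2,3]],
      [[0,1,2,3],[0,1,2,3],[0,2,3],[0,1,2,3]],
      [[0,1,2,3],[1,2,3],[2,3],[0,1,2,3],[0,1,2,3],[0,1,2,3],[0,2,3],[0,1,2,3],[0,2,3],[0,2,3],[1],[0,1,2,3],[0,1,2,3],[0,2],[1,3]],
      [[0,1,2,3],[1,2],[2,3],[0,1,2],[0,1,2],[0,2],[1,2,3],[3],[0,2],[2,3],[1,2,3],[0,2],[1,3],[2],[1,2,3],[2,3],[1,3],[0,1,2,3],[3],[3],[1,2,3],[],[0,2,3],[1],[0,3],[0,1,2],[0,3],[1],[1,2,3],[2,3],[0,2],[2,3],[],[],[1],[],[],[],[0,2,3],[1],[0,2],[0,2,3],[0,3],[],[0],[1],[1]],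
      [[],[1,2],[2],[1,2],[1,2],[0,2,3],[],[0],[0,1],[1],[0,3],[1,2,3],[],[],[],[],[],[],[1],[2],[0],[3],[],[0,1,3],[2],[3],[0],[3],[],[],[],[3],[0,2],[],[2],[],[],[],[],[],[1],[3],[],[],[],[],[2,3],[],[],[],[],[],[2],[],[],[],[],[],[],[],[],[],[],[],[],[],[2],[],[],[],[],[],[],[],[],[],[],[],[],[],[],[],[0],[]]]),
    (0xba6959b6307ba4a332c822ca710c01, [[[0,1,2,3]],
      [[0,2],[],[0],[]],
      [[0,1,2,3],[],[]]]),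
    (0x7d13672e11bccca932a52350710c01, [[[0,1,2,3]],
      [[0,1,2,3],[3],[0],[0,1,2]],
      [[0,1,2],[3],[],[3],[1,2],[],[],[3],[0]],
      [[3],[],[],[],[],[],[],[],[]]]),
    (0x89a4d456ef8168a4b173259c710c01, [[[0,1,2,3]],
      [[0,2],[],[0],[]],
      [[0,1,2,3],[],[]]]),
    (0xbd9b24522f83aa459d33518ac10c01, [[[0,1,2,3]],
      [[1],[],[],[]]]),
    (0x5c5e894ecdaa604b9dd4514cc10c01, [[[0,1,3]],
      [[3],[3],[1,2]],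
      [[0,1],[1,2],[],[]]]),
    (0x71a95834b345e4449d6f55a2c10c01, [[[0,1]],
      [[],[0]],
      [[0,1]]]),
    (0xba695849d37c5a358ac8098a0628e4, [[[0,1,2,3]],
      [[0,1,2],[],[0,2],[3]],
      [[0,2],[1],[2],[3],[],[]]]),
    (0x5ba70aa1346d9e3b8a32094c0628e4, [[[0,1,2,3]],
      [[0,1,2,3],[0,2,3],[2,3],[0,1,2,3]],
      [[0,1,2],[1,3],[],[0],[0,2],[0,2,3],[3],[0],[0,1,2],[2],[1],[2,3],[3]],
      [[2,3],[],[2],[0,3],[],[1],[],[],[],[],[],[],[0],[],[1],[],[],[],[],[],[]],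
      [[],[2],[],[],[],[],[],[]]]),
    (0xbd6c999a307b96268e880c8a0530e4, [[[0,1,2,3]],
      [[0,1,3],[3],[3],[0,1,2]],
      [[3],[3],[0,1,2],[1,2],[1,2],[0,3],[],[]]]),
    (0x8b566426ef816c2a8e530d1c0530e4, [[[0,1,2,3]],
      [[0,1,3],[3],[3],[0,1,2]],
      [[3],[3],[0,1,2],[1,2],[1,2],[0,3],[],[]]]),
    (0x426958b66e2c24230ed70ade0530e4, [[[0,1,2,3]],
      [[0,1,2,3],[3],[0,3],[0,1,2]],
      [[0,1,2,3],[3],[3],[0,1,2,3],[1,2],[3],[0,1,2],[0,2,3],[3],[0,3]],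
      [[3],[3],[3],[0],[],[1,2],[],[],[],[],[],[0],[],[],[],[],[1],[3],[3],[],[],[]],
      [[],[2],[],[],[],[],[],[],[],[]]]),
    (0x8dab29d2ef839a158cc8124a051d84, [[[0,1,2,3]],
      [[0],[2],[],[0]]]),
    (0x856c6725f78cd6168e451510051d84, [[[0,1,3]],
      [[1,3],[1,3],[0,1,2]],
      [[1,3],[0,1],[3],[0,1],[0,3],[],[]],
      [[3],[],[0],[1],[],[0],[],[],[]]]),
    (0x1c8c93d84c505706be849d408bc5c5, [[[0,1,2,3]],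
      [[0,1,2,3],[0,1,2,3],[0,2],[0,1,2,3]],
      [[0,1,2,3],[1,2,3],[2,3],[0,1,2,3],[0,1,2,3],[0,1,2],[0,2,3],[0,1,2,3],[0,2],[0,2,3],[0,2],[0,1,2,3],[0,2,3],[1,3]],
      [[0,1,2,3],[1,3],[2,3],[0,1,2],[0,1,2],[0,2],[1,2,3],[],[0,2],[0,1,2,3],[1,2,3],[0,2,3],[1,3],[2],[1,2,3],[3],[1,2,3],[0,1,2,3],[3],[3],[],[0,2],[1],[0,1,3],[0,2],[0,2,3],[1],[0,1,2,3],[2],[0,2,3],[],[2],[0,1,3],[],[1,2],[0,2],[0,2,3],[2,3],[0],[],[1,2],[1],[]],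
      [[3],[1,2],[2],[1],[1,3],[1],[],[1,2],[0],[1,2],[0,2,3],[1],[],[3],[],[],[2],[0],[1,3],[0,2],[2,3],[0,2],[1],[],[1],[],[2,3],[],[],[],[0],[1],[],[],[0,2],[],[],[2],[],[0,2],[],[],[1],[],[],[],[],[],[],[],[],[],[],[],[],[],[],[],[],[],[],[],[],[],[3],[],[],[],[2],[],[],[],[],[2],[],[],[],[],[],[3],[2,3],[],[],[]]]),
    (0x1b26fac052a05162254d31c0bbc5c5, [[[0,1,2,3]],
      [[0,1,2],[0,1,3],[0,2,3],[0,1,2,3]],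
      [[0,1,3],[1,2,3],[],[0,1,2,3],[0,1,3],[0,1,2,3],[0,3],[0,3],[1],[0,3],[0,1,2,3],[2,3],[1]],
      [[2,3],[1],[1],[0,1,2,3],[],[],[],[1,3],[2,3],[1],[2,3],[3],[1,3],[0,1],[1,2],[2],[],[2,3],[1],[],[0,2],[0,1],[0,1],[0,3],[],[0,2],[],[0,2],[],[],[]],
      [[],[1],[1],[1],[],[2],[],[],[],[],[],[],[],[],[0,2],[],[],[],[2],[],[],[],[],[],[],[],[],[],[1],[3],[],[],[],[],[],[],[],[]]]),
    (0x11e4d4546f8068952d93b10068ddc5, [[[0,1,2,3]],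
      [[0,1,2,3],[0,1,2,3],[0,2,3],[0,2,3]],
      [[1,2,3],[1,2],[2],[0,2,3],[0,1,2,3],[0,1,2,3],[0,3],[0,1,2,3],[0,2],[0,2,3],[2],[0,1,2],[0,2,3],[1,3]],
      [[1],[2],[0,1,2],[0,2,3],[0],[3],[0,2],[0,3],[3],[2],[3],[2,3],[1],[0,1,2],[],[3],[3],[],[],[2,3],[1],[2],[1],[0],[],[2],[],[],[0,2],[0,3],[],[],[],[],[],[],[]],
      [[],[],[0],[],[0,2],[],[],[],[],[2],[],[],[],[],[],[],[],[],[],[],[],[],[],[],[],[],[],[],[],[],[],[],[],[],[],[]]]),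
    (0x132b49c870785b6218e84a80b8ddc5, [[[0,1,2,3]],
      [[0,1,3],[0,1,2,3],[0,2,3],[1,2]],
      [[0,1,2],[1,3],[0,3],[1,3],[0,1,2,3],[0,2],[0,1,2],[0,2,3],[3],[2],[1],[3]],
      [[],[3],[2],[],[1],[3],[],[],[0],[],[3],[],[],[],[],[],[],[],[],[],[],[],[],[],[]]]),
    (0x112957b4689864b6255031c168ddc5, [[[0,1,2,3]],
      [[0,1,2],[0,1,3],[0,2,3],[1,3]],
      [[0,1],[1,2,3],[],[1,2,3],[0,1,3],[1,2,3],[0,3],[0,3],[1],[1],[3]],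
      [[2,3],[],[1,2],[],[],[1],[2,3],[],[3],[],[3],[0],[],[],[2],[],[],[],[],[],[]]])],
   [[[0,1,2,3]],
    [[0,1,2,3],[0,1,2,3],[0,2,3],[0,1,2,3]],
    [[0,1,2,3],[1,2,3],[2,3],[0,1,2,3],[0,1,2,3],[0,1,2,3],[0,2,3],[0,1,2,3],[0,2,3],[0,2,3],[0,1,2],[0,1,2,3],[0,1,2,3],[0,2,3],[1,3]],
    [[0,1,2,3],[1,2,3],[2,3],[0,1,2],[0,1,2,3],[0,2,3],[0,1,2,3],[3],[0,1,2],[0,1,2,3],[0,1,2,3],[0,2,3],[1,3],[2,3],[1,2,3],[2,3],[0,1,2,3],[0,1,2,3],[2,3],[3],[0,1,2,3],[],[0,2,3],[0,1],[0,1,2,3],[0,1,2,3],[0,2,3],[1,3],[0,1,2,3],[2,3],[0,1,2],[0,2,3],[],[0,2],[0,1,2,3],[0,1,3],[0,2,3],[0,1,2,3],[1,3],[2,3],[0,1,2,3],[0,1,2,3],[0,2,3],[0,2,3],[0,1,2,3],[0,2,3],[0,3],[0,1,2],[1,3],[1]],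
    [[3],[1,2,3],[2,3],[0,1,2],[1,2,3],[0,2,3],[0,1,2],[3],[0,1,2],[0,1,2,3],[0,1,2,3],[0,2,3],[1,2,3],[2,3],[3],[0,1,2,3],[],[3],[0,1],[0,1,2,3],[0,1,2,3],[0,2,3],[1,3],[0,2],[0,1,2,3],[0,1,3],[0,2,3],[0,1,2,3],[1,3],[2,3],[0,1,2,3],[0,1,2,3],[0,2,3],[0,2,3],[0,1,2,3],[0,2,3],[0,3],[0,1,2],[1,3],[1],[3],[0,1,2],[0,2],[2,3],[0,1,2],[3],[0,2],[0,1,2,3],[0,1,3],[0,2,3],[],[2],[1,3],[3],[0,1,2],[3],[0,2,3],[0],[0,1,2,3],[0,1,3],[0,2,3],[3],[0,3],[],[0],[0,1,2,3],[0,3],[0,2],[3],[2,3],[0,1,2,3],[0,1,2,3],[0,2,3],[0,2,3],[0,1,2,3],[0,2,3],[0,3],[0,1,2],[3],[1],[3],[3],[3],[0,2],[3],[0,1,2],[1,2,3],[0,3],[0,2,3],[3],[3],[0,2],[0,2,3],[0,3],[0,1,2,3],[3],[2,3],[0,1,2,3],[1,3],[0,3],[0,1,2,3],[2,3],[0,3],[0,1,2],[0,1,2,3],[1,2,3],[2],[0,2],[0,3],[0,1,2,3],[3],[0,1,2],[0,1,2,3],[0,1,2,3],[0,2,3],[1,3],[2,3],[1,3],[2,3],[0,1,2,3],[1,2,3],[3],[0,1],[],[0,3],[1],[1,2,3],[0,1,3],[0,2,3],[1,3],[0,1,2,3],[2,3],[0,1,2],[0,2,3],[0,2],[0,1,2,3],[0,1,3],[0,2],[0,3],[0,1,2],[1,3]],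
    [[0,1,2],[1,3],[2,3],[0,1,2],[3],[0,1,2],[0,1,2,3],[0,1,2,3],[0,2,3],[2],[3],[],[],[],[0],[1,2,3],[0,1,3],[0,2,3],[0],[0,1,2,3],[0,3],[0,2,3],[0,3],[3],[2,3],[0,1,2],[1,3],[3],[0,2],[0,2,3],[0,2,3],[0],[0,1,2],[3],[],[0,1],[3],[0,2],[0],[1,2,3],[0,1,3],[0,2,3],[3],[0],[0,1,2,3],[0,3],[0,2],[3],[3],[1,2,3],[0,1,2,3],[0,2,3],[0,2],[0,1,2,3],[2,3],[3],[0,1],[3],[1],[0,2,3],[0,3],[0,1,3],[3],[2,3],[0,1,2],[1,3],[3],[0,1,2,3],[2,3],[0,3],[0,1,2],[0,1,2,3],[2,3],[2],[0,2],[0,3],[0,1,2,3],[3],[0,1,2],[0,1,2],[0,1,2,3],[0,2,3],[1,3],[2,3],[1,3],[2,3],[0,1,2,3],[1,2,3],[3],[0,1],[],[0,3],[],[1,2,3],[0,1,3],[0,2,3],[1,3],[0,1,2],[2,3],[0,1,2],[0,2,3],[0,2],[0,1,2,3],[0,1,3],[0,2],[3],[0,1,2],[1,3],[0,1,2],[1,3],[0,1,3],[3],[3],[3],[3],[0,1],[0,2,3],[1,3],[0,2],[0,2],[2,3],[0,2,3],[0,2,3],[1,3],[3],[0,1,2,3],[1,3],[0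,3],[0,1,2],[2,3],[3],[0,1,2],[3],[],[0,1],[0,2],[1,3],[0,3],[3],[0],[0,2,3],[0,3],[3],[2,3],[0],[3],[3],[0,1,2,3],[0,1,2,3],[0,3],[0,1,2,3],[2,3],[3],[0,2],[1],[3],[0,2],[0,2,3],[0],[3],[3],[0,1],[1,3],[0,1,2],[0,1,2,3],[2],[0,1,2,3],[3],[0,1,2],[0,1,2,3],[0,1,2,3],[0,2,3],[3],[2,3],[1,3],[2,3],[0,1,2,3],[3],[3],[0,1],[],[3],[],[1,2,3],[0,1,3],[0,2,3],[3],[0,1,2],[3],[0,1,2],[0,2,3],[0,2],[0,1,2,3],[0,3],[0,2],[0,1,2],[1,3],[0,1],[],[0,2],[3],[3],[],[1,2,3],[0,3],[3],[1,3],[2,3],[0,1,2],[3],[0,2,3],[0],[0,3],[0,1],[2],[2],[2,3],[0,3],[0,3],[3],[2],[2,3],[0,2],[0,2,3],[3],[],[0],[1],[3],[0,1,2],[0,1,2],[0,1,3],[0,2,3],[3],[3],[1],[2],[0,1],[1,3],[0],[0,2,3],[],[2,3],[0,1,2],[3],[0,2],[0,1,2,3],[0,3],[0,2],[],[],[2,3],[0,1,2],[2],[0,3],[0,1,2],[3],[0,1,2,3],[0,3],[],[1,3],[0,2,3],[1,2,3],[0,2,3],[3],[0,2],[0,1,3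],[0,1,3],[0,2,3],[0,1,2,3],[1,3],[2,3],[1,3],[0,1,2,3],[0,2,3],[2],[0,1,2,3],[0,2,3],[0,3],[0,1,2],[3],[1],[3],[0,1,2],[],[0,1,2],[3],[0,2],[0,2,3],[1,3],[0,2,3],[],[3],[3],[0,1,2],[0],[0,1,2,3],[0,3],[0,3],[0],[],[3],[2,3],[0,1,2,3],[0,1,2,3],[0,3],[0,3],[0,2,3],[0],[0,1,2],[3],[],[3],[3],[],[],[3],[0,1,2],[1,2,3],[0,3],[3],[3],[3],[0,2],[3],[0,3],[0,2,3],[3],[2,3],[0,1,2,3],[3],[0,3],[0,1,2],[2,3],[0,3],[],[],[2,3],[3],[0],[3],[1]],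
    [[0,2,3],[3],[0],[],[],[],[0],[1,2,3],[0,1,3],[0,2,3],[0],[0,1,2],[0,3],[0,3],[0,3],[3],[3],[0,1,2],[3],[3],[0,2],[0,2],[2,3],[],[0,1,2],[],[0],[3],[3],[3],[2],[1,3],[0],[0,1,2],[2],[3],[0,1],[3],[3],[3],[3],[2],[3],[0,2],[3],[3],[0],[2,3],[0,2],[0,1,2],[3],[0,1,2],[0,1,2],[0,1,2,3],[0,2,3],[3],[0,1,2],[0,1],[],[3],[1,3],[3],[],[2],[3],[0,1,2],[3],[0,1,2,3],[0,1,3],[0,2],[],[3],[],[0],[3],[3],[3],[3],[3],[1,2],[0,1,2,3],[3],[0,2],[3],[3],[0,2],[],[3],[0],[3],[3],[0,1],[3],[0,1,2],[0,3],[2],[0,1,2,3],[1,2],[0,1,2,3],[0,2,3],[3],[3],[3],[3],[0,1,2,3],[3],[3],[0,1],[],[3],[1,2,3],[0,1,3],[0,2,3],[3],[3],[0,1,2],[0,2],[0,1,2,3],[0,3],[1,2],[3],[3],[3],[2],[3],[0],[2,3],[3],[0],[1],[3],[0,1],[0,1,2],[0,1,3],[0,2,3],[3],[1],[0,1],[1,3],[0],[0,2,3],[],[2,3],[0,1,2],[3],[0,2],[0,1,2,3],[0,3],[0,2],[],[],[2],[0,1,2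],[0,3],[0,1],[3],[0,1,2,3],[0,3],[],[1,3],[0,2,3],[1,2,3],[0,2,3],[3],[0,2],[1,3],[0,1,3],[0,2,3],[0,1,2,3],[1,3],[2,3],[0,1,3],[3],[2],[0,1,2],[0,2,3],[3],[0,1,2],[3],[1],[3],[0],[],[1,2],[3],[2],[0,2,3],[1,3],[0,2,3],[],[3],[3],[0,1,2],[0],[0,1,2,3],[0,3],[],[0],[3],[3],[0,1,2,3],[0,1,2,3],[0],[0,3],[0,2,3],[0],[1,2],[3],[],[3],[3],[],[3],[0,1,2],[1,2,3],[3],[3],[3],[3],[0,2],[3],[0,3],[0,3],[3],[2,3],[0,1,2,3],[3],[0],[1,2],[2,3],[0,3],[],[3],[3],[],[3],[1],[3],[],[0],[3],[1,2],[3],[3],[0,2],[0],[],[],[],[3],[3],[],[3],[1,2],[],[0,2],[3],[3],[3],[],[3],[1,2],[3],[],[1],[3],[],[0,2],[3],[1,2],[0,1,2],[0,1,2],[0,1,3],[3],[3],[3],[1,2],[3],[0],[3],[],[0,3],[3],[0,1,2],[],[1,3],[0,1,3],[0,2],[],[3],[],[3],[],[3],[0,1,2],[3],[0,2],[0,1,2],[3],[],[3],[2],[3],[0],[],[3],[1],[3],[1,2],[0,1,2],[0,1,2],[0,1,3],[0,2,3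],[3],[3],[3],[3],[1,2],[3],[0],[],[0],[0,2],[],[3],[0,1,2],[],[0,1,2,3],[],[3],[],[3],[0,3],[],[3],[],[2,3],[1],[],[0,1,2],[0,3],[3],[1],[1,3],[0],[3],[],[],[2,3],[0,1,2],[3],[2,3],[1,2,3],[2,3],[3],[0,2],[1,3],[1,3],[2,3],[1,2,3],[1,3],[3],[3],[2,3],[0,2,3],[2],[0,3],[],[0,3],[0,1,2],[],[3],[0],[],[0,2],[3],[],[2,3],[1,3],[2,3],[],[0,1,2],[0],[0,1,2,3],[0],[0],[3],[2,3],[0,2,3],[0,1,2,3],[0,3],[],[3],[0],[0,1,2],[],[3],[3],[],[0,1,2],[1,2,3],[0,3],[3],[3],[],[0,2],[3],[0,3],[0,3],[3],[2,3],[0,2,3],[3],[],[2,3],[0,3],[3],[3],[],[3],[],[],[],[3],[],[0,2],[],[3],[],[],[3],[0,2],[0],[3],[],[3],[1,2],[0,1,2],[0,3],[3],[],[2,3],[0,3],[3],[0],[3],[0],[1,3],[0,3],[3],[3],[3],[0],[],[0],[3],[],[0,2],[3],[3],[2],[3],[0],[],[3],[0,1,2],[],[2,3],[1,3],[],[1,3],[1,3],[0,2,3],[0,1,3],[3],[3],[0,1,3],[0,3],[0,1,2],[3],[0,3]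,[0,1,2],[1],[1],[1,3],[3],[0,1,2,3],[0,3],[3],[0,2],[1,3],[0,3],[0],[0,2],[3],[0,1,2],[1,3],[0,3],[3],[],[3],[3],[0],[3],[2,3],[0,1,2,3],[],[1,2],[3],[],[3],[1,2],[2,3],[1,2,3],[2,3],[3],[],[0],[3],[0,3],[0,2],[0],[0],[3],[3],[0,2],[3],[],[0,1,3],[],[],[3],[1,2,3],[0,2,3],[],[1,3],[3],[3],[0,1],[1],[0,2,3],[0],[1,3],[3],[0,1],[3],[3],[0,1,2],[2],[3],[0,1,2],[1,3],[3],[2],[0,2],[3],[1,2,3],[3],[1,2],[3],[1],[2,3],[3],[2],[0,2],[1,2,3],[3],[0,1],[0,3],[2],[0,3],[2],[1,3],[1,2],[3],[0,1,2],[0,3],[0,2],[0],[0,1],[0,2],[0,1,2],[1,3],[0],[3],[3],[],[0,3],[1,3],[2],[2],[2],[0,2,3],[3],[3],[0,1,2,3],[0,3],[0,1,2],[3],[3],[0,1,2],[1],[0,2],[1,3],[0,3],[3],[3],[0],[3],[3],[0,2],[3],[],[],[0],[0,2,3],[0,1,2],[3],[0,1,2],[0,1,3],[1,3],[0,2,3],[3],[3],[1,3],[2,3],[0,1,2],[3],[0],[3],[],[],[3],[1,2],[0,2,3],[0,1,2],[],[0,2],[0],[1],[],[],[2,3],[3],[3],[3],[2],[0,1,2],[3],[0,3],[0,1],[2],[2],[2,3],[0,3],[2],[3],[0,2],[3],[],[0],[],[3],[1,2],[0,2],[0,3],[0,2,3],[3],[1],[],[],[],[0],[0,2],[2,3],[0,1,2],[],[0,2],[3],[2],[0],[],[],[]],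
    [[],[],[1,2],[0,2],[3],[],[3],[],[2],[3],[],[0,2],[],[],[0,1],[3],[3],[3],[3],[3],[0],[3],[0],[3],[0,2],[0],[0,2],[0,1,2],[0,1,2,3],[3],[0],[0,1],[],[3],[1],[3],[3],[1],[0,1,2,3],[0,3],[0,2],[3],[0,1],[0,1],[1,2],[3],[3],[0,1],[3],[3],[],[0],[3],[],[3],[0],[2],[],[],[0],[3],[],[3],[3],[1,2],[2],[1,3],[],[0,1],[],[],[2,3],[3],[0,2,3],[0,2],[1],[0],[3],[0,1,3],[1,3],[2,3],[3],[3],[2],[0,1],[2,3],[],[1],[1,2],[2,3],[],[0,2,3],[3],[],[0],[3],[0,1],[1],[],[0,1],[1,3],[3],[3],[0,2],[],[],[],[0,1,2],[3],[0],[],[2,3],[3],[],[3],[],[0],[1],[1],[],[3],[0,2,3],[3],[],[],[1],[0],[],[2],[1],[],[0,1,2,3],[],[],[3],[1],[],[0,2],[3],[1],[1],[0],[],[],[2],[3],[3],[2,3],[3],[3],[3],[2,3],[2,3],[],[2],[3],[],[0],[0,1,2],[],[0],[2],[],[3],[3],[3],[],[0,2],[0],[1,2,3],[0],[0],[3],[2,3],[0,2,3],[2,3],[0],[],[3],[0],[0],[],[],[1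,3],[3],[3],[3],[0],[0,3],[3],[2],[2],[3],[],[3],[],[],[],[],[3],[],[3],[3],[0,1,2],[],[2],[1,3],[],[3],[3],[1],[],[],[1,3],[0,3],[0,1,2],[3],[0,3],[0,2],[],[1,3],[0,2],[],[3],[],[3],[3],[0],[],[3],[0,1,2],[3],[3],[3],[],[3],[],[0],[3],[2,3],[0,3],[],[1,2],[3],[],[],[3],[1,2,3],[2,3],[],[0],[3],[0,3],[0],[0],[3],[],[],[3],[],[0,1,3],[],[],[3],[2],[0,2,3],[],[3],[3],[3],[0],[1],[0,3],[0],[3],[0,1],[3],[],[1,2],[],[],[0,1,2],[3],[3],[],[2],[3],[2],[3],[1],[3],[3],[0],[1],[3],[2],[0,3],[2],[],[3],[2],[2],[0],[0,1],[0,2],[1,2],[3],[0],[3],[3],[2],[],[2,3],[3],[3],[0,1],[0,3],[0,1,2],[],[],[1],[1],[0,2],[1,3],[3],[3],[],[0],[3],[],[2],[3],[],[0,2,3],[0,1,2],[2],[0],[3],[0,2,3],[3],[3],[1,3],[2,3],[2],[3],[],[],[],[3],[2],[2],[],[2],[0],[1],[],[],[3],[3],[3],[],[2],[0,1],[],[1],[],[],[],[0,3],[2],[3],[2],[3],[],[],[3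],[1,2],[],[0,3],[0,2],[3],[1],[],[0],[2],[2,3],[0,1],[],[2],[2],[0],[],[],[],[],[],[3],[0,2,3],[],[],[1],[],[3],[],[],[],[0,1,3],[3],[2,3],[],[2],[0],[2],[0],[3],[],[],[3],[],[2],[3],[1],[3],[],[1,3],[0],[2],[],[3],[2],[0,3],[3],[],[2],[],[1],[3],[3],[0,1],[3],[1],[3],[],[0,2],[1],[3],[3],[3],[],[3],[],[],[3],[0,3],[],[],[1],[0,2],[3],[],[1],[],[],[3],[],[2],[],[],[3],[],[2],[],[],[],[3],[],[1],[1,3],[2],[],[],[3],[3],[3],[],[],[3],[2],[],[],[],[],[3],[3],[0,2],[3],[3],[3],[0],[0,2],[1,2],[],[3],[],[],[],[2],[],[],[],[],[],[],[],[3],[],[3],[3],[3],[],[],[3],[3],[0,2],[3],[],[],[],[2],[],[2,3],[],[],[2],[2],[],[1,3],[3],[0],[1],[3],[],[3],[],[],[1],[3],[1],[3],[],[],[],[],[1],[],[],[],[2],[],[1],[0],[],[3],[3],[0],[],[0,1],[],[],[3],[3],[],[2],[3],[],[3],[0],[],[1],[],[],[3],[3],[],[],[],[0],[],[0,2],[1,2],[3],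[],[0,3],[3],[],[],[3],[3],[0,1,2],[3],[],[2],[0,2,3],[0],[],[],[1],[],[2,3],[3],[3],[3],[],[2],[3],[3],[0,1],[],[3],[],[2],[3],[0,2],[],[],[],[3],[1],[2],[],[3],[],[2,3],[],[],[],[],[0],[],[2],[],[0],[],[],[3],[],[3],[],[],[],[],[0,1],[3],[3],[3],[],[1],[3],[0,1],[],[],[],[],[],[],[3],[],[3],[],[],[],[2],[],[],[2],[3],[],[],[2],[],[],[],[],[],[],[3],[3],[],[3],[1],[3],[],[],[1],[],[3],[0,2],[3],[],[],[],[1],[3],[3],[0],[3],[],[],[],[],[0],[0],[],[0],[],[],[],[3],[],[1],[2],[],[3],[3],[],[],[],[],[0],[0],[3],[0],[],[1],[],[],[],[],[3],[3],[3],[3],[0,1],[3],[],[0],[2],[],[3],[],[3],[1],[],[],[],[],[],[],[],[],[3],[3],[],[2],[],[],[],[],[],[],[],[],[3],[0,2],[],[3],[3],[],[0,1],[0,1],[],[0,2],[],[3],[],[2],[],[0],[0],[3],[3],[3],[],[0],[3],[],[],[1],[0],[3],[3],[3],[],[3],[3],[],[],[],[],[],[],[],[0],[0,2],[3],[0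],[0,2],[0],[],[],[2],[],[3],[],[],[],[1],[0,2],[],[],[],[],[],[3],[],[0],[],[],[],[],[],[3],[],[],[0,1],[],[],[],[],[0,2],[3],[],[3],[],[],[],[0,2],[1],[],[],[3],[0],[],[],[0],[],[],[],[],[3],[],[],[3],[],[],[1],[],[],[1],[],[0,2],[],[],[],[],[],[],[0],[1,2],[1],[],[],[3],[],[],[],[],[0],[0],[],[1],[0],[],[],[3],[],[3],[0],[3],[0],[],[],[],[1,2],[1],[],[],[],[3],[],[3],[],[],[],[],[],[1],[],[],[2],[],[3],[],[3],[],[],[],[],[],[],[2],[],[],[2],[],[2],[2],[],[],[0,2],[0],[],[],[],[0],[],[],[],[],[],[3],[],[],[],[0],[0],[],[3],[0,2],[],[],[],[],[3],[],[],[],[3],[],[],[],[],[],[2],[],[],[0],[],[],[1],[],[0,1],[],[],[],[],[],[],[],[],[],[0],[],[3],[2],[],[],[],[],[],[],[],[3]],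
    [[],[],[],[],[],[],[3],[],[],[],[3],[0],[],[],[],[],[],[],[],[],[],[],[],[3],[],[3],[3],[],[2],[],[],[],[0],[1],[3],[],[],[0],[],[],[],[3],[],[],[],[],[],[],[3],[],[],[],[],[3],[3],[],[],[],[],[],[],[0],[0],[],[],[],[3],[],[],[0],[],[],[3],[],[],[],[],[],[],[],[],[],[3],[],[0],[3],[],[],[3],[],[],[],[],[],[2],[],[],[],[],[],[],[3],[3],[],[0,1],[],[],[],[],[],[],[],[],[],[],[],[],[],[3],[],[],[],[],[],[],[3],[],[0],[],[],[],[],[],[],[],[],[],[],[],[],[],[],[],[],[3],[0],[],[],[],[],[],[],[],[],[3],[],[3],[],[],[],[],[],[],[1],[],[],[],[3],[],[],[],[],[],[3],[],[],[],[],[],[],[],[],[],[3],[3],[],[],[],[],[],[],[],[],[],[],[],[],[1,2],[],[],[3],[],[],[2],[],[1],[],[],[],[],[],[3],[],[],[0],[],[],[],[],[],[3],[3],[],[],[],[],[],[3],[0],[],[],[],[],[],[0],[],[],[],[],[],[],[],[3],[],[],[],[],[],[3],[],[],[],[],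[],[],[],[],[],[],[],[],[],[],[],[],[],[],[],[],[],[],[],[],[],[3],[],[0],[],[],[],[],[],[],[3],[],[],[],[],[],[],[3],[],[],[],[],[],[],[],[],[],[0],[],[],[],[],[],[],[],[],[],[],[],[],[],[],[],[],[3],[],[],[],[],[],[],[],[],[],[],[],[],[],[],[],[],[],[],[],[],[],[],[],[],[],[],[],[],[],[],[],[],[],[],[],[],[1],[],[],[],[],[],[],[],[],[],[],[],[],[],[],[],[],[],[],[],[],[],[],[],[],[],[],[],[],[],[],[],[],[],[],[],[],[],[],[],[],[],[],[1],[],[],[],[],[],[],[],[],[],[],[],[],[],[],[],[],[],[],[],[],[],[],[],[],[],[],[],[],[],[],[],[],[],[],[],[],[],[],[],[1],[],[],[],[3],[],[],[],[],[],[],[],[],[],[],[],[],[],[],[],[],[],[],[],[],[],[],[],[],[],[],[],[],[],[],[],[],[],[],[],[],[],[],[],[],[],[],[],[],[],[],[],[],[],[],[],[],[],[],[],[],[],[],[],[],[],[],[],[],[],[],[],[],[],[],[],[],[],[],[],[],[],[],[],[],[],[3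],[],[],[],[],[],[],[],[],[],[],[],[],[],[],[],[],[],[],[],[],[],[],[],[],[],[],[],[2],[],[],[],[],[],[],[],[],[],[],[],[],[],[],[],[],[],[],[],[],[],[],[],[],[],[],[],[],[],[],[],[],[],[],[],[],[],[],[],[],[],[],[],[],[],[],[],[],[],[],[],[],[],[],[],[],[],[],[],[],[],[],[],[],[],[],[],[],[],[],[],[],[],[],[],[],[],[],[],[],[],[],[],[],[],[],[],[],[],[],[],[],[],[],[],[],[],[],[],[],[],[],[],[],[],[],[],[],[],[],[],[],[],[],[],[],[],[],[],[],[],[],[],[],[],[],[],[],[],[],[],[],[],[],[],[],[],[],[],[],[],[],[],[],[],[],[],[],[],[],[],[1],[],[],[],[],[],[],[],[],[],[],[],[],[],[],[],[],[],[],[],[],[],[],[],[],[],[],[],[],[],[],[],[],[],[],[],[],[],[],[],[],[],[],[],[],[],[],[],[],[],[]]]⟩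

def rowS3 : Row :=
  ⟨0x8da6fac2f2a390c59ccd524a410c20, 360,
   [(0x55a70aa0ed911e158cd4125808dcae, 0x15a68abc74682055dcd28a42e51d84),
    (0x385b4449507b2ab0185348c968dcae, 0x111b444870782ae644f3ba825326cb)],
   [(0xbdab49ca307b9ac5a928398a418820, []),
    (0x5c613a22d56a5ecba9d2394c418820, [[[0,1]],
      [[0,1],[0]],
      [[0],[1],[0,1]],
      [[0,1],[],[],[]]]),
    (0x7d6c971a11bcd6c6aa853c90418820, [[[0,1]],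
      [[0,1],[0,1]],
      [[0,1],[0,1],[0,1],[0,1]],
      [[0,1],[0,1],[0,1],[0,1],[1],[0,1],[0,1],[0]],
      [[0,1],[0,1],[],[0,1],[],[0,1],[],[0],[],[],[0,1],[1],[0],[1]],
      [[],[],[0],[],[],[],[],[],[0,1],[],[],[],[0],[0]]]),
    (0x33a70abd349590c2aa2d3dd6418820, [[[0,1]],
      [[0,1],[0]],
      [[1],[0],[0,1]],
      [[],[0,1],[],[]]]),
    (0x8adb2452ef816acb28d33a5c418820, [[[0,1]],
      [[0],[0]],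
      [[],[0]]]),
    (0x71a4d7d4a89de8c4a9703da2418820, [[[0,1]],
      [[0],[0]],
      [[0,1],[0]],
      [[0,1],[0],[]],
      [[0],[],[]]]),
    (0x63eb44c946b1db74466b7408518820, [[[0,1]],
      [[0,1],[0,1]],
      [[0,1],[0,1],[0,1],[0,1]],
      [[0,1],[0],[0,1],[0,1],[1],[0,1],[0,1],[0]],
      [[0,1],[0,1],[1],[1],[0],[0,1],[0],[0,1],[1],[1],[1],[0,1],[0,1]],
      [[],[1],[0],[0,1],[0,1],[0,1],[],[1],[0],[0],[],[0,1],[0,1],[0],[1],[0,1],[0,1],[1],[0]],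
      [[1],[],[0,1],[],[0],[0],[],[0],[1],[0,1],[1],[0],[],[0],[],[1],[],[1],[0],[],[],[1],[]],
      [[],[],[0,1],[1],[0,1],[],[],[],[0],[],[],[],[0,1],[],[],[]],
      [[],[0],[],[],[],[0],[],[]]]),
    (0x8a6b47cae8995aa332d022dc718820, [[[0,1]],
      [[0,1],[0,1]],
      [[0,1],[0,1],[1],[0,1]],
      [[],[0,1],[0,1],[],[0,1],[0,1],[]],
      [[],[],[],[0,1],[],[],[],[]]]),
    (0x8da6fac2f2a390c59ccd524a410c20, []),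
    (0xbd136819d37c56a6b2a83c8a410c20, [[[0,1]],
      [[0,1],[0,1]],
      [[0,1],[0,1],[0,1],[0,1]],
      [[0,1],[0],[0,1],[0,1],[1],[0,1],[0,1],[0]],
      [[0,1],[0,1],[1],[1],[0],[0,1],[0],[0,1],[1],[1],[1],[0,1],[0,1]],
      [[],[1],[0],[0,1],[0,1],[0,1],[],[1],[0],[0],[],[0,1],[0,1],[0],[1],[0,1],[0,1],[1],[0]],
      [[1],[],[0,1],[],[0],[0],[],[0],[1],[0,1],[1],[0],[],[0],[],[1],[],[1],[0],[],[],[1],[]],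
      [[],[],[0,1],[1],[0,1],[],[],[],[0],[],[],[],[0,1],[],[],[]],
      [[],[0],[],[],[],[0],[],[]]]),
    (0x4bab29d0cf859ac29ee85456410c20, [[[0,1]],
      [[0,1],[0]],
      [[1],[0],[0,1]],
      [[],[0,1],[],[]]]),
    (0xbad106be349166cb1d35519c410c20, [[[0,1]],
      [[0],[0]],
      [[],[0]]]),
    (0xbaa959ca28795a93d990591c610c20, [[[0]],
      [[0,1]],
      [[0,1],[0,1]],
      [[0],[0,1],[0,1],[]],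
      [[0,1],[0,1],[0],[],[0]],
      [[1],[],[],[0],[0],[1]],
      [[1],[],[],[]]]),
    (0x719f094e34add0a5b12d3d8a418440, [[[0,1]],
      [[0,1],[0,1]],
      [[0,1],[0],[1],[0,1]],
      [[],[],[1],[0,1],[],[]]]),
    (0x33aad9c9687da8a8b0b03dd2418440, [[[0,1]],
      [[0,1],[0,1]],
      [[0,1],[0,1],[0,1],[0,1]],
      [[0,1],[0,1],[0,1],[1],[1],[0,1],[0,1],[0]],
      [[0,1],[0,1],[0,1],[0,1],[1],[0],[0],[0,1],[1],[1],[1],[0,1],[0,1]],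
      [[1],[0,1],[0],[0,1],[1],[0,1],[1],[0],[1],[0,1],[0,1],[1],[0],[0],[0],[0,1],[1],[],[],[0,1]],
      [[1],[0,1],[1],[1],[0],[0],[],[0,1],[0],[0,1],[],[0],[],[],[],[],[0],[],[0],[0,1],[],[],[],[],[]],
      [[0],[1],[],[],[],[1],[],[],[],[0],[],[],[],[0],[],[],[]],
      [[1],[],[],[],[]]]),
    (0xbb56941a30796c7aaa93649c418440, [[[0,1]],
      [[0,1],[0,1]],
      [[0,1],[0,1],[0,1],[0,1]],
      [[0,1],[0,1],[0,1],[0,1],[1],[0,1],[0,1],[0]],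
      [[0,1],[0,1],[],[0,1],[],[0,1],[0,1],[0],[],[0],[0,1],[1],[0,1],[1]],
      [[],[0,1],[0,1],[0],[0],[],[0,1],[0],[1],[0,1],[0,1],[1],[0,1],[],[],[0],[0],[0,1]],
      [[1],[1],[],[0,1],[0,1],[1],[],[],[0,1],[0,1],[],[1],[],[0],[0],[],[],[],[1],[0],[]],
      [[1],[0],[],[0,1],[],[0,1],[0],[],[0],[],[],[],[],[],[],[1]],
      [[],[1],[0],[],[],[],[],[1],[]]]),
    (0x3aead9c9504328eb452fb988518801, [[[0,1]],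
      [[0,1],[0,1]],
      [[1],[0],[0],[1]],
      [[0],[],[],[]]]),
    (0xbae6fac232a1504b292d399cc18801, []),
    (0x52e68ac0f26b1eeb5cd48a48510c01, [[[0,1]],
      [[0,1],[0,1]],
      [[1],[0],[0],[1]],
      [[0],[],[],[]]]),
    (0x3b52b8199342ad1a3aafbc88510c01, [[[0,1]],
      [[0,1],[0,1]],
      [[0,1],[0,1],[0,1],[0,1]],
      [[0,1],[0],[0,1],[0,1],[1],[0,1],[0,1],[0]],
      [[0,1],[0,1],[1],[1],[0],[0,1],[0],[0,1],[1],[1],[1],[0,1],[0,1]],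
      [[],[1],[0],[0,1],[0,1],[0,1],[],[1],[0],[0],[],[0,1],[0,1],[0],[1],[0,1],[0,1],[1],[0]],
      [[1],[],[0,1],[],[0],[0],[],[0],[1],[0,1],[1],[0],[],[0],[],[1],[],[1],[0],[],[],[1],[]],
      [[],[],[0,1],[1],[0,1],[],[],[],[0],[],[],[],[0,1],[],[],[]],
      [[],[0],[],[],[],[0],[],[]]]),
    (0x89d1094ef4695e952d95b11c610c01, [[[0,1]],
      [[0,1],[0,1]],
      [[0,1],[0,1],[1],[]]]),
    (0x7d13672e11bccca932a52350710c01, [[[0,1]],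
      [[0],[0,1]],
      [[0,1],[0,1],[0,1]],
      [[0,1],[0,1],[1],[0,1],[0,1],[0]],
      [[0],[0,1],[0],[0],[0],[0],[0,1],[1],[0,1],[1]],
      [[1],[0,1],[0],[1],[0,1],[0,1],[1],[0,1],[],[1],[0,1],[0],[0,1]],
      [[0,1],[1],[1],[0,1],[0,1],[1],[0,1],[],[0],[0],[],[],[1],[],[0,1],[1],[0],[0]],
      [[0],[0],[0],[0,1],[],[0,1],[0],[],[0],[],[0],[1],[],[],[0],[0],[0],[],[]],
      [[1],[1],[0],[0],[],[1],[0],[],[0],[],[],[],[0],[]],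
      [[1],[],[],[],[1],[],[],[]]]),
    (0x89a4d456ef8168a4b173259c710c01, [[[0]],
      [[0,1]],
      [[0,1],[0]],
      [[0],[],[0]],
      [[0,1],[]],
      [[],[0]]]),
    (0x8aeb49caf0795a4b1cc8525cc10c01, []),
    (0x64db2b514b49eb7845e67208508062, [[[0,1]],
      [[0,1],[0,1]],
      [[0,1],[0,1],[0,1],[0,1]],
      [[0,1],[0,1],[0,1],[0,1],[1],[0,1],[0,1],[0]],
      [[0,1],[0,1],[1],[0,1],[1],[0,1],[0,1],[0],[0,1],[1],[0,1],[1],[0,1],[0,1]],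
      [[],[0,1],[0],[0,1],[0,1],[0,1],[0],[0,1],[0],[0,1],[1],[0,1],[0,1],[0,1],[0,1],[0,1],[0,1],[0],[0,1],[0,1],[0,1],[1],[0]],
      [[0,1],[1],[1],[0,1],[],[0,1],[0],[1],[0,1],[1],[0,1],[0,1],[1],[0,1],[],[1],[0,1],[0],[1],[0,1],[],[1],[0],[],[0],[],[],[1],[0,1],[0],[],[1],[0,1],[],[0],[1],[0]],
      [[1],[0,1],[0],[0,1],[1],[0,1],[1],[1],[0,1],[0,1],[],[0],[0],[],[0,1],[],[0],[0],[],[],[],[],[0,1],[1],[],[0],[],[1],[1],[1],[1],[1],[0,1],[],[],[],[],[],[],[1]],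
      [[0,1],[],[0,1],[1],[0,1],[0],[0,1],[0,1],[0],[],[],[],[0],[],[],[1],[],[1],[],[],[],[0],[],[0,1],[1],[0],[],[],[],[],[],[0],[]],
      [[0,1],[],[],[],[],[],[],[0],[0],[],[],[1],[],[1],[1],[],[],[],[],[],[],[]],
      [[],[],[1],[],[],[],[]]]),
    (0x52513a3ced9320e35ed58ac8508062, [[[0,1]],
      [[0,1],[0,1]],
      [[0,1],[0],[0,1],[0,1]],
      [[0,1],[0,1],[],[],[1],[],[]],
      [[],[0,1],[],[],[0]],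
      [[0],[1],[]]]),
    (0x29df3a41d2ac50952d8db12e608062, [[[0,1]],
      [[0,1],[0,1]],
      [[0,1],[0,1],[0,1],[]],
      [[0,1],[],[0],[0,1],[],[]],
      [[0,1],[0,1],[],[],[]],
      [[],[0,1],[],[]]]),
    (0x921d15de864d4aa9b1f6241a708062, [[[0,1]],
      [[0,1],[0,1]],
      [[1],[0,1],[0,1],[0,1]],
      [[0,1],[0,1],[0,1],[],[0,1],[0,1],[0]],
      [[],[1],[],[0,1],[0,1],[0],[0],[0,1],[],[0,1],[1]],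
      [[],[],[0],[1],[0,1],[1],[1],[0],[],[],[],[0,1]],
      [[],[1],[],[1],[],[],[],[],[]]]),
    (0x7264d854b345e8a332cf22e2708062, [[[0,1]],
      [[],[0]],
      [[0,1]]]),
    (0x2a6b49c9d07c5a7312c862eea08062, [[[0]]]),
    (0x5ba70aa1346d9e3b8a32094c0628e4, [[[0,1]],
      [[0,1],[0,1]],
      [[0,1],[0,1],[0,1],[1]],
      [[0,1],[0,1],[0,1],[1],[1],[0],[0]],
      [[0,1],[0,1],[0],[1],[1],[0],[0],[0],[1],[1]],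
      [[1],[1],[0],[1],[1],[0],[],[1],[1],[],[0],[]],
      [[1],[],[1],[0],[],[],[],[],[]]]),
    (0x7d13689a6ebc16368aa50c900628e4, [[[0,1]],
      [[0,1],[0,1]],
      [[0,1],[0,1],[0,1],[0,1]],
      [[0,1],[0,1],[0,1],[0,1],[1],[0,1],[0,1],[0]],
      [[0,1],[0,1],[0,1],[0,1],[1],[0,1],[0,1],[0],[0,1],[1],[0,1],[1],[0,1],[0,1]],
      [[1],[0,1],[0],[0,1],[1],[0,1],[0,1],[0],[0,1],[0,1],[0,1],[],[0,1],[0,1],[0,1],[0,1],[0,1],[0],[0],[0,1],[0,1],[0,1],[],[0,1]],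
      [[1],[0,1],[0,1],[1],[0,1],[0],[1],[0,1],[0],[1],[0,1],[],[0,1],[0,1],[1],[1],[0,1],[0],[0,1],[0,1],[1],[0,1],[],[0,1],[0],[],[0],[],[],[0,1],[0],[],[],[0,1],[1],[0],[],[]],
      [[0],[1],[0,1],[0,1],[0],[0,1],[1],[1],[],[0,1],[],[1],[0,1],[1],[0],[],[],[],[],[0],[0],[0],[],[],[1],[],[1],[1],[0],[],[],[],[0],[1],[1],[],[],[0,1],[],[0],[],[],[]],
      [[0,1],[0],[],[],[],[0,1],[],[1],[0],[],[0],[0],[],[0],[],[0,1],[],[],[],[0],[],[0],[],[0],[],[],[0],[],[0],[],[1]],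
      [[],[0],[1],[1],[0],[],[0],[1],[],[0,1],[],[],[],[],[],[],[],[]],
      [[],[],[],[],[1],[],[],[]]]),
    (0x856c6725f78cd6168e451510051d84, [[[0,1]],
      [[0,1],[0,1]],
      [[0,1],[0,1],[0,1],[0,1]],
      [[0,1],[0,1],[0,1],[0,1],[1],[0,1],[0,1],[0]],
      [[0,1],[0,1],[],[0,1],[],[0,1],[],[0],[],[],[0,1],[1],[0],[1]],
      [[],[],[0],[],[],[],[],[],[0,1],[],[],[],[0],[0]]]),
    (0x4ba6fac0d2a590128eed1456051d84, [[[0]],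
      [[0,1]],
      [[1],[0]]]),
    (0x315106bd3492e6170e3515ec051d84, [[[0,1]],
      [[0,1],[0]]]),
    (0x5c695836d342641b89cf194c03a984, [[[0,1]],
      [[0,1],[0]],
      [[0,1],[0,1],[0,1]],
      [[0,1],[0,1],[0,1],[],[],[]],
      [[0,1],[],[0],[1],[],[]],
      [[1],[0],[],[]]]),
    (0x33ab49c9307d9a128a281dd603a984, [[[0]],
      [[0,1]],
      [[1],[0]]]),
    (0x495b2450cf82ea170af31c6c03a984, [[[0,1]],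
      [[0,1],[0]]]),
    (0x60e4d8549342a971382f280f1b2d26, [[[0,1]],
      [[0],[1]],
      [[],[0]]]),
    (0x20eb49c99079db11142870157b2d26, [[[0,1]],
      [[1],[0]],
      [[0],[]]]),
    (0xa8ae554647635cf1cc24802885d926, [[[0,1]],
      [[0,1],[0,1]],
      [[0,1],[0,1],[0],[0,1]],
      [[0,1],[0,1],[0,1],[0,1],[1],[0],[0]],
      [[0,1],[0,1],[0],[],[1],[0],[0],[],[1],[],[0]],
      [[1],[0,1],[],[1],[],[1],[0,1],[],[],[]],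
      [[],[0,1],[0],[0],[1],[],[1]]]),
    (0x609f3a208da9e1719432701515d926, [[[0,1]],
      [[0,1],[0,1]],
      [[],[1],[0],[1]],
      [[0],[],[0]]])],
   [[[0,1]],
    [[0,1],[0,1]],
    [[0,1],[0,1],[0,1],[0,1]],
    [[0,1],[0,1],[0,1],[0,1],[1],[0,1],[0,1],[0]],
    [[0,1],[0,1],[0,1],[0,1],[1],[0,1],[0,1],[0],[0,1],[0,1],[0,1],[1],[0,1],[0,1]],
    [[1],[0,1],[0,1],[0,1],[1],[0,1],[0,1],[0],[0,1],[0,1],[0,1],[1],[0,1],[0,1],[0,1],[0,1],[1],[0,1],[0,1],[0],[0,1],[0,1],[0,1],[1],[0,1]],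
    [[0,1],[0,1],[0,1],[1],[0,1],[0,1],[0],[0,1],[0,1],[0,1],[1],[0,1],[1],[0,1],[0,1],[1],[1],[0,1],[0],[0,1],[0,1],[0,1],[1],[0,1],[],[0,1],[0],[0],[0],[0],[0],[],[0,1],[0,1],[0],[1],[1],[0,1],[1],[0],[0,1],[0],[0,1]],
    [[0,1],[0],[1],[0,1],[0,1],[0],[0,1],[0,1],[0,1],[1],[0,1],[1],[0,1],[0,1],[1],[1],[0,1],[0],[0,1],[0,1],[0],[0],[],[0,1],[0],[0],[0],[0],[],[0,1],[0,1],[0],[],[],[0,1],[1],[0],[0],[0],[0],[0,1],[1],[1],[1],[0],[1],[0,1],[0,1],[1],[1],[0,1],[],[],[],[0],[0],[0,1],[1],[0],[],[1],[1],[]],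
    [[1],[1],[0,1],[0,1],[],[0,1],[1],[0,1],[1],[0,1],[0],[1],[1],[0,1],[0],[0,1],[0,1],[0],[0],[],[0],[0],[0],[0],[0],[],[0,1],[0,1],[0],[],[],[0,1],[1],[0],[0,1],[1],[1],[1],[0],[0,1],[0,1],[1],[1],[0,1],[],[0],[],[0,1],[1],[0],[1],[1],[1],[1],[0],[0],[0],[],[],[],[],[],[0,1],[0],[0],[0],[0],[1],[0,1],[],[1],[1],[],[],[1]],
    [[0,1],[0,1],[1],[0,1],[0,1],[],[0,1],[],[1],[0,1],[0],[],[],[],[0],[0],[0],[],[0,1],[1],[0],[],[],[1],[1],[0],[1],[1],[1],[],[0,1],[0,1],[],[1],[0,1],[],[0],[],[0,1],[1],[1],[1],[0],[0],[],[],[],[],[],[1],[0],[],[0],[0],[1],[],[1],[],[],[],[],[],[],[1],[],[],[],[],[],[],[1],[],[],[],[],[],[],[]],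
    [[],[],[1],[],[1],[1],[0],[],[],[],[0,1],[],[],[],[1],[1],[],[0,1],[0,1],[],[],[],[],[0,1],[],[],[],[],[],[],[],[],[],[],[],[],[],[],[],[],[],[],[],[],[],[1],[],[],[],[],[]],
    [[1],[],[],[1],[],[],[0,1],[],[],[],[],[],[],[],[]],
    [[],[1],[],[]]]⟩

def rowS4 : Row :=
  ⟨0x52e68ac0f26b1eeb5cd48a48510c01, 540,
   [(0x6d8ec8aa972d4935bcce4265018801, 0x859d161664522f45c8c7aa5ed18801),
    (0x89910a3eedaba6c49ed252ca408043, 0x8a5f36a2f493a0c31d75558a400462),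
    (0x605f36a09491e110385528d57326cb, 0x20510a3d8daaa770145270cf1326cb),
    (0x5024d854f34328e0dc4f88c8532576, 0x5024d854f34328e0dc4f88c8532576)],
   [(0xbdab49ca307b9ac5a928398a418820, []),
    (0x5c613a22d56a5ecba9d2394c418820, [[[0,1,2,3]],
      [[0,1,2,3],[0,1,2],[],[0]],
      [[0,1,2,3],[0,2,3],[0,1,2],[],[0],[2],[],[1,3]],
      [[],[1,2],[],[],[0],[1],[],[],[],[],[],[],[2],[]]]),
    (0x7d6c971a11bcd6c6aa853c90418820, [[[0,1,2,3]],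
      [[0,1,2,3],[0,1,3],[0,1,2,3],[0]],
      [[0,1,2,3],[0,1,3],[0,1,2,3],[],[0,2,3],[0,2,3],[0],[0,1,3],[3],[3],[0],[1,2]],
      [[1,2],[0,1],[0,1,2],[],[3],[0,3],[0],[1,3],[],[],[0],[],[3],[],[],[],[0],[],[1],[],[],[],[0],[1],[],[1]],
      [[0],[],[],[],[],[],[],[],[],[],[],[],[],[],[],[],[],[],[],[]]]),
    (0x8adb2452ef816acb28d33a5c418820, [[[0,2]],
      [[0,1,2,3],[]],
      [[2],[],[],[]]]),
    (0x71a4d7d4a89de8c4a9703da2418820, [[[0,1,2,3]],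
      [[0,1,2,3],[0],[],[0]],
      [[0,1,2,3],[],[],[],[3],[]]]),
    (0x55a0f94cf5a310e5dd2d8988518820, [[[0]]]),
    (0x75a95434af85e4a5b13321a2718820, [[[0]]]),
    (0xadaee3c64a650af5c124999a818820, [[[0,3]],
      [[1,2,3],[0]],
      [[3],[],[],[]]]),
    (0x8da4d856f34168459d2f519cc18820, []),
    (0x659f06a094aaa775b932298f118820, [[[1]]]),
    (0x8da6fac2f2a390c59ccd524a410c20, [[[0,1,2]],
      [[1,2],[0,2],[]]]),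
    (0xbd136819d37c56a6b2a83c8a410c20, [[[0,1,2,3]],
      [[0,1,2,3],[0,2,3],[0,1,2],[0]],
      [[0,1,2],[1,2,3],[3],[0],[0,2,3],[0,1,2],[],[1,3],[],[],[2,3]],
      [[1,3],[0],[0,1,2],[3],[3],[0],[0],[1,3],[],[3],[0],[3],[],[],[3],[0],[3],[]],
      [[3],[0],[3],[3],[],[],[0],[0],[3],[1,3],[3],[],[],[],[],[],[],[]],
      [[],[],[0],[0],[],[],[],[],[],[]]]),
    (0x7a6958ca6ebc1aa5b2c53990410c20, [[[0,1,2,3]],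
      [[0,1,2,3],[0,1,2,3],[0,1,2,3],[0]],
      [[0,1,3],[0,3],[0,1,2,3],[0],[0,2,3],[0],[0,1,2,3],[],[0,1],[3],[],[0],[1,2,3]],
      [[1,2,3],[1,2,3],[],[0,2,3],[],[0,1,3],[3],[3],[],[],[0],[1,2,3],[],[],[],[],[],[],[3],[],[],[],[2],[],[]],
      [[],[1],[],[],[],[],[],[],[],[],[],[],[],[],[],[],[],[],[],[]]]),
    (0xbad106be349166cb1d35519c410c20, [[[0,1,3]],
      [[1],[3],[0]],
      [[],[0],[]]]),
    (0xbc2954c9d6345ac41e6b53ca418440, [[[0,1,2,3]],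
      [[0,1,2,3],[0,1,2,3],[0,1,2,3],[0]],
      [[0,1,2,3],[0,1,2,3],[0,1,2,3],[],[0,2,3],[0,2,3],[0,1,2,3],[0],[0,1,3],[3],[3],[0],[1,2,3]],
      [[1,2],[0,1,2,3],[0,1,2,3],[0],[0,2,3],[0],[1],[],[1,3],[],[],[],[3],[1,2],[0],[],[1,2,3],[0],[3],[3],[3],[0],[2,3],[1,3],[],[0],[],[0],[1,3],[1,2,3],[1,3],[]],
      [[0],[1,2],[],[0,3],[3],[0],[1],[3],[3],[0],[1,2],[0],[3],[0],[2,3],[],[3],[],[],[],[],[3],[3],[3],[0],[],[],[],[0],[3],[1],[],[3],[],[3],[],[],[],[],[],[],[],[]],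
      [[3],[],[],[],[0],[],[],[],[],[0],[1],[],[1],[3],[],[],[3],[],[],[],[],[],[],[],[],[],[],[]]]),
    (0x719f094e34add0a5b12d3d8a418440, [[[0,1,2,3]],
      [[0,1,2,3],[0,2],[],[0]],
      [[1,2],[1,3],[],[],[],[],[]]]),
    (0x9262e85eb37d0ac59ec8519a418440, [[[0,1,2,3]],
      [[1,2,3],[0,1,2,3],[0,1,3],[0]],
      [[0,1,2,3],[3],[0],[2,3],[2,3],[3],[0],[3],[3],[],[]],
      [[],[3],[],[],[0],[],[],[],[],[],[],[],[],[]]]),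
    (0xbda68abcad93a0a4b17439a2418440, [[[0,1,2,3]],
      [[1,2,3],[0,1],[0,1],[0]],
      [[0],[0,1],[],[],[],[],[],[]]]),
    (0xbae4d8563343a8cb28cf3a4a410c01, [[[0]]]),
    (0x726b4448af85dac32ad33ae2410c01, [[[0,2,3]],
      [[0],[],[0]],
      [[0,3],[]]]),
    (0x52e68ac0f26b1eeb5cd48a48510c01, []),
    (0x3b52b8199342ad1a3aafbc88510c01, [[[0,1,2,3]],
      [[0,1,2,3],[0,2,3],[0,1,2],[0]],
      [[0,1,2],[1,2],[],[],[0,2,3],[0,1,2],[],[3],[],[],[2,3]],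
      [[],[],[1,2],[],[],[],[],[],[],[],[],[],[],[]]]),
    (0x9b295bb5ee8c2563a5455910610c01, [[[0,1,2,3]],
      [[0,1,2,3],[0,1,2,3],[0,2,3],[0]],
      [[0,1,2,3],[1,2],[0,2,3],[0],[0,3],[0,3],[0,1,2,3],[0],[0,1],[],[0],[1,2,3]],
      [[1,3],[1,2],[0,2,3],[0],[0],[2],[0,1],[],[],[1,2],[0,3],[],[2],[0],[3],[],[],[],[],[1,3],[],[],[2],[],[]]]),
    (0x89a4d456ef8168a4b173259c710c01, [[[0,1,2,3]],
      [[0,2,3],[],[],[]]]),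
    (0x72db27d0a89deaab30d02262710c01, [[[1]]]),
    (0x698b13ba8a64aef4c1649daa810c01, [[[0,1,2,3]],
      [[0,1,2,3],[1,2,3],[1,3],[0]],
      [[],[0],[],[],[],[],[],[],[],[]]]),
    (0x3ae0f94d55a1105b44cdba58e10c01, []),
    (0x62d13a3c8d92a17b38d52a4f110c01, [[[0]]]),
    (0xba5b27d2289baac32ad03aca408062, [[[0,1]],
      [[1],[]]]),
    (0x89ab484af3415ac4a96f3d9c408062, [[[0,2,3]]]),
    (0x64db2b514b49eb7845e67208508062, [[[0,1,2,3]],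
      [[0,1,2,3],[0,2,3],[0,1,2,3],[0]],
      [[0,1,2,3],[1,2],[],[],[0,2,3],[0,1,2,3],[0],[0,3],[3],[3],[0],[1,2,3]],
      [[1,2],[2,3],[1,2,3],[0],[],[],[3],[],[],[3],[3],[3],[0],[2,3],[3],[],[],[0],[3],[2],[],[]],
      [[],[],[3],[],[3],[3],[],[1,2],[],[],[],[],[3],[],[],[],[],[],[]]]),
    (0x52513a3ced9320e35ed58ac8508062, [[[0,1]],
      [[1],[]]]),
    (0x8324d755172ce963a551591e608062, [[[0,1,2,3]],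
      [[0,1,2,3],[0,1,2,3],[0,2,3],[0]],
      [[0,1,2,3],[1,2],[0,2,3],[0],[0,3],[0,3],[0,1,2,3],[0],[0,1],[],[0],[1,2,3]],
      [[1,3],[1,2],[0,2,3],[0],[0],[2],[0,1],[],[],[1,2],[0,3],[],[2],[0],[3],[],[],[],[],[1,3],[],[],[2],[],[]]]),
    (0xaaaf14168f835cb658f34924608062, [[[0,1,2,3]],
      [[0,1,2,3],[0,1,3],[0,1,2,3],[0]],
      [[0,1,2,3],[0,1,3],[0,1,2,3],[],[0,2,3],[0,2,3],[0],[0,1,3],[3],[3],[0],[1,2]],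
      [[1,2],[0,1],[0,1,2],[],[3],[0,3],[0],[1,3],[],[],[0],[],[3],[],[],[],[0],[],[1],[],[],[],[0],[1],[],[1]],
      [[0],[],[],[],[],[],[],[],[],[],[],[],[],[],[],[],[],[],[],[]]]),
    (0x7264d854b345e8a332cf22e2708062, [[[0,1]],
      [[1],[]]]),
    (0x29a957b5c89c64a4b17025ae708062, [[[0]],
      [[0]],
      [[0]]]),
    (0x9994cb9e112a0944d56e959ed08062, [[[0,1,2,3]],
      [[3],[3],[3],[]]]),
    (0x3a5f06a154a9265346d2bad8e08062, [[[0,1]],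
      [[1],[]]]),
    (0x5ba70aa1346d9e3b8a32094c0628e4, [[[0,1,2,3]],
      [[0,1,2,3],[0,1,2,3],[0,3],[0]],
      [[0,1,2,3],[1,2],[3],[],[0,3],[0],[],[],[0,1],[0],[1]],
      [[],[1,2],[],[],[],[],[],[],[],[],[],[],[],[]]]),
    (0x7d13689a6ebc16368aa50c900628e4, [[[0,1,2,3]],
      [[0,1,2,3],[0,1,2,3],[0,1,2,3],[0]],
      [[0,1,2,3],[0,1,2],[0,2,3],[0],[0,2,3],[0,2,3],[0,1,2,3],[0],[0,1],[3],[3],[0],[1,2,3]],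
      [[1,3],[1,2,3],[0,1,2,3],[0],[0,3],[0],[1,2],[0,1,3],[3],[],[1,2,3],[0,3],[1,2,3],[],[2],[1,2,3],[0],[3],[3],[3],[0],[2,3],[1,3],[],[],[0],[1],[1,2],[3],[]],
      [[0,1],[],[3],[3],[],[1],[3],[3],[0],[1,3],[0],[0],[2,3],[],[],[],[3],[0],[],[3],[3],[],[],[0],[],[],[],[],[3],[3],[0],[2],[],[],[0],[3],[1,3],[],[3],[],[1,3],[],[],[],[]],
      [[3],[],[],[],[],[],[],[1],[1],[],[3],[],[3],[],[],[],[],[],[],[],[],[],[],[],[],[],[],[],[],[]]]),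
    (0x34613a3ed592503289cd0dd60628e4, [[[0,1,2,3]],
      [[0,1,2,3],[0,3],[0,1,2,3],[0]],
      [[0,1,2,3],[1],[0,2,3],[],[3],[],[1],[],[],[0],[1]],
      [[],[3],[1,2],[],[],[],[3],[],[],[],[],[]]]),
    (0x9422e4deb6350a340a6b0bda0628e4, [[[0,1,2,3]],
      [[0,3],[0,1,2,3],[0,1,2,3],[0]],
      [[0,1,2,3],[],[0,2,3],[0,2,3],[0,1,2,3],[0],[0,3],[3],[3],[0],[1,2]],
      [[],[1,2],[0,1],[],[0,3],[1,2,3],[0],[2,3],[2],[0],[3],[3],[],[],[2],[1,3],[],[],[0],[],[1],[1]],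
      [[],[],[],[],[3],[0],[3],[],[],[],[3],[],[],[],[],[],[],[],[],[],[],[]]]),
    (0xbd6c999a307b96268e880c8a0530e4, [[[0,1,2,3]],
      [[0,1,2,3],[0,1,3],[0,1,2,3],[]],
      [[0,3],[0,1,3],[0,1,3],[],[2,3],[0,3],[0],[3],[],[],[0]],
      [[],[],[],[0],[],[],[],[],[],[],[],[],[],[],[]]]),
    (0x8b566426ef816c2a8e530d1c0530e4, [[[0,1,2,3]],
      [[0,1,2,3],[0,1,3],[0,1,2,3],[0]],
      [[0,1,2,3],[0,1,3],[0,1,2,3],[],[0,2,3],[0,2,3],[0],[0,1,3],[3],[3],[0],[1,2]],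
      [[1,2],[0,1],[0,1,2],[],[3],[0,3],[0],[1,3],[],[],[0],[],[3],[],[],[],[0],[],[1],[],[],[],[0],[1],[],[1]],
      [[0],[],[],[],[],[],[],[],[],[],[],[],[],[],[],[],[],[],[],[]]]),
    (0x748cb7d8a89dd22a0db00d620530e4, [[[0,1,2,3]],
      [[0,1,2],[0,1,3],[0,1,2,3],[]],
      [[1,2],[0,1],[0,1,2],[],[0,2,3],[0],[1],[3],[3],[]],
      [[0,1],[0],[],[],[],[],[],[],[],[],[],[],[],[]]]),
    (0x4ba6fac0d2a590128eed1456051d84, [[[0,1,3]],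
      [[0,1,2],[3],[0]],
      [[0,1,3],[2],[0],[0],[1]]]),
    (0x315106bd3492e6170e3515ec051d84, [[[0,1,2]],
      [[0,1,2,3],[0,1],[]],
      [[0,1,2],[3],[1],[],[],[]],
      [[],[1],[],[],[]]]),
    (0x5c695836d342641b89cf194c03a984, [[[0,1,2,3]],
      [[0,1,2,3],[0,1,2],[],[0]],
      [[0,1,2,3],[0,2,3],[0,1,2,3],[],[0,2,3],[2],[],[1]],
      [[],[1,2],[],[],[],[1],[],[],[],[],[],[],[],[],[],[]]]),
    (0x33ab49c9307d9a128a281dd603a984, [[[0,1,2,3]],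
      [[0,1,2,3],[0],[],[0]],
      [[0,1,2,3],[],[1],[],[],[]]]),
    (0x495b2450cf82ea170af31c6c03a984, [[[0,1]],
      [[0,1,2],[1]],
      [[0,1],[0,2],[0,2],[]],
      [[3],[1],[],[2],[],[]]]),
    (0xb8d13a3e2d93a0c12835380a4b2d26, [[[0,1]],
      [[1],[]]]),
    (0x50db27d0e89b2ae15c3088085b2d26, [[[0,1]],
      [[1],[]]]),
    (0x28e0f94dd5a45071102d602eab2d26, [[[0,1]],
      [[1],[]]]),
    (0x88df06a2f4a966411c32501ccb2d26, [[[0,1]],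
      [[1],[]]]),
    (0xb8aad84a337968c19c28501c45d926, [[[0,3]],
      [[3],[]]]),
    (0xa8ae554647635cf1cc24802885d926, [[[0,1,3]],
      [[3],[0,3],[]],
      [[],[3],[]]]),
    (0x609f3a208da9e1719432701515d926, [[[0,3]],
      [[3],[]]]),
    (0xb8e95448b07b9aa0b05338224b2566, [[[0,1,2,3]],
      [[1,2,3],[0,1],[0,1],[0]],
      [[0],[0,1],[],[],[],[],[],[]]]),
    (0x80d8a29d1773c950d0519026db2566, [[[0,1,2,3]],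
      [[1,2,3],[0,1,3],[0,1,2,3],[0]],
      [[0,1],[0,2],[0],[2],[0],[0],[1],[3],[3],[0],[1,2]],
      [[3],[],[3],[],[],[],[],[],[],[],[],[],[],[]]]),
    (0x38d13a4192691f109455b814eb2566, [[[0,1,2,3]],
      [[1,2,3],[0,1],[0,1],[0]],
      [[0],[0,1],[],[],[],[],[],[]]]),
    (0x78ab42c90ebc1ac0a871382644d966, [[[0,1,2,3]],
      [[0,2,3],[1,2,3],[3],[0]],
      [[3],[3],[0],[],[],[],[],[]]]),
    (0x80a958b67773e4a0b065201074d966, [[[0,1,2,3]],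
      [[0,2,3],[0,1,2,3],[3],[0]],
      [[0,1,2,3],[0,1,3],[0],[3],[],[3],[],[0],[2]],
      [[2,3],[2],[3],[],[3],[3],[],[],[],[],[],[]]]),
    (0x40a4d755e58ce8409c775020c4d966, [[[0,1,2,3]],
      [[0,2,3],[1,2,3],[3],[0]],
      [[3],[3],[0],[],[],[],[],[]]]),
    (0xb860f94e35a390c0286d388a449acb, [[[0]]]),
    (0x506b49c8f07b1ae05c688888549acb, [[[0]]]),
    (0x705f06a0b4ade6a0307220a2749acb, [[[0,1]],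
      [[1],[]]]),
    (0x88668ac2f2695e401c74509cc49acb, [[[0]]]),
    (0x3864d85553412850446fb898e49acb, [[[0]]]),
    (0x606954348f82a5703873288f149acb, [[[0,1]],
      [[1],[]]]),
    (0x88654856f37b9ac01c4850ca4326cb, [[[0,2]],
      [[2],[]]]),
    (0x3866fac152a310e0444db8c85326cb, [[[0,1,2]]]),
    (0x9062e55ea7650af04c4480da8326cb, [[[0,2,3]],
      [[3],[0,3],[0]]])],
   [[[0,1,2,3]],
    [[0,1,2,3],[0,1,2,3],[0,1,2,3],[0]],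
    [[0,1,2,3],[0,1,2,3],[0,1,2,3],[0],[0,2,3],[0,2,3],[0,1,2,3],[0],[0,1,3],[3],[3],[0],[1,2,3]],
    [[1,2,3],[0,1,2,3],[0,1,2,3],[0],[0,2,3],[0,3],[1,2,3],[0],[0,1,3],[3],[3],[0],[1,2,3],[0,3],[1,2,3],[0],[2,3],[1,2,3],[0],[3],[3],[3],[0],[2,3],[1,3],[3],[0],[],[0],[1,3],[1,2,3],[1,3],[]],
    [[0,1,3],[1,2,3],[0],[2,3],[0,3],[3],[0],[1,3],[3],[3],[0],[1,2,3],[0,3],[1,2,3],[0],[2,3],[0],[3],[3],[0],[2,3],[3],[3],[0],[],[0],[1,3],[1,2,3],[1,3],[],[3],[0],[3],[3],[],[3],[3],[],[3],[3],[0],[2,3],[],[],[0],[3],[1,3],[],[3],[],[0],[1,3],[1,3],[3],[],[3],[3],[],[3],[]],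
    [[3],[3],[0],[3],[3],[0],[1,2,3],[3],[0],[3],[0],[],[2,3],[3],[0],[],[0],[1,3],[1,3],[1,3],[],[3],[0],[3],[3],[],[3],[3],[],[2,3],[],[0],[3],[1,3],[],[],[],[3],[3],[3],[],[3],[3],[],[3],[],[],[3],[],[],[],[],[],[],[3],[3],[],[3],[],[3],[],[],[3],[3],[],[3],[],[],[],[],[]],
    [[],[0],[3],[],[0],[3],[1,3],[1,3],[],[],[3],[],[3],[3],[],[],[3],[3],[3],[],[3],[],[3],[],[],[3],[],[],[],[],[3],[],[3],[],[3],[],[],[],[],[],[],[],[],[],[],[],[],[],[],[]],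
    [[3],[],[3],[],[3],[],[3],[],[],[],[],[],[],[],[],[],[],[],[],[]]]⟩

def rowS5 : Row :=
  ⟨0x89a4d456ef8168a4b173259c710c01, 18,
   [(0x48e6f8a16e2da0409c17508ccac9b4, 0x43860a8a6da402489ef2515ecb1969),
    (0x6c6704a296355e429dcb65e4a00462, 0x341d1a96d46a6e74127253d6c08043),
    (0x1bdb5bd04e2864c9a91124007b192b, 0x98e925b506b42ac02829209e7bc5c5),
    (0x32135bc26b09053b889ba871aca8d, 0x3bc61a0895928169990d5c1892ba37)],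
   [(0xbdab49ca307b9ac5a928398a418820, []),
    (0x5c613a22d56a5ecba9d2394c418820, [[[0,1,2,3]],
      [[0,1,2,3],[1,2,3],[0,1,2,3],[0,1,2,3]],
      [[2,3],[1,2,3],[0,2,3],[1,2,3],[0,2,3],[0,2,3],[0,1,2,3],[0,2,3],[1],[1,3],[2,3],[0,1,2],[0,3],[0,1,2],[0,1,2,3]],
      [[],[1,3],[1,3],[2,3],[0,2],[],[0,2,3],[2,3],[2],[0,3],[0,1,2],[0,1],[3],[0,1,3],[2],[3],[3],[2],[1],[2],[0,1],[2,3],[],[0,1],[],[],[0,2],[],[1],[3],[1],[2,3],[1],[1],[],[],[1],[],[],[0,2],[0]],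
      [[1,2],[],[],[0],[],[],[],[],[3],[],[],[0],[2],[],[],[],[0,2],[3],[],[],[],[],[],[],[],[],[],[],[],[],[],[],[],[],[],[],[],[],[],[],[],[],[],[],[],[],[],[],[],[]]]),
    (0x7d6c971a11bcd6c6aa853c90418820, [[[0,1,2,3]],
      [[0,1,2,3],[0,2,3],[0,1,2,3],[0,1,2,3]],
      [[2,3],[2,3],[3],[1,2,3],[2,3],[0,2],[0,1,2,3],[2,3],[0,3],[3],[],[0,1],[0,1],[3],[3]],
      [[3],[],[],[0],[1,3],[],[1],[0],[],[1],[3],[],[],[1],[3],[],[],[3],[],[],[0],[],[2],[],[],[],[]]]),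
    (0x8adb2452ef816acb28d33a5c418820, [[[0,1,2,3]],
      [[0,1,2,3],[2,3],[1],[0,1,2,3]],
      [[2,3],[3],[3],[1,2,3],[],[0,1,2,3],[3],[],[],[2],[1]]]),
    (0x2a695835d34464c32acf3aee418820, [[[0,2,3]],
      [[0,3],[1],[0,1,2,3]],
      [[3],[1,2,3],[],[],[],[],[]]]),
    (0x8da6fac2f2a390c59ccd524a410c20, [[[0,1,2,3]],
      [[0,1,2,3],[0,1,2,3],[0,1,2,3],[0,1,2,3]],
      [[0,1,2,3],[0,2,3],[0,1,2,3],[0,1,2,3],[0,2,3],[0,1,2,3],[0,1,3],[0,1,2,3],[0,2,3],[1,2],[0,1,2,3],[0,1,2],[0,1,2,3],[1,3],[0],[0,1,2,3]],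
      [[1,2,3],[1,3],[1,3],[0,1,2],[2,3],[0,1,3],[0,1,2,3],[0,2,3],[0,3],[3],[1,2,3],[1],[0,1,2],[1,2,3],[1,2,3],[0,1,3],[0,1,3],[0,3],[],[3],[2,3],[0,1,3],[0,2,3],[3],[0,1,2,3],[0,1,2],[1,2,3],[0,2],[0,3],[0],[2,3],[2,3],[0],[0],[0],[3],[3],[0,1,3],[0],[0,1,3],[1],[1,3],[3],[],[3],[3],[1,2,3],[1],[2],[0],[2],[0,1,3]],
      [[1],[3],[0],[],[0,1,2],[],[1],[],[0,1],[0,3],[1],[1,3],[3],[3],[],[],[1,2,3],[2],[],[3],[],[3],[2],[1],[2],[],[],[1,2,3],[0,2],[],[1],[0],[],[1],[0,3],[1,2],[],[3],[],[0],[1],[3],[],[0],[],[0],[2],[3],[2],[0,1],[],[],[3],[3],[],[3],[],[1,2],[],[3],[],[],[],[],[],[1],[3],[],[],[],[],[],[],[],[],[],[],[],[0],[],[],[],[],[],[],[1],[],[],[],[],[0],[],[],[],[],[],[3],[],[],[],[1],[2],[]],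
      [[],[],[],[],[],[1],[],[],[],[],[3],[],[],[],[],[],[],[],[],[],[],[],[],[],[],[],[],[],[],[],[],[],[],[],[],[],[],[],[],[],[],[],[],[],[],[],[],[],[],[],[],[],[],[],[],[],[],[],[],[],[],[]]]),
    (0xbc2954c9d6345ac41e6b53ca418440, [[[0,1,2,3]],
      [[0,1,2,3],[0,1,2,3],[0,1,2,3],[0,1,2,3]],
      [[0,1,2],[0,1,2,3],[2,3],[1,2,3],[0,1,2,3],[0],[2],[0,1,2,3],[1,3],[0,1,3],[0,3],[1],[0,1,2],[3],[0,3],[1]],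
      [[0,1,2],[0,2],[2,3],[0,3],[1,3],[1,2,3],[2],[2],[0,1,2,3],[0],[1],[2,3],[0,1,2,3],[1,3],[3],[0],[3],[3],[0],[0],[0,3],[],[],[2],[1,2,3],[2],[0,2],[0,3],[],[],[],[],[1],[2,3],[],[3],[]],
      [[1],[1],[],[],[],[],[],[],[1,3],[],[0],[],[1],[2],[2],[],[],[],[2],[3],[],[],[],[3],[],[],[],[],[],[],[],[],[],[],[],[],[],[],[],[],[],[],[],[],[],[],[],[],[],[],[]]]),
    (0x52e68ac0f26b1eeb5cd48a48510c01, [[[0,1,2,3]],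
      [[0,1,2,3],[0,1,2,3],[0,1,2,3],[0,1,2]],
      [[0,1,2,3],[0,1,2,3],[0,1,2,3],[0,1,2,3],[0,1,2,3],[1,2,3],[0,1,2,3],[0,2,3],[1,2,3],[1,2,3],[1,2,3],[0,1,2,3],[0,1,2,3],[0,1,2,3],[1,3]],
      [[3],[2,3],[3],[0,1,3],[1,3],[1,2,3],[1,2,3],[1,2],[3],[1,3],[2],[0,1,3],[0,1,2],[0,1,2,3],[1,2],[1,3],[0,2,3],[1,2,3],[1,2,3],[0,1,2],[3],[1,2,3],[1,2],[0,3],[2],[1,3],[0,1,2,3],[],[3],[0,1,2,3],[1,3],[0,3],[0,2],[3],[1],[0,1,3],[3],[],[1,2],[1],[1,2,3],[0,2],[0,1,3],[2],[2,3],[1,2],[0],[0,1,2,3],[3],[1,2],[1,2],[3],[0,1]],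
      [[0,3],[3],[2],[0,1],[2],[],[0,2],[],[0,1,2],[],[],[2,3],[2,3],[2,3],[2],[1],[2],[1,2],[3],[0,2],[3],[],[],[],[0,3],[1,3],[3],[1,3],[],[0,2],[0,1],[],[1],[3],[1],[0],[],[],[],[],[0],[],[],[],[],[],[3],[],[],[],[],[],[0,2],[],[],[],[3],[3],[1],[1],[2],[],[],[],[2,3],[],[],[],[],[],[2],[2],[0],[],[],[],[],[],[],[],[],[],[],[1],[],[3],[],[],[],[],[],[],[],[],[],[],[],[],[],[],[],[],[],[],[],[],[2],[]]]),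
    (0x6224d3554959e977c61674c8510c01, [[[0,1,2,3]],
      [[0,1,2,3],[1,2,3],[0,1,2,3],[1,2,3]],
      [[0,1,2,3],[0,1,3],[1,2],[2,3],[0,3],[2,3],[0,1,3],[0,1],[2],[2],[0,1,2],[0,3],[],[1]],
      [[0,3],[3],[],[3],[],[3],[3],[],[2],[],[1],[],[0],[],[0],[],[],[],[],[0],[],[],[],[0],[1],[],[],[]]]),
    (0x89a4d456ef8168a4b173259c710c01, []),
    (0x72db27d0a89deaab30d02262710c01, [[[0,2,3]],
      [[0,3],[1],[0,1,2,3]],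
      [[3],[1,2,3],[],[],[],[],[]]]),
    (0x64db2b514b49eb7845e67208508062, [[[0,1,2,3]],
      [[0,1,2,3],[1,2,3],[0,1,2,3],[0,1,2,3]],
      [[0,1,2,3],[0,1,3],[0,1,2,3],[2,3],[0,3],[0,1,2,3],[0,1,2,3],[0,1,3],[2,3],[2],[0,1,2,3],[1,2],[0,1,3],[0,1,2],[1]],
      [[0,2,3],[3],[],[0,3],[0],[3],[0,1,2,3],[0,3],[0,1],[2],[0,1,2],[0],[0,1,2],[],[0,1],[3],[3],[3],[0,1,3],[],[],[0,3],[2],[3],[0],[2],[],[0,3],[1],[],[0,2],[1,3],[],[],[],[2],[1],[1,3],[0,3],[0],[],[3]],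
      [[3],[],[2],[],[],[],[],[],[2],[1],[],[],[],[],[],[],[],[],[],[],[],[],[],[],[],[],[],[],[],[],[],[2],[],[],[],[],[],[],[],[],[],[],[],[],[],[],[],[],[],[],[],[],[]]]),
    (0x52513a3ced9320e35ed58ac8508062, [[[0,1,2,3]],
      [[0,1,2,3],[0,1,2,3],[0,1,2,3],[0,1,2,3]],
      [[0,1,2,3],[0,1,2],[0,1,2,3],[1,2,3],[0,1,2,3],[1,2,3],[0,1,2,3],[2,3],[1,2,3],[2,3],[1,2],[1,3],[0,1,2,3],[0,1],[2],[3]],
      [[],[3],[0],[0,1,3],[3],[1],[1,2,3],[2,3],[1,3],[2],[0],[1,2,3],[1],[0,1,2],[0],[1,3],[1,2],[2],[],[],[2],[],[],[1,3],[1],[3],[],[1],[0,3],[0],[],[1],[1,3],[],[],[2],[2],[2],[1,2],[],[0,1,2,3],[],[],[]],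
      [[3],[],[],[0],[],[],[],[2],[],[],[],[],[],[],[],[],[],[],[],[],[],[],[],[],[],[],[],[],[2],[],[],[],[],[],[],[],[],[],[],[],[],[],[],[],[2],[],[],[],[],[]]]),
    (0x2adb2851d3446a4b1ccf526ec08062, [[[1]]]),
    (0x5ba70aa1346d9e3b8a32094c0628e4, [[[0,1,2,3]],
      [[0,1,2,3],[0,1,2,3],[0,1,2,3],[0,1,2,3]],
      [[1,2],[0,1,2],[0,2],[2,3],[0,1,2,3],[0,1,3],[0,1,2],[0,1,2,3],[1,2,3],[0,2,3],[1],[1],[0,2,3],[1],[0,2,3],[1,2,3]],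
      [[1,2],[],[0],[2],[3],[],[2],[1],[0],[],[3],[],[],[2],[],[2],[],[],[0],[],[],[],[],[],[0],[1],[2,3],[3],[],[3],[],[],[],[],[],[],[],[],[],[],[]]]),
    (0x7d13689a6ebc16368aa50c900628e4, [[[0,1,2,3]],
      [[0,1,2,3],[0,2,3],[0,1,2],[0,1,2,3]],
      [[2,3],[0,1,2,3],[2,3],[1,2,3],[0,1,2,3],[0,1,2],[0,1,2,3],[1,2,3],[1],[0,3],[0,1,2,3],[0,1,3],[0,2,3],[0,2,3]],
      [[1,3],[0,1],[3],[2],[2,3],[0,2],[2,3],[3],[2],[0,1],[0],[2,3],[0,1,3],[3],[1,2],[1,2,3],[],[],[3],[0,1,3],[0,2,3],[2],[3],[0],[3],[],[3],[0],[2,3],[1,2],[3],[],[1],[],[],[1],[],[],[2,3],[2],[]],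
      [[1],[2,3],[],[2],[0],[],[],[],[],[],[],[2],[],[3],[],[0,1],[],[],[],[],[],[],[],[],[],[],[],[],[],[],[],[],[],[],[],[],[],[],[],[],[],[],[],[],[],[],[],[],[],[],[]]]),
    (0x33a68abd6d95a02884b41dd203b144, [[[0,1,2,3]],
      [[0,1,2,3],[0,1,2,3],[0,1,2,3],[1,2,3]],
      [[0,1,2,3],[0,1,3],[0,2,3],[0,1,2,3],[0,2],[2],[0,1,2,3],[0,1,2,3],[0,3],[0,1,2],[0,3],[1,3],[1,2,3],[0,1,2],[0,1,2,3]],
      [[],[0,2,3],[0,3],[0,1,2],[2,3],[3],[0,1,3],[],[0,1,2],[1,3],[2],[1,3],[0,2,3],[0,3],[],[0,2,3],[1,3],[2],[2,3],[2],[0,1,2,3],[],[0,2,3],[1,2],[1,3],[],[2],[0,2,3],[],[0,2,3],[],[3],[3],[0,1],[0,3],[0,1,3],[2,3],[0,2],[],[2,3],[],[0,3],[],[]],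
      [[],[3],[1],[3],[3],[1,2],[1,2],[],[],[2],[0],[],[],[0,1,3],[3],[],[],[1,3],[1,3],[],[],[0],[0],[0],[],[3],[0],[3],[],[],[],[],[],[],[],[],[],[3],[],[],[],[],[],[],[],[],[],[],[],[],[],[],[],[],[],[],[],[],[],[],[],[],[],[],[],[],[],[],[],[],[]]])],
   [[[0,1,2,3]],
    [[0,1,2,3],[0,1,2,3],[0,1,2,3],[0,1,2,3]],
    [[0,1,2,3],[0,1,2,3],[0,1,2,3],[0,1,2,3],[0,1,2,3],[0,1,2,3],[0,1,2,3],[0,1,2,3],[0,1,2,3],[0,1,2,3],[0,1,2,3],[0,1,2,3],[0,1,2,3],[0,1,2,3],[0,1,2,3],[0,1,2,3]],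
    [[0,1,2,3],[0,1,2,3],[0,1,2,3],[0,1,2,3],[0,1,2,3],[1,2,3],[0,1,2,3],[0,1,2,3],[0,2,3],[0,1,2,3],[0,1,2,3],[0,1,2,3],[0,1,2,3],[0,1,2,3],[0,1,2,3],[0,1,2,3],[0,1,2,3],[0,1,2,3],[0,1,2,3],[0,1,2,3],[0,1,2,3],[0,2,3],[0,1,2,3],[0,1,2,3],[0,1,2,3],[0,1,2,3],[0,1,2,3],[0,1,2,3],[0,1,2,3],[0,1,2,3],[0,1,2,3],[0,1,2,3],[0,1,2,3],[0,1,2,3],[0,2,3],[0,1,2,3],[0,1,2,3],[0,1,2,3],[0,1,2,3],[0,1,2,3],[0,1,2,3],[0,1,2,3],[1,2,3],[0,1,2,3],[0,1,2,3],[0,1,2,3],[0,1,2,3],[0,1,2,3],[0,1,2,3],[0,1,2,3],[0,1,2,3],[0,1,2,3],[0,1,2,3],[0,1,2,3],[0,1,2,3],[0,1,2,3],[0,1,2,3],[0,1,2,3],[0,1,2,3],[0,1,3],[0,1,2,3],[0,1,2,3],[0,1,2,3],[0,1,2,3]],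
    [[0,1,2,3],[0,1,2,3],[0,1,2,3],[0,1,2,3],[0,1,3],[1,2,3],[0,1,2,3],[0,1,2,3],[0,2,3],[0,1,2,3],[0,1,2,3],[0,1,2,3],[1,2,3],[0,1,2,3],[0,1,2,3],[0,1,2,3],[0,1,2,3],[0,1,2,3],[0,1,2,3],[0,1,2,3],[0,2,3],[0,1,2,3],[0,1,2,3],[0,1,2,3],[0,1,2,3],[0,1,2,3],[0,1,2,3],[0,1,2,3],[0,1,2,3],[0,1,2,3],[0,1,2,3],[0,2,3],[0,2,3],[0,1,2,3],[0,1,2,3],[0,1,2,3],[1,2,3],[0,1,2,3],[0,1,2,3],[0,1,2],[1,2,3],[0,1,2,3],[0,1,2],[0,1,2,3],[0,1,2,3],[0,1,2,3],[0,1,2,3],[0,1,2,3],[0,1,2,3],[0,1,2,3],[0,1,2,3],[0,1,2,3],[0,1,2,3],[0,1,2,3],[0,1,2,3],[0,1,2,3],[0,1,2,3],[0,1,3],[0,1,2,3],[0,1,2,3],[0,1,2,3],[0,1,2,3],[0,2,3],[0,1,2,3],[0,1,3],[0,1,2,3],[0,1,2,3],[1,2,3],[0,1,3],[0,1,2,3],[0,3],[1,2,3],[0,1,2,3],[0,1,2,3],[0,1,3],[0,1,2,3],[0,1,2,3],[0,1,2,3],[0,1,2,3],[0,1,2,3],[0,1,2,3],[0,1,2,3],[0,1,3],[0,1,2,3],[1,2,3],[0,2,3],[0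,1,2,3],[0,1,2,3],[0,1,2,3],[0,1,2,3],[1,3],[0,1,2],[0,1,2,3],[0,1,2,3],[0,2,3],[0,2,3],[0,1,2,3],[0,1,2,3],[0,1,2,3],[0,1,2,3],[0,1,2,3],[1,2,3],[1,2,3],[1,2,3],[0,1,2,3],[0,1,2,3],[0,1,2,3],[0,1,2,3],[0,1,2,3],[0,1,2,3],[0,1,2,3],[0,1,2,3],[0,1,2,3],[0,1,2,3],[0,1,2,3],[0,1,2,3],[0,1,2,3],[0,1,2,3],[0,1,2,3],[0,1,2,3],[0,1,3],[0,1,2,3],[0,1,2,3],[0,1,2,3],[0,1,2,3],[0,1,3],[0,1,2,3],[0,1,3],[0,2,3],[0,1,2,3],[1,2,3],[0,1,2,3],[0,1,2,3],[0,2,3],[1,2,3],[0,1,2,3],[0,1,2,3],[0,1,2,3],[0,1,2,3],[0,1,2,3],[0,1,2,3],[0,1,3],[0,1,2,3],[0,1,2,3],[0,1,2,3],[0,2,3],[0,1,2,3],[0,1,2,3],[0,1,2,3],[0,1,2,3],[0,1,2,3],[0,1,2,3],[0,1,2],[0,1,2],[0,1,2,3],[0,1,2,3],[0,1,2,3],[0,1,2,3],[0,2,3],[0,1,2,3],[0,2,3],[0,1,2,3],[0,1,2,3],[0,1,2,3],[0,1,2,3],[1,2,3],[0,1,3],[0,1,2,3],[0,1,2,3],[0,1,2,3],[0,1,2,3],[0,1,2,3],[0,1,2,3],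[0,1,2,3],[0,1,2,3],[0,1,2,3],[0,1,2,3],[0,1,2,3],[0,1,2,3],[1,3],[0,1,2,3],[0,1,2,3],[0,1,3],[0,1,2,3],[1,2,3],[0,1,2,3],[0,1,2,3],[0,1,2,3],[0,1,2,3],[0,1,2],[0,1,2,3],[0,2,3],[1,2,3],[0,1,2,3],[0,1,2,3],[0,2,3],[1,2],[0,1,2,3],[0,2,3],[0,1],[0,1,2,3],[0,2,3],[0,1,2,3],[0,1,2,3],[0,2,3],[0,1,2],[0,1,2,3],[0,1,2,3],[0,2],[0,1,2,3],[0,2],[0,2,3],[0,1,2,3],[0,1,2],[0,1,2,3],[0,2,3],[0,1,2],[0,1,2,3],[0,1,2,3],[0,1,2,3],[0,1,2,3],[0,2,3],[0,2,3],[0,1,2,3],[0,1,2,3],[0,1,2,3],[0,1,2,3],[0,1,2,3],[1,2,3],[1,2,3],[0,1,2,3],[0,1,2,3],[0,1,2,3],[0,1,3],[0,2,3],[0,1,2,3],[0,1,2,3],[0,1,2,3],[0,1,2,3],[0,1,2,3],[0,1,2,3],[0,1,2,3],[0,1,2,3],[0,1,3],[3],[0,1,3],[0,1,2,3],[0,1,2,3],[0,2,3],[1,2,3]],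
    [[0,1,2,3],[0,1,2],[0,1,2,3],[1,2,3],[0,3],[1,2,3],[0,1,2,3],[0,1,2,3],[0,2,3],[0,1,2,3],[0,1],[0,1,2,3],[1,2,3],[0,1,2,3],[0,1,2,3],[0,1,2,3],[0,1,2,3],[0,1,2],[0,1,2,3],[0,2],[0,1,3],[0,1,2,3],[0,1,3],[1,2,3],[0,1,2,3],[0,1,2,3],[0,1,2],[0,1,2,3],[0,1,2,3],[0,1,2,3],[0,2,3],[0,2,3],[0,1,2,3],[0,1,2,3],[0,1,2,3],[3],[0,1,2,3],[0,1,2,3],[0,1,2],[1,2,3],[0,1,2,3],[0,1],[0,1,2,3],[0,1,2,3],[0,1,2,3],[0,1,2,3],[0,1,2,3],[0,2,3],[0,1,2,3],[0,1,2,3],[0,1,2,3],[0,1,2,3],[0,1,2,3],[0,1,2,3],[0,1,2,3],[0,1,3],[0,1,2,3],[0,1,2,3],[0,1,2,3],[0,1,2,3],[0,2,3],[0,1,2,3],[0,1,3],[0,1,2,3],[0,2,3],[1,2,3],[0,1,3],[0,1,2],[0,3],[1,3],[0,1,2,3],[0,1,2,3],[0,1,3],[0,1,2,3],[0,2,3],[0,1,2,3],[0,1,3],[0,2,3],[1,2,3],[0,2,3],[0,1,2,3],[0,1,3],[0,1,3],[0,1,2,3],[1,3],[0,1,2],[0,1,2,3],[0,1,2,3],[0,3],[0,3],[0,1,2,3],[0,1],[1,2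],[0,1,2,3],[0,1,2,3],[1,2,3],[1,2,3],[1,2,3],[0,1,2,3],[0,1,3],[2,3],[0,1,2,3],[0,1,2],[0,1,2,3],[0,1,2,3],[0,1,2,3],[0,1,2,3],[0,1,2,3],[0,1,2,3],[0,1,2,3],[0,1,2,3],[0,1,2,3],[0,1,3],[0,1,2,3],[0,1,3],[0,1,2,3],[0,1,2],[0,1,2,3],[1,3],[0,1,3],[1,3],[0,3],[0,3],[1,2,3],[0,1,2,3],[0,1,2,3],[0,1,2],[0,1,2,3],[0,1,2,3],[0,1,2,3],[0,1,3],[0,1,3],[0,2,3],[0,1,2,3],[0,2,3],[0,1,2,3],[0,1,2,3],[0,2,3],[0,1,2,3],[0,1,2,3],[0,1,2],[0,1,2],[0,1,2,3],[0,1,2,3],[0,1,2,3],[0,1,2,3],[0,2,3],[0,1,2,3],[0,2,3],[0,2,3],[0,2,3],[0,1,2,3],[3],[1,3],[0,1,2,3],[0,1,2,3],[0,1,2,3],[0,1,2,3],[0,1,2,3],[0,1,2,3],[0,1,2,3],[0,1,2,3],[0,1,2,3],[0,1,2,3],[0,1,3],[1,3],[0,1,3],[0,1,2,3],[0,1,3],[0,2,3],[1,2,3],[0,1,2,3],[0,1,2,3],[0,1,2,3],[0,1,2,3],[0,1,2],[0,1,2,3],[0,2,3],[1,2,3],[0,2,3],[0,1,2,3],[2],[1,2],[0,1,2,3],[0,2,3],[1],[0,1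,2,3],[0,2,3],[0,1,3],[0,1,2,3],[0,2,3],[0,1,2],[0,2,3],[1,2,3],[0,2],[0,1,2],[0,2],[0,2,3],[0,1,2,3],[0,1,2],[0,1,2],[0,2,3],[0,1,2],[0,1,2,3],[1,2,3],[0,1,2,3],[1,2],[0,2],[0,2,3],[0,1,2,3],[0,1,2,3],[0,1,2,3],[0,1,2,3],[0,1,2,3],[1,2,3],[1,2,3],[1,2,3],[1,2,3],[0,2,3],[1],[0,3],[0,1,2,3],[1,2,3],[0,1,2,3],[0,1,2,3],[0,1,2,3],[0,1,2,3],[0,1,2,3],[0,2],[0,3],[3],[0,1,3],[1,2,3],[0,2,3],[0,2,3],[2,3],[3],[0,1,2,3],[0,1,2,3],[0,1],[1,2,3],[0,1,3],[1,2,3],[0,2],[0,1,2,3],[0,1,2,3],[1,2,3],[0,1,2,3],[0,1,2],[0,1,2,3],[2,3],[0,1,2,3],[0,1,2,3],[1,2,3],[2,3],[0,1,2,3],[0,2,3],[0,2,3],[0,1,2,3],[0,1,2,3],[0,1,3],[0,1,2,3],[0,2,3],[0,1,2,3],[0,2,3],[0,2,3],[0,3],[1,3],[0,1,2,3],[1,2,3],[0,2],[1,3],[0,1,2,3],[0,1,2],[0,1,2,3],[0,1,2,3],[0,1,2,3],[0,1,3],[0,1,2,3],[3],[0,1,2],[0,2,3],[0,1,2,3],[0,1,2,3],[1,2,3],[0,1,2,3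],[0,1,2,3],[0,1,3],[0,1,2,3],[1,2,3],[0,1,2],[0,1,2,3],[0,2,3],[1,2],[0,1,3],[0,1,2,3],[3],[1,2,3],[3],[0,1,2,3],[0,3],[1,2,3],[0,2],[0,2,3],[1,3],[0,1,2,3],[0,2,3],[0,1,2,3],[0,1,2,3],[0,1,2,3],[1,2,3],[2,3],[2,3],[0,1,2,3],[1,2,3],[1,3],[0,1,2],[0,1,2,3],[0,3],[2,3],[0,2,3],[0,1,3],[0,2],[0,3],[0,1,2,3],[2,3],[2,3],[1,2,3],[0,2,3],[0,1,2],[0,1,3],[0,2,3],[0,2,3],[0,3],[1,2,3],[1,2,3],[0,1,2,3],[0,1,2,3],[0,1,2],[0,1,2,3],[0,1,2,3],[0,2,3],[0,1,2,3],[0,1,2],[2,3],[0,2,3],[0,1,3],[1,2,3],[0,1,3],[0,2,3],[0,2,3],[0,1,2,3],[0,1,2,3],[0,2,3],[2,3],[1,2,3],[0,1,2,3],[0,1,3],[0,1,2,3],[1,2,3],[0,1,3],[0,1,3],[0,1,2,3],[0,1,2],[0,1,2,3],[0,2,3],[1,2,3],[0,2,3],[0,1,2,3],[0,1,2,3],[0,2,3],[0,1,2,3],[0,1],[0,1,2],[0,1,2,3],[0,1,3],[0,2,3],[2,3],[0,1,2,3],[0,1,3],[0,1,2,3],[0,2,3],[0,1,3],[1,2],[0,1,3],[0,1,2,3],[0,1,2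,3],[0,1,2,3],[0,2,3],[0,1,2,3],[0,1,3],[0,1,3],[0,1,2],[0,2,3],[0,1,2],[0,1,2],[0,1,2,3],[1,3],[0,1,2,3],[0],[0,1,3],[0,2,3],[1,2,3],[0,2,3],[1,2,3],[1,2,3],[0,1,2,3],[0,1,2],[0,1,2,3],[0],[1,2,3],[0,1,2,3],[0,1,2,3],[0,2],[1,2],[0,1,2,3],[3],[0,1],[1,2],[0,3],[0,1,2,3],[2],[0,2,3],[0,2],[0,1,2],[0,1,3],[0,2],[0,1,3],[],[0,2,3],[0,2,3],[0,1,2],[0,1,2,3],[0,2,3],[],[0,1,2,3],[1,2],[0,1,2,3],[0,1,2,3],[0,2,3],[0,2,3],[0,1,2,3],[1,2,3],[0,1,2,3],[0,1,2,3],[0,1,2,3],[1,2,3],[1,2,3],[0,3],[0,2,3],[0,2,3],[0,1,3],[2],[1,2,3],[0,1,2,3],[1,2,3],[1,2,3],[0,2,3],[1,2],[0,1,2,3],[0,1,2,3],[0,1,3],[3],[0,1],[0,1,3],[0,1,2,3],[0,2,3],[1,2,3],[2,3],[0,2,3],[0,1,2,3],[0,1,3],[2,3],[0,1],[0,1,3],[0,2,3],[0,1,3],[0,3],[2],[0,1,2],[0,1,2],[2],[1,2],[0,2,3],[0,1,2,3],[2,3],[1,2,3],[0,1,2,3],[0,2,3],[0,2,3],[0,3],[0,2,3],[0,1,3],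[0,1,2],[0,1,2],[0,1,2],[],[0,2,3],[0,1,2,3],[0,1,2],[1,2],[0,1,3],[0,1,2],[0,1,2],[0,1],[0,1,2],[0,1,2],[0,1,2,3],[0,2,3],[2,3],[0,3],[0,2,3],[0,1,2,3],[0,1,2,3],[0,1,2,3],[0,1,2,3],[0,1,3],[0,3],[1,2,3],[0,1,2,3],[0,1,2],[0,1,2,3],[2,3],[3],[0,1,3],[0,1,2,3],[0,1,3],[2,3],[0,1,2,3],[0,3],[1,3],[1,2],[0,1,3],[0],[0,2,3],[0,2,3],[0,2,3],[0,1,2,3],[0,1,2,3],[0,1,2,3],[0,1,3],[0,3],[2],[1,2,3],[0,2,3],[2,3],[1,2,3],[0,1,2,3],[0,1,2],[1,3],[1,2],[2,3],[0,2,3],[0,2,3],[0,2,3],[0,1,2,3],[0,1,3],[0,1,2,3],[0],[0,1,2,3],[1],[1,2,3],[3],[0,1,2,3],[0,1,2],[0,1],[0,1,3],[2],[2,3],[0,1,2,3],[0,3],[1,3],[0,1,2,3],[0,1,2,3],[0,1,2,3],[0,1,2,3],[1,2],[0,1],[0,1,2,3],[0,1,2],[0,1,2,3],[0,2,3],[3],[0,3],[0,1,3],[0,2,3],[1,2,3],[3],[1,2,3],[0,1,2],[0,2,3],[2,3],[0,1,2],[0,1,2],[0,1,3],[0,2,3],[0,1,2,3],[1,2,3],[0,1,2,3],[0,2,3]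,[0,1,3],[0,2,3],[2,3],[0,2,3],[0,1,2,3],[1,2],[1],[1,2,3],[0,1,2],[0,1,2],[0,1,2],[1,2,3],[0,2,3],[0,1,2,3],[0,1,2,3],[3],[0,2,3],[3],[0,1,3],[0,1],[0,1,3],[0,1,2],[0,1,2,3],[0,1,3],[1,3],[0,1,3],[0,1,2,3],[0,1,2,3],[0,1,2,3],[0,1,2,3],[1],[2,3],[2,3],[0,1,3],[1,2,3],[3],[0,1,2],[0,1,2,3],[1,2,3],[0,1,2],[0,1,2],[0,1,2],[0,2],[2,3],[0,1,2],[0,1,2,3],[2,3],[1,2],[0,1,2,3],[0,3],[0,1],[0,3],[2,3],[],[0,1,2,3],[0,2,3],[0,2],[],[1,3],[2],[0,1,2],[2],[3],[0,1],[1,2],[0,1,2],[2,3],[2],[0,1,2],[0,1,2,3],[0,1,2],[0,2,3],[0,1,2,3],[0,1,2,3],[0,2],[0,1,2,3],[0,1,2,3],[1,2,3],[1,2,3],[1,2],[0,1,2,3],[0,1,2,3],[0,1,3],[0,3],[0,1,3],[0,1,2,3],[1,2],[0,1],[0,1,2],[0,1,2,3],[0,1,2],[1,3],[3],[0,1,3],[0,1,2,3],[1,2,3],[0,2,3],[1,2,3],[2,3],[0,1,3],[0,1,2,3],[0,1,3],[0,1,3],[1,3],[1,2],[2,3],[2,3],[2,3],[1,2],[1],[0,3],[0,1,2,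3],[1,2,3],[0],[0,3],[2,3],[0],[2,3],[3],[0,1],[1,2],[0,2,3],[1,3],[0,1,3],[0,3],[1,2],[0,1,2],[0,2],[0,2,3],[0,2,3],[0,1,2],[1],[0,1,2],[0,1],[2,3],[0,1,2,3],[0,1],[0,1,3],[3],[1,3],[0,1,3],[0],[0,2,3],[1,2,3],[0,1,2,3],[0,1],[2,3],[0,1,3],[0,3],[0,2,3],[0,1,2,3],[0,1],[0],[0,2],[0,3],[0,1,2,3],[0,1,2,3],[0,1,3],[1,3],[0],[1,2,3],[0,1,3],[3],[0,1,2],[0,1,3],[],[1,2],[0,1,3],[0,1,2,3],[1,2,3],[0,1,3],[0,1,2],[0,2,3],[1,2,3],[0,2],[1,3],[0,1,2,3],[0,2],[0,1,3],[0,2,3],[2],[0,1],[1,2],[0,2,3],[0,1,2,3],[1,2,3],[1,2,3],[1,3],[0,1,2,3],[0,1,2,3],[0,2,3],[0,2],[0,2],[1,2],[0,1,2],[0,1,2,3],[0,2],[3],[0,1,2],[0,1,2,3],[2],[0,3],[1,2,3],[0,1,2,3],[0,3],[0,2,3],[0,3],[0,2,3],[0,1,3],[0,2],[0,2,3],[1,2,3],[0,1,2,3],[0,1,3],[2,3],[1,2,3],[0,1,2],[0,1,2,3],[1,3],[1],[0,3],[1,3],[0,1,2],[0,1,2,3],[0,1],[],[0,1,2],[0,1,2],[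0,3],[0,1],[0,1,2,3],[2,3],[0,1,2],[0,1],[1,2,3],[0,2],[1,2,3],[0,1,2,3],[0,2],[0,1,3],[0,1,2],[0,1,2,3],[0,1,2,3],[0,2],[1,2,3],[],[0,1,2,3],[3],[0,1,3],[0,1,3],[0,1,2,3],[0,2,3],[2],[0,2],[1,2],[0,2,3],[1],[0,1,3],[0,1,2,3],[1,2,3],[0,1],[0,1,2],[1,2],[0,1,2],[0,2],[1],[0,1,2,3],[0,2],[2,3],[],[2,3],[0,2,3],[],[0,1,2],[0],[1,2],[0,1,3],[0,2,3],[0,1,2],[0,1,2,3],[1,2,3],[0],[2],[0,2],[0,2,3],[0,1,2,3],[0,1],[2],[0,3],[0,1,2],[0,2,3],[0,2],[0,1],[1,3],[0,2],[0,2],[0,1,2,3],[0,2,3],[0,1,2,3],[0,1,2],[0,1,2,3],[1,3],[1,3],[0,2],[1,2],[0,2,3],[1,2],[2],[0,2,3],[3],[0,1],[1,2,3],[3],[0,1],[0,1,2],[0,2,3],[2,3]],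
    [[0,1,3],[1,2],[0,1,2,3],[1,2,3],[3],[3],[0,2],[3],[0],[0],[0,2,3],[1],[3],[0,2,3],[0,3],[0,1,2,3],[0],[0,3],[0,2,3],[3],[1],[0,1,3],[1,2,3],[1,2],[0,1],[0,3],[0,1,2,3],[2,3],[0,2,3],[0,1,2,3],[0,2,3],[0,1,3],[3],[3],[1],[],[],[0,3],[0,2,3],[2,3],[0,1,3],[3],[2,3],[1,3],[0,1,2,3],[0,1,2,3],[3],[0,1,2,3],[2,3],[0,2,3],[0,1,3],[0,1,2,3],[0,1],[0,1,2],[0,1,2,3],[3],[0,1,2],[0],[0,2,3],[0,2,3],[3],[1,3],[1,3],[0,2,3],[0,2,3],[0,1,2,3],[1],[0,3],[0,3],[1,2,3],[0,3],[0,1,2],[1,3],[0,1],[2],[1,2,3],[3],[0,3],[1,2],[1],[1,3],[1,2],[2,3],[1,2],[0,2],[0,3],[2,3],[0,1,2],[0,1],[1,3],[0,1,2],[2,3],[1,2,3],[0,1],[0,1,2,3],[0,1,2],[0,1,2,3],[0,3],[0,2],[1,3],[0,2],[0],[0,1,2],[1,3],[0,3],[1,3],[0],[0],[2,3],[0,1,2,3],[0,1,2],[0,1,2],[1,2,3],[0,2,3],[0,3],[0,1,3],[0,1,3],[3],[1,2],[0],[0,2,3],[0,1,3],[1,2],[0,1,2],[1,2],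[1,2,3],[0,1,2],[1,2,3],[0],[3],[1,3],[0,2,3],[0,2],[0,3],[2,3],[3],[1,3],[0,1,2,3],[0,2,3],[1,2,3],[0,3],[0,1,3],[0,1,2],[0,1,3],[1,3],[2,3],[1],[1],[0,1,3],[1,2],[0],[0,2,3],[1,3],[3],[0,1,2,3],[2,3],[1,3],[0,2,3],[0,3],[2],[2],[1],[0],[1],[0,2,3],[0,1,3],[1,2],[0],[0,2],[0,2,3],[1,2,3],[0,2],[0,1],[],[2],[0,1,2],[1,2],[0,2],[0],[1,2],[0,1,2,3],[1,2,3],[0,1,2],[1,2],[0],[0,3],[2,3],[0,2],[0,2,3],[0,1,3],[0,2,3],[2,3],[1,2,3],[2,3],[1,3],[0,2,3],[1],[3],[0,1,2,3],[1,2],[0,2,3],[0,1,2,3],[0,1,2,3],[0,1,2,3],[0,3],[0],[0,3],[],[0,1,3],[1,2,3],[2],[0,2,3],[],[3],[0,1,3],[0,1],[0,1],[1,2,3],[1,3],[1,2,3],[0],[0,2],[0,1,3],[2,3],[1,3],[2],[0,1,3],[2],[0,2],[1,2,3],[3],[0,2],[2,3],[0,2,3],[0,1,3],[0,1,2],[0,1],[0,1,2,3],[2,3],[2,3],[0],[0],[1],[1,3],[],[1,3],[3],[0,1,2],[0,1,2,3],[0,2,3],[0,1,3],[0,1,3],[0,3],[],[1,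2],[0,2,3],[0,1,2,3],[1,2,3],[1,2,3],[0,2,3],[3],[2,3],[1,2,3],[0],[1,2,3],[0,2],[0,2],[1,2,3],[2,3],[1,2,3],[1,3],[1,3],[0,1],[0,1,2,3],[0],[3],[2],[3],[0],[0,3],[0,1,2,3],[2,3],[],[2],[0,1,2],[0,1,3],[2,3],[0],[1,3],[1,2,3],[0,2,3],[1,2,3],[0,1,2],[0,1,2,3],[0,3],[0,2],[0,1,2,3],[0,1],[2],[0,3],[0,1],[1,3],[1,3],[0,3],[3],[1,2],[0],[1,2,3],[0,1,3],[0,3],[0,2,3],[2,3],[1,3],[3],[0,2,3],[2,3],[1,2],[1,2,3],[0,2,3],[2,3],[1],[0,1],[0,2],[0,1],[2,3],[2,3],[2,3],[0,1,3],[1,3],[0,2,3],[0,1,3],[2],[0,1],[0,1,2],[0,1],[0,2,3],[0,2,3],[0,1,2,3],[0,1,3],[1,2],[2],[1,2,3],[1],[2,3],[],[0,1,3],[0,2],[1,2,3],[],[1,2],[0,3],[0,1,2],[2,3],[0],[2,3],[2],[3],[2],[1,2],[0,1,3],[],[0,1],[1],[3],[0,2,3],[],[0,2,3],[2],[0,2],[0,1,3],[0,2],[0,3],[],[2,3],[2],[0,1,2],[0,2,3],[2,3],[],[1,2],[1],[0,1,3],[0,2],[0,2],[0,3],[1,2,3],[2],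[1,2,3],[0,2,3],[1,2,3],[1,2,3],[0,3],[0,2,3],[0,3],[0,1,3],[2],[2,3],[0,1,2],[1,3],[1,2],[0,2,3],[1],[0,1,2],[0],[3],[],[1,2],[2],[],[0],[0,1],[0,1,3],[],[2],[0,1],[],[0,1,2,3],[0,1,2],[1],[0,1],[0,2],[1,2],[0,1],[0,1,2],[1,2],[1,2],[2,3],[3],[0,3],[2,3],[0,1,2,3],[0,1],[1,3],[1,3],[0],[1,2,3],[2,3],[1,2],[0,1,2],[2,3],[3],[0,1,3],[0,1,2],[0,1],[2],[0,1,2],[0,3],[3],[0,1,3],[0],[2],[0,2,3],[2,3],[2,3],[0,1,2,3],[0,1,3],[0,3],[2],[1,2],[2,3],[2,3],[1,2,3],[0,2,3],[0,1,2],[1,3],[2],[3],[0,1],[],[2,3],[],[2,3],[3],[0,1,2,3],[0,2],[],[0,1,3],[2],[2,3],[2],[0,3],[],[0,1,2],[1,2,3],[1,3],[0,1,3],[1,2],[],[0,2,3],[1,2],[0,1,2],[2,3],[],[0],[3],[2,3],[2,3],[],[1,3],[0,2],[0,3],[3],[2],[0,1,2],[0,1,3],[0,2,3],[1,2,3],[],[1,2,3],[0,2,3],[0,1],[2],[0,3],[0,1,3],[1],[1,2,3],[0,2,3],[0],[0,2,3],[],[0,1,3],[0,1,3],[0,1,2],[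1,2,3],[1,3],[3],[1,3],[0,1,3],[1,3],[1,3],[0,1,3],[],[2,3],[2],[0,1],[1,3],[3],[0,1],[2,3],[2,3],[0],[1,2],[0,2],[0,2],[3],[0,1],[2,3],[],[1,2],[0,2,3],[],[0],[2,3],[],[],[1],[],[],[2],[],[0,1],[1,2],[0,2],[],[2],[0,1,2,3],[0,1],[0,3],[0,1],[2,3],[2,3],[3],[1,3],[1,3],[2],[0,1],[0,1,2],[3],[0,3],[0,1,3],[1,2],[0,1],[0,1,2],[1,2,3],[0,1],[3],[],[1,3],[1,2,3],[1],[0,2,3],[1,2,3],[2,3],[1,3],[0,1,2,3],[1,3],[0,1],[],[1,2],[2],[2,3],[2,3],[1,2],[1],[0,3],[],[3],[],[0],[2],[],[2,3],[3],[0],[0,2,3],[3],[3],[3],[1],[0,2],[0,2,3],[0,1,2],[1],[1,2],[0,1],[3],[0,1,2,3],[0,1],[0,1,3],[3],[1,3],[],[0,2,3],[],[0,1,2],[0],[],[1],[0],[0,2,3],[0,1],[],[],[0,3],[0,2,3],[0,1,3],[0,1],[3],[],[1,2,3],[],[3],[0,1],[],[0,1,3],[0,1,2],[1,3],[0,1,3],[0,1,2],[0,3],[1,2,3],[],[1,2,3],[2],[0],[0,2,3],[2],[1],[1,2],[0,2,3],[2],[1,2,3],[3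],[1],[0,1,2],[1,3],[0,2,3],[0,2],[1,2],[0,2],[1],[2],[3],[0,2],[0,1,3],[2],[0],[1,2,3],[3],[2,3],[0],[0,3],[0,1,3],[],[1,2],[1,2,3],[2,3],[1],[0,2,3],[1],[1],[0,3],[1,3],[0,1,2],[0,2,3],[1],[],[1,2],[1,2],[3],[0],[0,1,2,3],[2],[0,1,2],[0],[2,3],[2],[1,2],[0,1,2],[0],[0,1],[1,2],[2,3],[2,3],[0],[1,2,3],[],[3],[0,1,3],[1,3],[0,2,3],[2],[0,2],[1,2],[1],[],[1,2],[0,1,2],[0],[0,2],[],[0,2,3],[0,2],[],[3],[0,2],[],[0,1,2],[0],[2],[0,1],[2,3],[0,2],[2,3],[1,3],[],[2],[2],[2,3],[0,2],[0],[2],[0,3],[0,1],[2,3],[],[0],[0],[1,2],[1,3],[0,2],[1,3],[3],[1,3],[1,2],[0,2,3],[1],[2],[3],[0,1],[1,3],[3],[0,1],[3],[2],[3],[],[2,3],[1],[1,2],[1],[1,2,3],[3],[2,3],[0],[0,1,2],[],[3],[1],[1],[3],[2],[2],[2],[0,1],[2,3],[3],[2],[1],[],[0,2,3],[0],[1],[0,1,3],[2,3],[1],[0,1,2],[],[2,3],[1],[1,2],[0,1,3],[0,1,3],[0],[],[0,2,3],[1,3],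[2],[0],[3],[0],[0,2],[1,2,3],[0],[1,2],[],[],[2],[0,3],[0,2,3],[],[0,2,3],[],[1],[3],[3],[0,1],[0,1],[0],[0,1,2],[2],[],[3],[0,3],[0],[2],[0],[],[0,1,3],[2,3],[0,1],[0],[0,3],[1],[0,1],[2],[0,3],[0,2],[1],[0],[],[3],[2,3],[0,1,2],[2],[3],[3],[1],[0,3],[1],[2],[0,1,3],[],[0,2,3],[0,3],[2],[1],[1],[],[],[3],[3],[0,1,3],[],[3],[2,3],[1,3],[0,2,3],[1,2,3],[1,2,3],[1],[0,1,2],[0,2,3],[0,2,3],[0,1,2,3],[],[0,2,3],[0,1],[1,3],[0,1],[0,2],[0,3],[3],[],[0,1,2],[0,1,3],[2,3],[0,2],[3],[],[1,2,3],[0,2],[0],[1,3],[3],[2],[1],[3],[0,1],[0,2],[0,2],[0,2,3],[],[],[0],[1,2],[0,2,3],[1],[2],[2],[3],[2],[1,2,3],[2],[0,3],[2],[2],[2,3],[],[],[2,3],[1],[0],[2,3],[1,3],[0,2,3],[],[0,1,3],[0,3],[],[],[],[2],[2],[3],[3],[3],[],[3],[3],[0,1,3],[],[0],[3],[1],[3],[0,2],[0,1,2,3],[1,2,3],[],[2],[0,2],[1,2],[],[0,1],[],[],[],[0],[3],[1]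,[2],[],[1,3],[0,1],[0,1,3],[3],[0],[],[1,2],[2,3],[0,2,3],[0],[3],[0,1,2,3],[],[1,2,3],[2,3],[0],[0,1,2,3],[0],[2],[0,3],[1,3],[],[1],[3],[1],[0,3],[],[3],[2,3],[0,3],[],[0,1,3],[2,3],[2,3],[],[0],[],[2,3],[3],[0],[0,2],[0,1,3],[1],[3],[1,2],[],[3],[0,2],[1],[],[2,3],[2],[],[1,3],[3],[1,3],[0],[2],[2,3],[3],[0,3],[0,2],[],[0,1],[1,2,3],[0,1],[],[0],[0,2,3],[0,2],[0,3],[],[0,1,3],[1,2],[2],[],[0,2],[0,1,3],[0],[0,2,3],[1,2],[0,1,2],[1,3],[0],[0,3],[2],[0,2,3],[3],[3],[0,3],[2,3],[0,1,3],[0,1,2,3],[1],[0,2,3],[],[1],[],[0,3],[],[0,1],[0],[0,1],[],[0,2,3],[],[2,3],[0,1,2],[0,1,2,3],[3],[0,2],[0,1,2],[],[],[1,3],[0,2,3],[],[3],[2],[],[0,1],[],[1,2,3],[3],[2],[3],[0],[3],[0,2],[1],[],[],[0,2],[],[1],[],[3],[3],[],[],[2],[1,2],[],[2],[0,1],[0,3],[2],[0,3],[0],[],[2],[1,2],[0],[],[3],[0,2,3],[1,2],[0,1],[],[0],[0,1,2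],[2],[0,1,2],[2,3],[2,3],[3],[3],[0],[0,1,2,3],[0,2],[0],[0,3],[],[0],[0,1,2,3],[2,3],[],[],[1],[3],[1,2],[3],[],[],[0,1,3],[0],[0,3],[0,2,3],[1],[1,3],[1],[0,1,3],[0],[],[3],[3],[1],[0,1],[],[1],[],[3],[2,3],[3],[0,1,2],[],[3],[],[0,3],[],[],[],[2],[],[0,1],[],[],[0,2],[3],[0,1,3],[2],[0,1],[0,1,2],[],[1],[1,2,3],[0,1,2],[],[3],[2,3],[1,2],[3],[0,1],[0,1,2],[1],[2],[0,3],[],[0,3],[2],[1,2,3],[2],[1],[2],[0,1,2],[0],[1,3],[2,3],[0,1],[],[],[3],[0,1],[],[0,2],[2,3],[1],[],[0,3],[0,3],[],[1],[0,1,3],[],[3],[],[0],[2,3],[0],[1,2],[2,3],[],[0,1],[1],[2],[],[0,1,3],[],[],[0],[0],[3],[2,3],[0,1,2],[0],[],[1,3],[2],[0,1],[],[0,1],[1],[2,3],[],[0],[2],[1,2],[],[3],[0,2],[],[0,3],[1,2,3],[1,2],[],[0],[3],[1],[1,2],[0],[1],[0],[0,1,2],[],[1],[2],[2],[3],[1],[3],[],[1],[3],[2],[2,3],[2],[2],[2],[1],[],[1,2,3],[1,2,3],[],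[0],[],[],[0,1],[1],[0,2,3],[1],[1,3],[0],[2],[2],[0,2],[0,2],[0,2],[],[],[0,1],[2],[1,2,3],[3],[3],[1],[2],[],[0,1],[],[],[0,3],[0,1,3],[1],[],[1],[0,1],[1],[0],[0,1,3],[],[0,1],[0,3],[],[0],[1],[1],[],[2],[3],[1],[0],[0],[2],[],[2],[0],[1],[1,3],[1,3],[0,1,2,3],[2,3],[3],[0],[2],[],[0,2],[0,1,2],[1,2],[2],[0,3],[0],[0,3],[3],[2],[3],[],[],[1,2,3],[0,1,3],[1],[],[1,3],[0],[0,2,3],[1,3],[],[0,3],[1,3],[0,1],[],[],[0,1,2],[2],[],[],[1,2,3],[2],[1,2],[0],[3],[2],[1],[0,2,3],[2],[],[],[3],[3],[2],[3],[],[1,3],[0,3],[0,1,3],[],[0],[],[],[1],[3],[2],[0,1],[2],[],[1,3],[],[],[],[3],[0,2,3],[0,1,2],[0],[2],[0,3],[0],[2],[3],[2],[0],[1,2],[1],[0,3],[2],[],[0],[],[],[0,2],[],[1,3],[],[1,2],[],[1,3],[3],[0,2],[1],[],[],[],[],[0],[1],[3],[1],[1,2],[2,3],[3],[2,3],[1,3],[0],[],[],[],[2],[],[3],[0],[],[0,1,3],[1],[0,1,3],[1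,3],[3],[],[2],[2],[],[],[2],[],[3],[],[],[],[0,1],[1],[1],[],[1],[1],[0],[],[1],[1,3],[],[2],[0],[],[2,3],[0],[0,1,2,3],[2,3],[2],[3],[3],[1],[0],[1,3],[2],[],[2],[],[0],[],[],[3],[1],[0],[0],[],[],[1],[0],[],[1],[3],[0,2],[0],[0,1],[0,2,3],[3],[],[0],[3],[],[3],[0],[0,1,2],[0,2],[1,2,3],[],[],[2,3],[3],[3],[0],[],[],[0],[0,3],[1,3],[1],[0,1,2],[0,1],[],[3],[],[1],[3],[],[0],[],[0],[],[0],[],[],[1,3],[3],[0,3],[0],[3],[0],[],[2],[0],[0],[0],[1,2],[0],[],[0],[0],[],[0],[2],[0,2],[2,3],[],[],[],[0,2],[],[1,3],[2],[3],[],[1,2],[2],[0],[],[0],[0],[],[],[0],[3],[1],[2,3],[0],[],[],[2,3],[2,3],[2],[1],[2],[1,2],[],[],[3],[3],[2],[],[],[3],[0],[],[2],[2],[],[],[],[2],[],[],[],[3],[],[0,1],[1],[3],[0],[],[],[],[],[2],[0,1],[3],[2],[3],[0],[],[],[],[],[0],[1,3],[0],[2,3],[],[3],[1],[],[1,3],[0,3],[1,3],[],[0,1,3],[3],[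2],[2],[3],[3],[],[3],[2],[],[0],[2],[0,2,3],[],[2,3],[1,3],[],[1,2],[2,3],[2,3],[],[0,2],[],[],[0],[],[],[1,3],[2],[2],[1,3],[0],[],[0,1,2],[3],[0],[],[0],[3],[2],[1,3],[2],[3],[],[],[0,3],[],[],[],[],[2],[1],[1],[0],[],[2,3],[2],[3],[0],[0],[0,1,2],[],[2],[1],[],[2],[1],[],[1,3],[0,3],[1],[],[],[],[0],[0,1,3],[0],[0,1,3],[],[0,3],[],[0,2],[],[],[1,3],[3],[0,3],[0],[],[2,3],[3],[],[2],[],[],[],[],[],[1,3],[],[3],[],[],[1,3],[],[],[0,3],[0],[1,2,3],[1,3],[],[0],[0,2],[0,3],[],[],[0],[],[1,2],[2],[1],[0],[],[],[],[],[],[1],[],[3],[0],[1],[0,3],[0,1],[0,2],[0],[2],[0],[],[],[0,3],[],[2],[],[0],[1,2,3],[2],[0],[0,1],[],[3],[0],[],[3],[],[1],[],[],[],[],[],[0,1,3],[],[],[],[3],[],[0,2],[2],[],[2],[3],[],[0,2],[3],[],[],[1],[],[2],[2],[1,2],[0,3],[],[2],[],[0,2,3],[1,3],[2],[],[],[0],[1],[1],[2,3],[],[],[2,3],[0,2,3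],[3],[],[],[2],[1,2],[0,3],[],[3],[0],[0,1],[],[],[0],[0,1],[1],[0],[1,3],[1],[],[],[],[],[2],[],[],[2],[],[],[],[],[0,3],[],[1,3],[2],[0],[],[1],[2],[2],[],[3],[1],[],[],[2],[],[1],[0],[],[],[1,3],[],[],[3],[0,3],[0,1],[1],[],[],[2],[0],[],[],[3],[1,2],[],[1,3],[3],[],[],[0],[1],[2],[2],[2,3],[2],[1],[],[0],[],[3],[],[],[1],[1,2],[0,2],[],[3],[],[2],[0,2],[2,3],[],[1],[],[],[2],[3],[],[],[],[0],[0],[1],[2,3],[0],[],[],[],[1],[0,2],[0,1],[],[],[],[],[],[0],[2,3],[2],[],[0],[],[0],[],[1,2],[1,3],[1],[],[],[],[],[],[0],[2],[2],[],[1],[],[2,3],[],[1,2,3],[],[2,3],[1],[],[],[3],[2],[0,1,2],[1],[],[],[1],[3],[0],[],[1],[],[],[2],[0],[2],[],[0,2],[0,3],[1],[0,2],[],[],[3],[1],[3],[],[],[],[],[0],[],[0],[2,3],[2],[],[],[],[0,2],[],[0],[],[],[2],[],[2],[],[3],[0],[0,2],[],[],[],[1,2],[3],[0,2],[0],[3],[],[],[],[],[],[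3],[],[0],[],[3],[],[],[],[],[3],[],[0,1],[1,2],[0],[],[],[],[3],[],[],[],[3],[],[1,3],[3],[0],[],[3],[],[],[],[0,1,3],[1],[],[],[],[0],[1],[],[],[0,2],[],[],[],[1],[0,1,3],[],[],[],[0,1,2],[],[2],[],[0,3],[],[3],[],[0],[],[],[],[1,3],[0],[1],[],[2],[],[],[3],[2],[],[],[2],[1],[1],[1,3],[],[],[1],[3],[1],[1,3],[3],[1],[1,2],[1],[2],[0],[2],[],[0,1],[2],[3],[0],[3],[0],[0],[],[1],[],[],[0,1],[1],[],[],[1],[3],[],[],[3],[0,2],[],[3],[],[],[],[],[],[0,2,3],[1],[0,1,2],[],[0],[],[],[3],[],[],[1],[1],[3],[],[0],[],[1],[],[3],[],[3],[],[],[2],[],[],[1],[1],[],[1,2],[1],[],[],[1,3],[],[],[0],[],[2],[0],[1],[],[0],[2],[3],[1],[1,3],[2],[2],[2],[3],[1],[0,3],[],[],[1],[],[2],[],[],[3],[],[],[1],[],[3],[],[2],[2,3],[0,1],[],[],[],[],[0],[],[],[2],[],[],[],[],[1],[3],[],[],[],[3],[],[2],[],[3],[2],[],[],[],[1],[0],[0],[1]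,[0],[2,3],[],[],[1],[],[1,2],[],[3],[3],[],[0,1],[],[0],[0,3],[],[3],[2],[0,1],[0],[2],[2,3],[],[],[1],[],[],[0,1],[2],[0,3],[],[1],[],[0],[],[2],[0],[2],[0,3],[],[],[],[],[0],[],[1],[0],[],[],[1],[0],[],[3],[0],[1],[1],[3],[1],[0,3],[],[0,3],[1],[0],[],[3],[1,2,3],[2],[0],[1],[],[],[3],[1],[],[],[],[2],[],[0,1],[2],[],[0,3],[0],[3],[],[],[],[1],[],[3],[],[],[2],[1,3],[],[1],[1],[],[],[2,3],[],[1,3],[],[],[],[],[],[],[],[1],[2],[],[2],[0],[],[1],[],[],[],[],[1],[1],[],[3],[0,1],[1],[3],[],[],[],[],[],[2],[],[1],[0],[],[0,2],[0,1],[1],[],[0,2],[3],[],[3],[],[],[],[],[],[],[3],[0],[],[0,2,3],[0],[2],[],[0],[1],[],[],[1,2],[],[],[],[],[1],[3],[3],[3],[3],[],[],[],[0],[],[],[],[],[3],[],[2],[2],[],[2],[2],[],[],[0],[],[],[0,3],[0],[],[],[],[1],[],[],[0],[0],[],[1],[1],[],[],[],[1,2],[],[],[],[],[],[],[],[3],[],[],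[3],[],[],[],[2],[3],[],[],[],[],[],[],[],[0,1],[],[0],[2],[],[],[],[0,3],[],[],[],[],[],[3],[],[],[],[3],[2],[],[],[3],[2,3],[],[0],[0],[0,2,3],[],[],[2],[2],[],[],[2],[0],[],[],[3],[2],[1],[],[],[3],[1,2],[],[],[],[],[3],[],[],[],[],[],[3],[3],[3],[1],[],[],[],[],[],[],[],[3],[],[],[],[],[3],[],[],[2],[0,3],[],[1,3],[],[],[2],[],[],[],[],[2,3],[0],[],[0,2],[],[],[],[2],[0],[],[],[2],[],[1],[3],[],[],[],[3],[2],[3],[],[],[3]],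
    [[],[],[2,3],[3],[],[],[0],[],[0],[1],[3],[2],[0,1],[0],[],[],[0,1],[],[1],[],[0],[],[],[0,3],[1,3],[],[1,3],[],[2,3],[],[0],[],[],[],[],[],[],[1],[],[],[],[],[],[],[3],[1,2],[1],[],[2],[3],[],[],[],[],[],[1],[],[],[],[],[2],[3],[],[2],[],[3],[],[],[],[],[],[0],[],[0,1,2],[],[],[1],[],[],[],[],[0],[],[],[],[],[],[],[],[2],[2],[],[],[],[],[],[1],[],[2],[],[1],[],[],[3],[1],[0,2],[],[],[],[],[1],[3],[],[],[],[0,1,3],[],[],[3],[],[],[2],[],[],[],[],[2],[],[],[3],[],[],[],[],[3],[],[],[],[],[],[],[],[1],[2],[],[3],[],[3],[],[],[],[],[1],[],[],[],[0],[2],[2],[],[0],[],[],[],[],[],[3],[2],[],[],[],[],[],[],[],[],[],[1],[],[],[2],[1],[0],[],[2],[],[],[0],[],[],[3],[1],[2],[],[],[],[0],[],[],[3],[],[],[],[],[],[],[0],[],[],[],[0,2],[2],[],[],[1],[0],[0,2],[],[],[3],[],[],[1,2],[0,3],[0],[],[],[],[2],[],[],[],[],[]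,[],[],[],[],[],[],[],[],[],[],[0,1],[],[],[2],[],[],[0],[1],[3],[],[],[],[],[],[],[1],[],[1],[],[],[1,3],[],[3],[],[],[3],[2],[0],[0],[],[],[],[3],[],[],[],[],[],[],[],[],[],[],[],[0],[3],[],[],[],[],[2],[],[],[],[1],[],[],[1],[2],[],[0],[0,1],[],[],[3],[3],[],[1],[1],[],[3],[2],[],[1],[3],[],[0],[],[],[],[0,1],[0],[],[],[],[],[2],[0],[],[],[],[2],[],[],[],[0],[],[],[],[],[],[],[],[],[],[],[],[],[],[],[],[0],[],[],[],[0,2],[],[0],[0],[3],[],[],[],[],[],[],[],[],[1],[],[],[],[],[],[0],[1],[],[],[],[0],[1,3],[],[],[2],[0],[],[],[2],[],[],[],[],[2],[3],[],[],[],[],[],[0],[0],[1],[],[2],[],[3],[],[],[],[],[],[3],[3],[],[0],[0],[2],[],[],[],[],[2],[],[2],[],[],[3],[0],[2],[],[],[],[],[],[2],[],[],[],[],[3],[],[],[],[],[3],[],[],[3],[],[],[],[],[],[],[],[3],[],[],[2],[3],[1],[],[],[],[0],[],[],[],[],[],[],[],[2],[2]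,[],[1],[0],[],[],[],[1],[],[],[],[2],[],[],[],[],[0],[1],[],[],[],[],[],[],[2],[3],[],[],[],[],[2,3],[],[0,3],[],[],[],[2],[],[],[3],[],[],[],[],[],[2],[],[3],[1],[2],[],[2],[],[],[],[],[3],[],[],[],[],[],[],[1],[],[2],[],[0],[0],[],[],[],[],[],[],[],[],[],[3],[2],[],[],[0],[],[],[],[],[2],[],[],[],[],[],[3],[1],[2],[],[3],[],[],[],[],[],[3],[],[],[0,3],[],[],[],[],[],[],[],[3],[],[],[],[2],[0,3],[2,3],[],[0],[],[],[],[],[],[],[],[],[],[2],[],[],[],[],[2,3],[],[],[],[],[],[],[],[],[],[],[0],[],[3],[],[],[],[3],[],[2],[],[],[3],[],[],[],[],[],[],[],[0,2],[],[],[1],[],[],[0],[],[],[0],[],[],[],[],[],[1],[],[],[3],[],[],[],[],[],[3],[],[],[2],[],[],[],[],[],[],[1,2],[],[],[],[],[],[],[],[3],[0],[2],[],[],[2],[],[],[],[],[],[3],[],[],[],[0],[],[],[],[1],[],[2],[],[1],[],[],[3],[],[],[],[],[1],[],[],[],[],[],[],[],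[1],[0],[],[],[],[],[],[1],[],[2],[],[],[],[],[],[],[],[],[],[1],[3],[],[],[],[2],[],[],[],[],[],[],[],[],[],[],[],[],[],[],[],[1],[0],[],[],[],[],[],[2,3],[],[],[2],[],[],[],[],[],[],[],[],[],[],[],[],[1,2],[],[],[],[],[],[1],[1],[],[0,1],[],[0,1],[],[],[],[],[1],[],[],[],[],[],[],[],[],[3],[],[],[],[0],[],[0,2],[],[],[],[3],[],[],[],[],[],[3],[2,3],[],[3],[0],[],[],[0],[3],[],[1],[],[],[],[],[],[],[],[],[],[3],[1],[],[0],[],[],[3],[],[],[],[],[],[],[],[],[2],[],[3],[],[],[],[],[2],[],[],[],[],[],[],[],[],[],[],[2],[],[],[],[],[],[],[],[],[],[],[],[],[2],[3],[],[],[],[],[],[],[],[],[],[],[],[],[],[],[],[3],[],[],[],[],[],[],[],[0],[1],[],[0],[],[],[],[],[],[],[],[],[],[],[],[],[3],[],[],[],[],[2,3],[],[],[],[],[],[],[],[],[2],[],[0],[],[],[],[],[2],[],[],[],[],[],[],[],[],[],[0],[],[],[0],[],[],[],[],[3],[],[]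,[],[],[],[],[],[],[],[3],[],[],[],[],[],[],[],[],[],[],[2],[],[],[],[],[],[],[],[],[1],[],[],[],[],[],[],[],[],[],[],[],[],[],[],[],[1],[],[3],[],[],[],[],[],[],[],[],[],[],[],[],[3],[],[],[],[],[],[],[3],[],[],[],[],[],[1],[],[],[],[],[],[],[],[],[],[],[],[],[],[],[],[],[],[],[0],[],[],[],[],[],[],[],[],[],[],[],[],[],[],[],[],[],[],[],[],[1],[2],[],[],[],[2],[],[],[],[1],[],[1],[],[],[],[],[],[],[2],[],[],[3],[],[1],[],[],[],[],[],[],[],[],[],[],[],[],[],[0],[],[],[],[],[],[],[3],[],[],[0],[2],[],[],[],[],[],[],[],[],[],[],[],[],[],[],[3],[],[0],[],[],[],[0],[],[1],[],[1],[],[],[],[],[],[2,3],[],[2],[],[],[],[],[],[1],[],[],[],[],[1],[0],[],[],[],[],[],[0],[],[],[],[],[],[],[],[],[],[],[0],[],[],[],[],[],[],[0],[],[],[],[],[],[],[],[],[],[],[],[],[],[],[],[],[],[],[],[],[],[],[],[],[],[],[1],[],[],[],[],[],[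],[],[],[],[],[],[],[0],[3],[],[],[],[],[],[],[],[],[],[],[],[],[],[3],[],[],[2],[],[],[],[],[],[],[],[],[],[],[0],[],[],[],[],[],[],[],[3],[],[],[],[],[],[0],[],[],[],[],[],[],[],[],[],[],[1],[],[],[],[],[],[],[2],[],[],[],[],[3],[3],[],[],[],[],[],[],[],[],[],[],[],[],[],[],[],[],[],[],[],[],[],[],[],[],[],[],[],[],[],[],[1],[0],[],[],[],[],[],[],[],[],[],[],[],[],[],[],[1],[],[],[],[],[1],[],[],[],[0],[],[],[],[],[],[],[],[],[],[],[],[],[3],[],[],[],[],[],[],[],[],[],[],[],[],[],[],[],[],[],[],[2],[],[],[],[],[],[],[],[],[],[],[],[],[],[],[],[],[],[],[0,1],[],[],[],[],[],[],[],[],[],[],[],[],[],[],[],[],[],[],[],[],[],[],[],[],[],[],[],[],[3],[],[],[],[],[],[],[],[],[],[],[],[0],[],[],[],[],[],[],[],[],[],[],[],[],[],[],[],[],[],[],[],[],[0],[],[],[],[],[],[],[],[],[3],[],[],[],[],[],[],[],[],[2],[],[],[],[]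,[],[],[1],[],[],[],[],[],[],[1],[],[],[],[],[],[],[],[],[],[],[],[],[],[],[],[],[],[2],[],[],[],[],[1],[],[],[],[],[],[],[],[],[],[],[],[],[3],[],[],[],[3],[],[],[],[],[],[],[],[],[],[],[],[],[],[],[],[],[],[],[],[1],[0],[],[],[],[],[],[],[],[],[],[],[],[],[],[],[],[],[],[],[],[0],[],[],[],[],[],[],[0],[],[],[],[],[],[],[],[],[],[],[],[],[],[],[],[],[],[2],[],[],[],[],[],[],[],[],[],[],[],[],[],[],[],[],[],[],[],[],[],[],[],[],[],[],[],[],[],[],[],[],[],[],[],[],[],[],[],[],[],[],[],[],[],[],[],[],[3],[],[],[],[],[],[2],[],[],[],[],[],[],[],[],[],[],[],[],[],[],[],[],[],[],[],[],[],[2],[],[],[],[],[1],[],[],[],[],[],[],[],[],[],[],[],[],[],[],[],[2],[],[],[],[],[],[],[],[],[],[],[],[],[1],[],[],[],[],[],[],[1],[],[],[1],[],[],[],[],[],[],[],[],[],[],[],[],[],[],[],[],[],[],[],[],[],[],[],[3],[],[],[],[],[],[],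[],[],[],[],[],[],[],[],[2],[],[],[],[],[],[],[],[],[],[],[],[],[],[],[],[],[],[],[3],[0],[],[],[],[],[],[],[],[],[],[],[],[],[],[],[],[],[0],[3],[],[],[],[],[],[],[],[],[],[],[],[],[],[],[3],[],[],[],[],[],[],[],[],[],[],[],[1],[],[],[],[],[],[],[],[],[],[],[],[],[],[],[],[],[],[],[],[],[],[],[],[],[],[],[],[],[],[],[],[],[],[],[],[],[],[],[],[],[],[],[],[],[],[],[],[],[],[],[],[],[],[],[0],[],[],[],[],[],[],[],[],[],[],[],[],[],[],[],[],[],[],[],[],[],[],[],[],[],[],[],[],[],[],[],[],[],[2],[],[],[],[],[1],[],[],[],[],[],[],[],[],[],[],[],[],[],[],[],[],[],[],[],[],[],[],[],[],[],[],[],[],[1],[],[],[],[],[],[],[],[],[],[1],[],[],[1],[],[],[],[],[],[],[],[],[],[],[],[],[],[],[],[],[],[],[],[],[],[],[],[],[],[],[],[],[],[],[],[],[],[],[],[],[],[],[],[],[],[],[],[0],[],[0],[],[],[],[],[],[],[],[],[],[],[2],[],[]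,[],[],[],[],[],[],[],[],[],[],[],[],[],[],[],[],[],[],[],[],[],[],[],[],[],[],[],[],[],[],[],[],[],[],[],[],[],[],[],[],[],[],[],[],[],[],[],[],[],[3],[],[],[],[],[],[],[],[],[],[],[],[],[],[],[],[],[],[],[],[],[],[],[],[],[],[],[],[],[],[],[],[],[],[],[],[],[],[],[0],[],[],[],[],[],[],[],[],[],[],[],[],[],[],[],[],[],[],[],[],[],[1],[],[],[],[],[],[],[],[],[],[],[],[2],[],[],[],[],[],[],[],[],[],[],[],[],[],[],[],[],[1],[3],[],[],[],[],[],[],[],[],[],[],[],[],[],[],[],[],[],[],[],[],[],[],[],[],[],[],[],[],[],[],[],[],[],[],[],[],[],[],[2],[],[],[],[],[],[],[],[],[],[],[],[],[],[],[],[],[],[],[],[],[],[],[],[0],[],[],[],[],[],[],[],[],[],[],[],[],[2],[],[],[],[],[],[],[],[],[],[],[],[],[],[],[],[],[],[],[],[],[],[],[],[],[],[],[],[],[],[],[],[],[],[],[],[],[],[],[],[],[],[],[],[],[],[],[],[],[],[],[],[],[],[]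,[],[],[],[],[],[],[],[],[],[],[],[],[],[],[],[],[],[],[],[],[],[],[],[],[],[],[],[],[],[],[],[],[],[],[],[],[],[],[],[],[],[],[],[],[],[],[],[],[],[],[],[],[],[],[],[],[],[0],[],[],[],[0],[],[],[],[],[],[],[],[],[],[],[],[],[],[],[],[],[],[],[],[],[],[],[],[],[],[],[],[],[],[],[],[],[],[],[],[],[],[],[],[],[],[],[],[],[],[],[],[],[],[],[],[],[],[],[],[],[],[],[],[],[],[],[],[],[],[],[],[],[],[],[],[],[],[],[],[],[],[],[],[],[],[],[],[],[],[],[],[],[],[],[],[],[],[],[],[],[],[],[],[],[],[],[],[],[],[],[],[],[],[],[],[],[],[],[],[],[],[],[],[],[],[],[],[],[],[],[],[],[],[],[],[],[],[0],[],[],[],[],[],[],[],[],[],[],[],[],[],[],[],[],[],[],[],[],[],[],[],[],[],[],[],[],[],[],[],[],[],[],[],[],[],[],[],[],[],[],[],[],[],[],[],[],[],[],[],[],[],[],[],[],[],[],[],[],[],[],[],[],[],[],[],[],[],[],[],[],[],[],[],[],[]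,[],[],[],[],[],[],[],[],[],[],[],[],[],[],[],[],[],[],[],[],[],[],[],[],[],[],[],[],[],[],[],[1],[],[],[],[],[],[],[],[],[],[],[],[],[],[],[],[],[],[],[],[],[],[],[],[],[],[],[],[],[],[],[],[],[],[],[],[],[],[],[],[],[],[],[],[],[],[],[],[],[],[],[],[],[],[],[],[],[],[],[],[],[],[],[],[],[],[],[],[],[],[],[],[],[],[],[],[],[],[],[],[],[],[],[],[],[],[],[],[],[],[],[],[],[],[],[],[],[],[],[],[],[],[],[],[],[],[],[],[],[],[],[],[],[],[],[],[],[],[],[],[],[],[],[],[],[],[],[],[],[],[],[],[],[],[],[],[],[],[],[],[],[],[],[],[],[],[],[],[],[],[],[],[],[],[],[],[],[],[],[],[],[],[],[],[],[],[],[],[],[],[],[],[],[],[],[],[],[],[],[],[],[],[],[],[],[],[],[],[],[],[],[],[],[],[],[],[],[],[],[],[],[],[],[],[],[],[],[],[],[],[],[],[],[],[],[],[],[],[],[],[],[],[],[],[],[],[],[],[],[],[],[],[],[],[],[],[],[],[],[],[],[],[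],[],[],[],[],[],[],[],[],[],[],[],[],[],[],[],[],[],[],[],[],[],[],[],[],[],[],[],[],[],[],[],[],[],[],[],[],[],[],[],[],[],[],[],[],[],[],[],[],[],[],[],[],[],[],[],[],[],[],[],[],[],[],[],[],[],[],[],[],[],[],[],[],[],[],[],[],[],[],[],[],[],[],[],[],[],[],[],[],[],[],[],[],[],[],[],[],[],[],[],[],[],[],[],[],[],[],[],[],[],[],[],[],[],[],[],[],[],[],[],[],[],[],[],[],[],[],[],[],[],[],[],[],[],[],[],[],[],[],[],[],[],[],[],[],[],[],[],[],[],[],[],[],[],[],[],[],[],[],[],[],[],[],[],[],[],[],[],[],[],[],[],[],[],[],[],[],[],[],[],[],[],[],[],[],[],[],[],[],[],[],[],[],[],[],[],[],[],[],[],[],[],[],[],[],[],[],[],[],[],[],[],[],[],[],[],[],[],[],[],[],[],[],[],[],[],[],[],[],[],[],[],[],[],[],[],[],[],[],[],[],[],[],[],[],[],[],[],[],[],[],[],[],[],[],[],[],[],[],[],[],[],[],[],[],[],[],[],[],[],[],[],[],[],[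],[],[],[],[],[],[],[],[],[],[],[],[],[],[],[],[],[],[],[],[],[],[],[],[],[],[],[],[],[],[],[],[],[],[],[],[],[],[],[],[],[],[],[],[],[],[],[],[],[],[],[],[],[],[],[],[],[],[],[],[],[],[],[],[],[],[],[],[],[],[],[],[],[],[],[],[],[],[],[],[],[],[],[],[],[],[],[],[],[],[],[],[],[],[],[],[],[],[],[],[],[],[],[],[],[],[],[],[],[],[],[],[],[],[],[],[],[],[],[],[],[],[],[],[],[],[],[],[],[],[],[],[],[],[],[],[],[],[],[],[],[],[],[],[],[],[],[],[],[],[],[],[],[],[],[],[],[],[],[],[],[],[],[],[],[],[],[],[],[],[],[],[],[],[],[],[],[],[],[],[],[],[],[],[],[],[],[],[],[],[],[],[],[],[],[],[],[],[],[],[],[],[],[],[]]]⟩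

def rowS6 : Row :=
  ⟨0x5ba70aa1346d9e3b8a32094c0628e4, 360,
   [(0x381d1b5d49310ad0d04b90d957c113, 0x94c8a01e821d58544601bbdae32576),
    (0x6cc4050e843d4257ba0cba25135969, 0x389d1b14895aae80cc0678d90955b4),
    (0x719e86c2f2a966ab1d742262c10403, 0x8ade86c0b2ade644b0d4559c700c41),
    (0x5b88a031220d8f2bd223694d5441f3, 0x5b88a031220d8f2bd223694d5441f3)],
   [(0xbdab49ca307b9ac5a928398a418820, []),
    (0x5c613a22d56a5ecba9d2394c418820, [[[0,1,2]],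
      [[2],[2],[]]]),
    (0x7d6c971a11bcd6c6aa853c90418820, [[[0,1,2,3]],
      [[0,1,2],[0],[1],[0]],
      [[],[3],[],[],[],[]]]),
    (0xb5de894d6da9a0c8a8b43b92418820, [[[0,1,3]],
      [[0,1],[],[]]]),
    (0x8adb2452ef816acb28d33a5c418820, [[[0,1,2,3]],
      [[0],[],[],[]]]),
    (0x9c8cbbd90573d2ca29b13d60418820, [[[0,1,2,3]],
      [[0],[0,1,3],[1,2],[2]]]),
    (0x2a695835d34464c32acf3aee418820, [[[0,1]]]),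
    (0x55a0f94cf5a310e5dd2d8988518820, [[[0,1,2,3]],
      [[1,2,3],[1,2,3],[1,3],[1,2]],
      [[0],[3],[1],[1],[0],[1],[],[1,2],[],[0]]]),
    (0x63eb44c946b1db74466b7408518820, [[[0,1,2,3]],
      [[0,1,2,3],[0,1,2,3],[0,1,2],[0,1,2]],
      [[1,2,3],[1,2],[0,2,3],[0,1,2],[0,3],[0,1,2,3],[0,1,2],[1,2],[0,2,3],[1,3],[0],[0,3],[0,2,3],[0,2]],
      [[0,1,2],[0,2,3],[0,1],[1,2,3],[0,1],[3],[0,1],[0,1],[0,2,3],[1],[0,2,3],[3],[2],[0],[2],[],[],[],[2,3],[],[2],[],[1],[],[],[0],[0],[2],[],[0],[],[2],[],[],[3]],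
      [[],[],[],[3],[],[],[],[],[],[0],[],[],[],[],[],[1],[],[],[],[],[],[],[],[],[],[],[],[],[],[],[],[],[],[],[],[],[],[],[]]]),
    (0xb99b28523343aaa4b16f258a718820, [[[0,1,2,3]],
      [[0,1,2,3],[1,2,3],[0],[0]],
      [[1],[1],[0,3],[0,1],[1],[],[],[3],[3]],
      [[1],[],[],[],[],[],[],[],[]]]),
    (0xba91094e346b9e63d8955b0a918820, [[[0,1,2,3]],
      [[0,1,2,3],[1,2,3],[0],[0]],
      [[1],[1],[0],[0],[1,2],[0],[0],[],[]],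
      [[1],[],[2],[],[],[],[],[]]]),
    (0xba64d4562f83a87312d362caa18820, [[[0,1,3]],
      [[1,2,3],[1],[0]],
      [[1],[],[0],[1],[]]]),
    (0x8da6fac2f2a390c59ccd524a410c20, [[[0,1,2,3]],
      [[0,1,2,3],[0,1,2,3],[1,2],[0,1,2]],
      [[1,2],[0,1,2,3],[1,3],[2],[0],[2],[1,3],[1,2],[0,1],[1],[1,2],[],[3]],
      [[1,2,3],[],[],[2],[1],[2],[0,2],[0],[],[],[],[],[],[],[],[],[],[],[],[],[]]]),
    (0xbd136819d37c56a6b2a83c8a410c20, [[[0,1,2,3]],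
      [[0,1,2,3],[0,1,2],[0,1,3],[0,1,2]],
      [[2,3],[0,1,2,3],[1],[0,1,2],[0],[0,1,2],[0,3],[0],[1,2,3],[],[0],[],[1]],
      [[0],[],[],[1],[0],[],[1],[],[2],[],[3],[],[],[1],[],[],[],[],[],[],[],[3]]]),
    (0x73e5435629b5da742a0b64ca410c20, [[[0,1,2,3]],
      [[0,1,2,3],[0,1,2,3],[0,1,2,3],[0,1,2]],
      [[1,2,3],[0,1,2,3],[0,1,2,3],[0,1,2],[0],[0,1,2],[0,1,3],[0,1,2],[0,1,2],[0,1,2],[0,1,2],[0,1,2],[0,1,2,3],[0,1,2],[0,1,2,3]],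
      [[0,1,2,3],[0,1,2,3],[0,1,2],[0],[0,1,2],[0,1,3],[0,1,2],[0,1,2],[0,1],[0,1,2,3],[0,1,2],[0,2,3],[0,1,2,3],[0,1,2,3],[2],[0,3],[2,3],[1,2,3],[0,1,3],[0,2,3],[0,1,2],[0,1,2],[0,1],[2,3],[3],[2,3],[],[0],[0],[1],[0,2,3],[1,2],[0,1,3],[0],[],[],[2],[0,1],[],[0,1],[0],[],[1,2],[],[],[1],[0,1]],
      [[],[0,1],[1],[2],[],[1],[0,1],[0,1],[0],[2],[],[2],[3],[],[],[1],[],[],[1],[],[],[],[2,3],[3],[],[],[],[],[0,3],[],[0],[],[2],[2],[1],[1],[],[],[2],[0],[],[],[],[],[],[],[],[],[],[],[3],[],[],[1],[],[],[],[],[2],[],[2],[],[],[],[],[],[],[],[],[],[],[],[],[],[],[],[],[],[],[],[],[],[],[],[],[],[],[],[],[],[],[],[],[]]]),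
    (0xbc9669d9d04452caa9af250a710c20, [[[0,1,2,3]],
      [[0,2],[0,1,2,3],[0,1,2],[0,1,2]],
      [[1,3],[0,1,3],[0,3],[0,1,2,3],[0,2,3],[1],[3],[0,1,2,3],[0,2],[],[3],[1]],
      [[0,1],[0,1],[],[1],[0],[],[],[],[],[],[],[1],[],[],[],[],[],[],[],[],[],[],[],[]]]),
    (0xba613a3dd5945075aacd618a408860, [[[0,1,2,3]],
      [[2],[],[],[]]]),
    (0x5bab49b53045a47baa2f614c408860, [[[0,1,2]],
      [[2],[2],[]]]),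
    (0xbd9e86c1d2ac66c311343acaa08860, [[[0,1,2,3]],
      [[1,2],[3],[0,1,3],[]],
      [[0],[],[],[],[],[]]]),
    (0x52e68ac0f26b1eeb5cd48a48510c01, [[[0,1,2,3]],
      [[0,1,2,3],[0,1,2,3],[1,3],[1,2]],
      [[1,2,3],[0,1,2],[0,1,2,3],[0,1,2],[0],[1,2],[0],[1],[1,3],[1,2],[0],[0]],
      [[1],[],[1],[],[2],[],[0,1],[],[],[1],[],[0],[],[],[],[],[],[],[],[],[],[],[],[]]]),
    (0x3b52b8199342ad1a3aafbc88510c01, [[[0,1,2,3]],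
      [[0,1,2,3],[1,2,3],[0,2,3],[0,1,2]],
      [[1,2,3],[0,1,2,3],[0,2,3],[0,1,2],[0,1,2,3],[0,1,2,3],[0,1,2],[1,2,3],[0,1,2,3],[0,1,2],[0,1,2,3],[1,2],[0,2,3]],
      [[0,1,2,3],[0,1,2,3],[0,1,2],[0,3],[1,2,3],[0,1,2,3],[1],[1,2,3],[0,2,3],[0,1,2],[0,2,3],[0,1,3],[0,1,2,3],[0],[],[0,1,2],[],[1,2,3],[0,3],[0,1,2,3],[0,2],[0,1,2,3],[0,1,2,3],[2],[2,3],[3],[1],[0,3],[1,2],[0],[0,1,2],[0],[3],[2,3],[1],[0],[],[0],[],[0,1,2,3],[3],[1,3],[1]],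
      [[],[0,2],[0,1],[1],[0,3],[],[0],[1],[0],[2,3],[],[2],[1],[],[2],[1],[1],[3],[1,3],[],[2],[1,2],[3],[1],[],[0,3],[],[],[],[],[1,2],[],[],[],[],[],[],[],[],[],[],[0,1],[],[2,3],[],[],[],[],[],[0],[],[],[1],[],[],[],[],[],[],[0],[],[],[1],[],[2],[],[],[],[],[],[2],[],[],[],[],[],[],[],[],[],[],[],[],[],[],[],[],[],[],[],[]],
      [[],[2],[],[],[],[],[],[],[],[],[],[],[],[],[],[],[],[],[],[],[],[],[],[],[],[],[],[],[],[],[],[],[],[],[],[],[],[],[]]]),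
    (0x6224d3554959e977c61674c8510c01, [[[0,1,2,3]],
      [[0,1,2,3],[0,1,2,3],[0,1,2,3],[0,1]],
      [[1,2,3],[1,2,3],[0,2,3],[0,2],[0],[0,1,2],[0,1,2,3],[0,1,2],[1,2,3],[2,3],[3],[0,1,2],[0,3],[0,2,3]],
      [[1,3],[0,2,3],[1,2],[1],[0,1,2],[0,1],[1,2],[2],[0],[0],[2,3],[2,3],[0],[],[0,1,2],[0],[3],[0],[],[0],[2,3],[],[1,3],[],[],[1],[0],[],[],[],[],[],[0],[],[],[]],
      [[],[],[],[],[],[3],[],[],[],[3],[1],[],[],[],[],[],[],[],[],[],[],[0],[],[],[],[],[],[],[],[],[],[],[],[],[],[],[]]]),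
    (0x7d13672e11bccca932a52350710c01, [[[0,1,2,3]],
      [[0,1,2],[0,2],[0],[]],
      [[],[1],[],[],[],[]]]),
    (0x89a4d456ef8168a4b173259c710c01, [[[0,3]],
      [[0],[]]]),
    (0x9b566ba50573ecaab2512520710c01, [[[0,1,2,3]],
      [[0],[0,2,3],[0,2],[]],
      [[],[3],[],[],[],[]]]),
    (0x8aa086bef5916663d8945b1c910c01, [[[0,1,2,3]],
      [[0,1,2,3],[1,2,3],[0],[0,1,2]],
      [[1],[1,2],[0,3],[0,1],[0,1,2,3],[0,1,2],[0,2],[3],[3],[2],[0,2]],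
      [[1,2,3],[3],[1],[2,3],[0,1],[],[],[],[],[0],[],[2],[],[],[],[],[],[],[],[],[]]]),
    (0x93dd135e8bb54a78110964daa10c01, [[[0,1,2,3]],
      [[0,1,2,3],[1,2,3],[0,2],[0,1,2]],
      [[1,2,3],[0,1,2],[3],[2],[1,2],[0,3],[0,2],[2],[0,2],[1,2,3],[],[0]],
      [[0,2],[0,2],[0,1],[],[1,2],[],[],[],[],[],[3],[0],[],[],[],[],[],[],[],[],[]]]),
    (0x8a5b2852f3416a7312cf62dca10c01, [[[0,1,2,3]],
      [[0,1],[1],[],[]]]),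
    (0x5c5e894ecdaa604b9dd4514cc10c01, [[[0,1,2,3]],
      [[0,1,2,3],[2,3],[3],[0,1]],
      [[1,2],[2,3],[3],[],[3],[],[0,1],[],[]],
      [[2],[],[3],[],[],[],[],[]]]),
    (0x71a95834b345e4449d6f55a2c10c01, [[[0,1,2,3]],
      [[2],[],[],[]]]),
    (0x52513a3ced9320e35ed58ac8508062, [[[0,1,2,3]],
      [[1,2,3],[1,2,3],[1,3],[1,2]],
      [[0],[3],[1],[1],[0],[1],[],[1,2],[],[0]]]),
    (0x2aa6faa1cda46063d8925b2e908062, [[[0,1,2,3]],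
      [[0,1,2,3],[1,2,3],[0],[0]],
      [[1],[1],[0],[0],[1,2],[0],[0],[],[]],
      [[1],[],[2],[],[],[],[],[]]]),
    (0x5c670abed492507b91cd614ca08062, [[[0,1,2,3]],
      [[],[2],[],[]]]),
    (0xb5d0f6c172a1a67890b56392a08062, [[[0,1]],
      [[0,1],[]],
      [[1],[]]]),
    (0x5ba70aa1346d9e3b8a32094c0628e4, []),
    (0x7d13689a6ebc16368aa50c900628e4, [[[0,1,2,3]],
      [[0,1,3],[1,2],[0],[0]]]),
    (0x34613a3ed592503289cd0dd60628e4, [[[0,1]]]),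
    (0x9c8c9bda1173d62686851d5003b144, [[[0,1,2,3]],
      [[0,1,2,3],[0,1,2,3],[0,1,2,3],[0,1,2]],
      [[1,2,3],[0,1,2,3],[0,1,2,3],[1,2],[0],[0,1,2],[1,3],[1,2],[2],[0,1,2],[1,2],[0,1],[2,3],[0,1,2],[0,1,3]],
      [[1,2,3],[3],[],[0],[0,1,2],[0,3],[0,1],[0],[0,1],[0,1],[0,2],[0,1,2],[0,1,2,3],[],[3],[2,3],[2],[3],[],[],[],[],[0],[],[],[],[],[],[],[],[0,1],[],[],[1],[],[],[0,1]],
      [[],[],[2],[0],[],[],[],[],[],[],[],[],[],[],[],[],[],[],[],[],[],[],[],[],[],[],[],[],[],[],[],[],[],[],[],[],[]]]),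
    (0x33a68abd6d95a02884b41dd203b144, [[[1,2,3]],
      [[0,1,2,3],[1,2],[2]],
      [[0],[2],[1],[2],[0],[],[]]]),
    (0x1c8c93d84c505706be849d408bc5c5, [[[0,1,2,3]],
      [[0,1,2,3],[0,1,2,3],[0,1,2,3],[0,1]],
      [[1,2,3],[1,2,3],[0,2,3],[0,2],[0],[0,1,2],[0,1,2,3],[0,1,2],[1,2,3],[2,3],[3],[0,1,2],[0,3],[0,2,3]],
      [[1,3],[0,2,3],[1,2],[1],[0,1,2],[0,1],[1,2],[2],[0],[0],[2,3],[2,3],[0],[],[0,1,2],[0],[3],[0],[],[0],[2,3],[],[1,3],[],[],[1],[0],[],[],[],[],[],[0],[],[],[]],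
      [[],[],[],[],[],[3],[],[],[],[3],[1],[],[],[],[],[],[],[],[],[],[],[0],[],[],[],[],[],[],[],[],[],[],[],[],[],[],[]]]),
    (0x1c1474b056304924566ba3c0dbc5c5, [[[0,1,2,3]],
      [[0,1,2,3],[0,1,2,3],[0,1,2,3],[0,2]],
      [[1,2,3],[2,3],[0,2,3],[0,1,2],[0,3],[0,1,2],[0,2,3],[0,1],[0,1,3],[1,2],[3],[0,1],[0,3],[2,3]],
      [[0,1,2],[0,2],[0,1],[1],[0,1],[1,2],[1,2,3],[0,2],[0],[1,2],[0],[],[0,2],[],[],[0,1,2,3],[2],[],[],[],[2,3],[1,2],[1],[1],[2,3],[1],[],[2],[],[],[1],[1],[]],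
      [[],[],[],[],[0],[],[3],[],[],[1],[],[],[],[],[],[],[],[],[],[3],[],[],[],[],[],[],[],[],[],[],[],[],[],[],[],[],[],[],[],[]]]),
    (0x131e86c032a8e7652cf44900675e25, [[[0,1,2,3]],
      [[1,2,3],[1,3],[1,3],[]]]),
    (0x11e13a3c3590d092198db280b75e25, [[[0,1,2,3]],
      [[1,2],[3],[0,1,3],[]],
      [[0],[],[],[],[],[]]]),
    (0x7d6c98ae6ebc0c290e850350153087, [[[0,1,2,3]],
      [[0,1,3],[],[3],[2]],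
      [[2,3],[],[],[],[]]]),
    (0xb5de86c0d2aae6270cb40452153087, [[[0,1]],
      [[0],[]]])],
   [[[0,1,2,3]],
    [[0,1,2,3],[0,1,2,3],[0,1,2,3],[0,1,2]],
    [[1,2,3],[0,1,2,3],[0,1,2,3],[0,1,2],[0,3],[0,1,2,3],[0,1,2,3],[0,1,2],[0,1,2,3],[0,1,2,3],[0,1,2,3],[0,1,2],[0,1,2,3],[0,1,2,3],[0,1,2,3]],
    [[0,1,2,3],[0,1,2,3],[0,1,2],[0,3],[0,1,2,3],[0,1,2,3],[0,1,2],[0,1,2,3],[0,1,2,3],[0,1,2,3],[0,1,2],[0,2,3],[0,1,2,3],[0,1,2,3],[2,3],[0,1,2],[0,3],[2,3],[0,1,2,3],[1],[0,1,2,3],[0,2,3],[0,1,2,3],[0,1,2],[0,1,2,3],[0,1,2,3],[2,3],[1,2,3],[1,2,3],[3],[1],[0],[0,2,3],[0,1],[0,1,2],[0,2,3],[1,2],[0,1,3],[0,1,2],[0,2],[3],[2,3],[1,2],[0,1],[1],[0,1],[0],[],[0,1,2,3],[0,1],[3],[1,3],[1,3],[0,1]],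
    [[3],[0,1,2,3],[0,1,2],[1,2],[0,3],[1,3],[0,1,3],[0,1,2],[0],[2,3],[0],[2],[0,1],[3],[],[0,2],[1],[1],[3],[0,1,2,3],[0,2],[1],[1,2],[],[1,3],[1,2,3],[3],[1],[],[2,3],[0],[0,1,2],[],[1],[0,1,3],[0],[0,2],[3],[2,3],[1,2],[1],[1],[0],[],[2,3],[0,1],[3],[3],[],[1],[0,2,3],[0,2],[0],[0,3],[],[3],[],[0],[],[0,1],[0,2],[2,3],[1,2],[0,2,3],[1,2,3],[1,3],[],[],[],[1],[],[0,2],[1,2],[0],[0,1],[2],[3],[2,3],[2],[],[],[0],[0],[],[],[1],[],[],[3],[0,2],[1],[2],[2],[1],[],[],[3],[0],[0,1],[],[2,3],[],[0],[],[2,3],[],[],[],[0,2],[1],[],[1],[0],[2],[3],[],[1],[],[],[],[0,1],[0],[0,1],[],[],[],[],[],[],[],[],[],[],[],[],[],[],[],[2],[],[],[3]],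
    [[],[3],[],[2],[],[],[3],[3],[],[],[1],[],[2],[],[],[],[],[],[],[],[],[],[],[],[0],[],[],[],[1],[3],[],[1],[],[],[2],[],[],[],[],[],[],[],[],[],[],[],[],[],[],[],[],[],[],[],[2],[0,2],[],[],[],[2],[1],[],[],[],[],[0],[],[],[],[],[],[],[],[],[],[],[],[],[],[],[],[],[],[],[],[],[],[],[],[],[],[],[],[],[2],[],[],[],[],[],[],[],[],[],[],[],[],[],[],[],[],[],[],[],[],[],[],[],[],[],[],[],[],[],[],[],[],[],[],[],[],[],[],[],[],[],[],[],[],[],[],[],[],[],[],[],[],[],[],[]]]⟩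

def tabS0 : List (ℕ × ℕ × ℕ) :=
   [(1, 0xbdab49ca307b9ac5a928398a418820, 0xbdab49ca307b9ac5a928398a418820),
    (180, 0xbdab49ca307b9ac5a928398a418820, 0x5c613a22d56a5ecba9d2394c418820),
    (45, 0xbdab49ca307b9ac5a928398a418820, 0x8adb2452ef816acb28d33a5c418820),
    (360, 0xbdab49ca307b9ac5a928398a418820, 0x8da6fac2f2a390c59ccd524a410c20),
    (540, 0xbdab49ca307b9ac5a928398a418820, 0x52e68ac0f26b1eeb5cd48a48510c01),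
    (18, 0xbdab49ca307b9ac5a928398a418820, 0x89a4d456ef8168a4b173259c710c01),
    (360, 0xbdab49ca307b9ac5a928398a418820, 0x5ba70aa1346d9e3b8a32094c0628e4)]

def tabS1 : List (ℕ × ℕ × ℕ) :=
   [(180, 0x5c613a22d56a5ecba9d2394c418820, 0xbdab49ca307b9ac5a928398a418820),
    (180, 0x5c613a22d56a5ecba9d2394c418820, 0x5c613a22d56a5ecba9d2394c418820),
    (1440, 0x5c613a22d56a5ecba9d2394c418820, 0x7d6c971a11bcd6c6aa853c90418820),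
    (540, 0x5c613a22d56a5ecba9d2394c418820, 0xb5de894d6da9a0c8a8b43b92418820),
    (540, 0x5c613a22d56a5ecba9d2394c418820, 0x8adb2452ef816acb28d33a5c418820),
    (5760, 0x5c613a22d56a5ecba9d2394c418820, 0x55a0f94cf5a310e5dd2d8988518820),
    (11520, 0x5c613a22d56a5ecba9d2394c418820, 0x63eb44c946b1db74466b7408518820),
    (4320, 0x5c613a22d56a5ecba9d2394c418820, 0xb99b28523343aaa4b16f258a718820),
    (4320, 0x5c613a22d56a5ecba9d2394c418820, 0x8da6fac2f2a390c59ccd524a410c20),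
    (17280, 0x5c613a22d56a5ecba9d2394c418820, 0xbd136819d37c56a6b2a83c8a410c20),
    (34560, 0x5c613a22d56a5ecba9d2394c418820, 0x3da54855537b1ae5c4c8ba48510c20),
    (4320, 0x5c613a22d56a5ecba9d2394c418820, 0x8adf3a22edaba04b2932398ac10c20),
    (17280, 0x5c613a22d56a5ecba9d2394c418820, 0x52e68ac0f26b1eeb5cd48a48510c01),
    (34560, 0x5c613a22d56a5ecba9d2394c418820, 0x3b52b8199342ad1a3aafbc88510c01),
    (2160, 0x5c613a22d56a5ecba9d2394c418820, 0xba6959b6307ba4a332c822ca710c01),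
    (4320, 0x5c613a22d56a5ecba9d2394c418820, 0x7d13672e11bccca932a52350710c01),
    (2160, 0x5c613a22d56a5ecba9d2394c418820, 0x89a4d456ef8168a4b173259c710c01),
    (1080, 0x5c613a22d56a5ecba9d2394c418820, 0xbd9b24522f83aa459d33518ac10c01),
    (1080, 0x5c613a22d56a5ecba9d2394c418820, 0x5c5e894ecdaa604b9dd4514cc10c01),
    (1080, 0x5c613a22d56a5ecba9d2394c418820, 0x3390f6c132a5a6429e3555d6c10c01),
    (1080, 0x5c613a22d56a5ecba9d2394c418820, 0x71a95834b345e4449d6f55a2c10c01),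
    (2160, 0x5c613a22d56a5ecba9d2394c418820, 0xba695849d37c5a358ac8098a0628e4),
    (2160, 0x5c613a22d56a5ecba9d2394c418820, 0x5ba70aa1346d9e3b8a32094c0628e4),
    (4320, 0x5c613a22d56a5ecba9d2394c418820, 0x7d13689a6ebc16368aa50c900628e4),
    (2880, 0x5c613a22d56a5ecba9d2394c418820, 0xbd6c999a307b96268e880c8a0530e4),
    (8640, 0x5c613a22d56a5ecba9d2394c418820, 0x8b566426ef816c2a8e530d1c0530e4),
    (2160, 0x5c613a22d56a5ecba9d2394c418820, 0x71a547d6309dda2585281d8a03b144),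
    (4320, 0x5c613a22d56a5ecba9d2394c418820, 0x9c8c9bda1173d62686851d5003b144),
    (2160, 0x5c613a22d56a5ecba9d2394c418820, 0x33a68abd6d95a02884b41dd203b144),
    (1080, 0x5c613a22d56a5ecba9d2394c418820, 0xbda70abe34939015892d198a03a984),
    (1080, 0x5c613a22d56a5ecba9d2394c418820, 0x5c695836d342641b89cf194c03a984),
    (2160, 0x5c613a22d56a5ecba9d2394c418820, 0xb5e4d7d56899a81888b01b9203a984),
    (34560, 0x5c613a22d56a5ecba9d2394c418820, 0x1c8c93d84c505706be849d408bc5c5),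
    (8640, 0x5c613a22d56a5ecba9d2394c418820, 0x1b26fac052a05162254d31c0bbc5c5),
    (8640, 0x5c613a22d56a5ecba9d2394c418820, 0x191f3a204da860b618f24a816bc5c5),
    (8640, 0x5c613a22d56a5ecba9d2394c418820, 0x11e4d4546f8068952d93b10068ddc5),
    (2880, 0x5c613a22d56a5ecba9d2394c418820, 0x132b49c870785b6218e84a80b8ddc5),
    (5760, 0x5c613a22d56a5ecba9d2394c418820, 0x1d8ea9b030788925d128a980dbba25),
    (17280, 0x5c613a22d56a5ecba9d2394c418820, 0x1ad47790289898db54d0a2412bba25),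
    (360, 0x5c613a22d56a5ecba9d2394c418820, 0xbda13a22356b9e358132098a2610ea),
    (1080, 0x5c613a22d56a5ecba9d2394c418820, 0xb5db24516f81aa3880b30b922610ea)]

def tabS2 : List (ℕ × ℕ × ℕ) :=
   [(45, 0x8adb2452ef816acb28d33a5c418820, 0xbdab49ca307b9ac5a928398a418820),
    (540, 0x8adb2452ef816acb28d33a5c418820, 0x5c613a22d56a5ecba9d2394c418820),
    (45, 0x8adb2452ef816acb28d33a5c418820, 0x8adb2452ef816acb28d33a5c418820),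
    (90, 0x8adb2452ef816acb28d33a5c418820, 0x71a4d7d4a89de8c4a9703da2418820),
    (4320, 0x8adb2452ef816acb28d33a5c418820, 0x55a0f94cf5a310e5dd2d8988518820),
    (1080, 0x8adb2452ef816acb28d33a5c418820, 0xb99b28523343aaa4b16f258a718820),
    (2160, 0x8adb2452ef816acb28d33a5c418820, 0x8da6fac2f2a390c59ccd524a410c20),
    (4320, 0x8adb2452ef816acb28d33a5c418820, 0xbd136819d37c56a6b2a83c8a410c20),
    (8640, 0x8adb2452ef816acb28d33a5c418820, 0x3da54855537b1ae5c4c8ba48510c20),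
    (4320, 0x8adb2452ef816acb28d33a5c418820, 0x52e68ac0f26b1eeb5cd48a48510c01),
    (8640, 0x8adb2452ef816acb28d33a5c418820, 0x3b52b8199342ad1a3aafbc88510c01),
    (540, 0x8adb2452ef816acb28d33a5c418820, 0xba6959b6307ba4a332c822ca710c01),
    (1080, 0x8adb2452ef816acb28d33a5c418820, 0x7d13672e11bccca932a52350710c01),
    (540, 0x8adb2452ef816acb28d33a5c418820, 0x89a4d456ef8168a4b173259c710c01),
    (270, 0x8adb2452ef816acb28d33a5c418820, 0xbd9b24522f83aa459d33518ac10c01),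
    (540, 0x8adb2452ef816acb28d33a5c418820, 0x5c5e894ecdaa604b9dd4514cc10c01),
    (270, 0x8adb2452ef816acb28d33a5c418820, 0x71a95834b345e4449d6f55a2c10c01),
    (720, 0x8adb2452ef816acb28d33a5c418820, 0xba695849d37c5a358ac8098a0628e4),
    (2160, 0x8adb2452ef816acb28d33a5c418820, 0x5ba70aa1346d9e3b8a32094c0628e4),
    (1080, 0x8adb2452ef816acb28d33a5c418820, 0xbd6c999a307b96268e880c8a0530e4),
    (1080, 0x8adb2452ef816acb28d33a5c418820, 0x8b566426ef816c2a8e530d1c0530e4),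
    (2160, 0x8adb2452ef816acb28d33a5c418820, 0x426958b66e2c24230ed70ade0530e4),
    (360, 0x8adb2452ef816acb28d33a5c418820, 0x8dab29d2ef839a158cc8124a051d84),
    (1080, 0x8adb2452ef816acb28d33a5c418820, 0x856c6725f78cd6168e451510051d84),
    (8640, 0x8adb2452ef816acb28d33a5c418820, 0x1c8c93d84c505706be849d408bc5c5),
    (4320, 0x8adb2452ef816acb28d33a5c418820, 0x1b26fac052a05162254d31c0bbc5c5),
    (4320, 0x8adb2452ef816acb28d33a5c418820, 0x11e4d4546f8068952d93b10068ddc5),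
    (2160, 0x8adb2452ef816acb28d33a5c418820, 0x132b49c870785b6218e84a80b8ddc5),
    (2160, 0x8adb2452ef816acb28d33a5c418820, 0x112957b4689864b6255031c168ddc5)]

def tabS3 : List (ℕ × ℕ × ℕ) :=
   [(360, 0x8da6fac2f2a390c59ccd524a410c20, 0xbdab49ca307b9ac5a928398a418820),
    (4320, 0x8da6fac2f2a390c59ccd524a410c20, 0x5c613a22d56a5ecba9d2394c418820),
    (17280, 0x8da6fac2f2a390c59ccd524a410c20, 0x7d6c971a11bcd6c6aa853c90418820),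
    (4320, 0x8da6fac2f2a390c59ccd524a410c20, 0x33a70abd349590c2aa2d3dd6418820),
    (2160, 0x8da6fac2f2a390c59ccd524a410c20, 0x8adb2452ef816acb28d33a5c418820),
    (4320, 0x8da6fac2f2a390c59ccd524a410c20, 0x71a4d7d4a89de8c4a9703da2418820),
    (34560, 0x8da6fac2f2a390c59ccd524a410c20, 0x63eb44c946b1db74466b7408518820),
    (8640, 0x8da6fac2f2a390c59ccd524a410c20, 0x8a6b47cae8995aa332d022dc718820),
    (360, 0x8da6fac2f2a390c59ccd524a410c20, 0x8da6fac2f2a390c59ccd524a410c20),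
    (34560, 0x8da6fac2f2a390c59ccd524a410c20, 0xbd136819d37c56a6b2a83c8a410c20),
    (4320, 0x8da6fac2f2a390c59ccd524a410c20, 0x4bab29d0cf859ac29ee85456410c20),
    (2160, 0x8da6fac2f2a390c59ccd524a410c20, 0xbad106be349166cb1d35519c410c20),
    (8640, 0x8da6fac2f2a390c59ccd524a410c20, 0xbaa959ca28795a93d990591c610c20),
    (5760, 0x8da6fac2f2a390c59ccd524a410c20, 0x719f094e34add0a5b12d3d8a418440),
    (34560, 0x8da6fac2f2a390c59ccd524a410c20, 0x33aad9c9687da8a8b0b03dd2418440),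
    (34560, 0x8da6fac2f2a390c59ccd524a410c20, 0xbb56941a30796c7aaa93649c418440),
    (4320, 0x8da6fac2f2a390c59ccd524a410c20, 0x3aead9c9504328eb452fb988518801),
    (360, 0x8da6fac2f2a390c59ccd524a410c20, 0xbae6fac232a1504b292d399cc18801),
    (4320, 0x8da6fac2f2a390c59ccd524a410c20, 0x52e68ac0f26b1eeb5cd48a48510c01),
    (34560, 0x8da6fac2f2a390c59ccd524a410c20, 0x3b52b8199342ad1a3aafbc88510c01),
    (4320, 0x8da6fac2f2a390c59ccd524a410c20, 0x89d1094ef4695e952d95b11c610c01),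
    (34560, 0x8da6fac2f2a390c59ccd524a410c20, 0x7d13672e11bccca932a52350710c01),
    (4320, 0x8da6fac2f2a390c59ccd524a410c20, 0x89a4d456ef8168a4b173259c710c01),
    (360, 0x8da6fac2f2a390c59ccd524a410c20, 0x8aeb49caf0795a4b1cc8525cc10c01),
    (69120, 0x8da6fac2f2a390c59ccd524a410c20, 0x64db2b514b49eb7845e67208508062),
    (8640, 0x8da6fac2f2a390c59ccd524a410c20, 0x52513a3ced9320e35ed58ac8508062),
    (8640, 0x8da6fac2f2a390c59ccd524a410c20, 0x29df3a41d2ac50952d8db12e608062),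
    (17280, 0x8da6fac2f2a390c59ccd524a410c20, 0x921d15de864d4aa9b1f6241a708062),
    (2160, 0x8da6fac2f2a390c59ccd524a410c20, 0x7264d854b345e8a332cf22e2708062),
    (720, 0x8da6fac2f2a390c59ccd524a410c20, 0x2a6b49c9d07c5a7312c862eea08062),
    (17280, 0x8da6fac2f2a390c59ccd524a410c20, 0x5ba70aa1346d9e3b8a32094c0628e4),
    (69120, 0x8da6fac2f2a390c59ccd524a410c20, 0x7d13689a6ebc16368aa50c900628e4),
    (17280, 0x8da6fac2f2a390c59ccd524a410c20, 0x856c6725f78cd6168e451510051d84),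
    (2160, 0x8da6fac2f2a390c59ccd524a410c20, 0x4ba6fac0d2a590128eed1456051d84),
    (2160, 0x8da6fac2f2a390c59ccd524a410c20, 0x315106bd3492e6170e3515ec051d84),
    (8640, 0x8da6fac2f2a390c59ccd524a410c20, 0x5c695836d342641b89cf194c03a984),
    (2160, 0x8da6fac2f2a390c59ccd524a410c20, 0x33ab49c9307d9a128a281dd603a984),
    (2160, 0x8da6fac2f2a390c59ccd524a410c20, 0x495b2450cf82ea170af31c6c03a984),
    (2160, 0x8da6fac2f2a390c59ccd524a410c20, 0x60e4d8549342a971382f280f1b2d26),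
    (2160, 0x8da6fac2f2a390c59ccd524a410c20, 0x20eb49c99079db11142870157b2d26),
    (17280, 0x8da6fac2f2a390c59ccd524a410c20, 0xa8ae554647635cf1cc24802885d926),
    (4320, 0x8da6fac2f2a390c59ccd524a410c20, 0x609f3a208da9e1719432701515d926)]

def tabS4 : List (ℕ × ℕ × ℕ) :=
   [(540, 0x52e68ac0f26b1eeb5cd48a48510c01, 0xbdab49ca307b9ac5a928398a418820),
    (17280, 0x52e68ac0f26b1eeb5cd48a48510c01, 0x5c613a22d56a5ecba9d2394c418820),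
    (34560, 0x52e68ac0f26b1eeb5cd48a48510c01, 0x7d6c971a11bcd6c6aa853c90418820),
    (4320, 0x52e68ac0f26b1eeb5cd48a48510c01, 0x8adb2452ef816acb28d33a5c418820),
    (8640, 0x52e68ac0f26b1eeb5cd48a48510c01, 0x71a4d7d4a89de8c4a9703da2418820),
    (1080, 0x52e68ac0f26b1eeb5cd48a48510c01, 0x55a0f94cf5a310e5dd2d8988518820),
    (1080, 0x52e68ac0f26b1eeb5cd48a48510c01, 0x75a95434af85e4a5b13321a2718820),
    (4320, 0x52e68ac0f26b1eeb5cd48a48510c01, 0xadaee3c64a650af5c124999a818820),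
    (540, 0x52e68ac0f26b1eeb5cd48a48510c01, 0x8da4d856f34168459d2f519cc18820),
    (1080, 0x52e68ac0f26b1eeb5cd48a48510c01, 0x659f06a094aaa775b932298f118820),
    (4320, 0x52e68ac0f26b1eeb5cd48a48510c01, 0x8da6fac2f2a390c59ccd524a410c20),
    (34560, 0x52e68ac0f26b1eeb5cd48a48510c01, 0xbd136819d37c56a6b2a83c8a410c20),
    (34560, 0x52e68ac0f26b1eeb5cd48a48510c01, 0x7a6958ca6ebc1aa5b2c53990410c20),
    (4320, 0x52e68ac0f26b1eeb5cd48a48510c01, 0xbad106be349166cb1d35519c410c20),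
    (69120, 0x52e68ac0f26b1eeb5cd48a48510c01, 0xbc2954c9d6345ac41e6b53ca418440),
    (8640, 0x52e68ac0f26b1eeb5cd48a48510c01, 0x719f094e34add0a5b12d3d8a418440),
    (17280, 0x52e68ac0f26b1eeb5cd48a48510c01, 0x9262e85eb37d0ac59ec8519a418440),
    (8640, 0x52e68ac0f26b1eeb5cd48a48510c01, 0xbda68abcad93a0a4b17439a2418440),
    (1080, 0x52e68ac0f26b1eeb5cd48a48510c01, 0xbae4d8563343a8cb28cf3a4a410c01),
    (4320, 0x52e68ac0f26b1eeb5cd48a48510c01, 0x726b4448af85dac32ad33ae2410c01),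
    (540, 0x52e68ac0f26b1eeb5cd48a48510c01, 0x52e68ac0f26b1eeb5cd48a48510c01),
    (17280, 0x52e68ac0f26b1eeb5cd48a48510c01, 0x3b52b8199342ad1a3aafbc88510c01),
    (34560, 0x52e68ac0f26b1eeb5cd48a48510c01, 0x9b295bb5ee8c2563a5455910610c01),
    (4320, 0x52e68ac0f26b1eeb5cd48a48510c01, 0x89a4d456ef8168a4b173259c710c01),
    (1080, 0x52e68ac0f26b1eeb5cd48a48510c01, 0x72db27d0a89deaab30d02262710c01),
    (8640, 0x52e68ac0f26b1eeb5cd48a48510c01, 0x698b13ba8a64aef4c1649daa810c01),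
    (540, 0x52e68ac0f26b1eeb5cd48a48510c01, 0x3ae0f94d55a1105b44cdba58e10c01),
    (1080, 0x52e68ac0f26b1eeb5cd48a48510c01, 0x62d13a3c8d92a17b38d52a4f110c01),
    (2160, 0x52e68ac0f26b1eeb5cd48a48510c01, 0xba5b27d2289baac32ad03aca408062),
    (2160, 0x52e68ac0f26b1eeb5cd48a48510c01, 0x89ab484af3415ac4a96f3d9c408062),
    (34560, 0x52e68ac0f26b1eeb5cd48a48510c01, 0x64db2b514b49eb7845e67208508062),
    (2160, 0x52e68ac0f26b1eeb5cd48a48510c01, 0x52513a3ced9320e35ed58ac8508062),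
    (34560, 0x52e68ac0f26b1eeb5cd48a48510c01, 0x8324d755172ce963a551591e608062),
    (34560, 0x52e68ac0f26b1eeb5cd48a48510c01, 0xaaaf14168f835cb658f34924608062),
    (2160, 0x52e68ac0f26b1eeb5cd48a48510c01, 0x7264d854b345e8a332cf22e2708062),
    (2160, 0x52e68ac0f26b1eeb5cd48a48510c01, 0x29a957b5c89c64a4b17025ae708062),
    (4320, 0x52e68ac0f26b1eeb5cd48a48510c01, 0x9994cb9e112a0944d56e959ed08062),
    (2160, 0x52e68ac0f26b1eeb5cd48a48510c01, 0x3a5f06a154a9265346d2bad8e08062),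
    (17280, 0x52e68ac0f26b1eeb5cd48a48510c01, 0x5ba70aa1346d9e3b8a32094c0628e4),
    (69120, 0x52e68ac0f26b1eeb5cd48a48510c01, 0x7d13689a6ebc16368aa50c900628e4),
    (17280, 0x52e68ac0f26b1eeb5cd48a48510c01, 0x34613a3ed592503289cd0dd60628e4),
    (34560, 0x52e68ac0f26b1eeb5cd48a48510c01, 0x9422e4deb6350a340a6b0bda0628e4),
    (17280, 0x52e68ac0f26b1eeb5cd48a48510c01, 0xbd6c999a307b96268e880c8a0530e4),
    (34560, 0x52e68ac0f26b1eeb5cd48a48510c01, 0x8b566426ef816c2a8e530d1c0530e4),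
    (17280, 0x52e68ac0f26b1eeb5cd48a48510c01, 0x748cb7d8a89dd22a0db00d620530e4),
    (8640, 0x52e68ac0f26b1eeb5cd48a48510c01, 0x4ba6fac0d2a590128eed1456051d84),
    (8640, 0x52e68ac0f26b1eeb5cd48a48510c01, 0x315106bd3492e6170e3515ec051d84),
    (17280, 0x52e68ac0f26b1eeb5cd48a48510c01, 0x5c695836d342641b89cf194c03a984),
    (8640, 0x52e68ac0f26b1eeb5cd48a48510c01, 0x33ab49c9307d9a128a281dd603a984),
    (8640, 0x52e68ac0f26b1eeb5cd48a48510c01, 0x495b2450cf82ea170af31c6c03a984),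
    (2160, 0x52e68ac0f26b1eeb5cd48a48510c01, 0xb8d13a3e2d93a0c12835380a4b2d26),
    (2160, 0x52e68ac0f26b1eeb5cd48a48510c01, 0x50db27d0e89b2ae15c3088085b2d26),
    (2160, 0x52e68ac0f26b1eeb5cd48a48510c01, 0x28e0f94dd5a45071102d602eab2d26),
    (2160, 0x52e68ac0f26b1eeb5cd48a48510c01, 0x88df06a2f4a966411c32501ccb2d26),
    (2160, 0x52e68ac0f26b1eeb5cd48a48510c01, 0xb8aad84a337968c19c28501c45d926),
    (4320, 0x52e68ac0f26b1eeb5cd48a48510c01, 0xa8ae554647635cf1cc24802885d926),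
    (2160, 0x52e68ac0f26b1eeb5cd48a48510c01, 0x609f3a208da9e1719432701515d926),
    (8640, 0x52e68ac0f26b1eeb5cd48a48510c01, 0xb8e95448b07b9aa0b05338224b2566),
    (17280, 0x52e68ac0f26b1eeb5cd48a48510c01, 0x80d8a29d1773c950d0519026db2566),
    (8640, 0x52e68ac0f26b1eeb5cd48a48510c01, 0x38d13a4192691f109455b814eb2566),
    (8640, 0x52e68ac0f26b1eeb5cd48a48510c01, 0x78ab42c90ebc1ac0a871382644d966),
    (17280, 0x52e68ac0f26b1eeb5cd48a48510c01, 0x80a958b67773e4a0b065201074d966),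
    (8640, 0x52e68ac0f26b1eeb5cd48a48510c01, 0x40a4d755e58ce8409c775020c4d966),
    (1080, 0x52e68ac0f26b1eeb5cd48a48510c01, 0xb860f94e35a390c0286d388a449acb),
    (1080, 0x52e68ac0f26b1eeb5cd48a48510c01, 0x506b49c8f07b1ae05c688888549acb),
    (2160, 0x52e68ac0f26b1eeb5cd48a48510c01, 0x705f06a0b4ade6a0307220a2749acb),
    (1080, 0x52e68ac0f26b1eeb5cd48a48510c01, 0x88668ac2f2695e401c74509cc49acb),
    (1080, 0x52e68ac0f26b1eeb5cd48a48510c01, 0x3864d85553412850446fb898e49acb),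
    (2160, 0x52e68ac0f26b1eeb5cd48a48510c01, 0x606954348f82a5703873288f149acb),
    (2160, 0x52e68ac0f26b1eeb5cd48a48510c01, 0x88654856f37b9ac01c4850ca4326cb),
    (2160, 0x52e68ac0f26b1eeb5cd48a48510c01, 0x3866fac152a310e0444db8c85326cb),
    (4320, 0x52e68ac0f26b1eeb5cd48a48510c01, 0x9062e55ea7650af04c4480da8326cb)]

def tabS5 : List (ℕ × ℕ × ℕ) :=
   [(18, 0x89a4d456ef8168a4b173259c710c01, 0xbdab49ca307b9ac5a928398a418820),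
    (2160, 0x89a4d456ef8168a4b173259c710c01, 0x5c613a22d56a5ecba9d2394c418820),
    (1080, 0x89a4d456ef8168a4b173259c710c01, 0x7d6c971a11bcd6c6aa853c90418820),
    (540, 0x89a4d456ef8168a4b173259c710c01, 0x8adb2452ef816acb28d33a5c418820),
    (270, 0x89a4d456ef8168a4b173259c710c01, 0x2a695835d34464c32acf3aee418820),
    (4320, 0x89a4d456ef8168a4b173259c710c01, 0x8da6fac2f2a390c59ccd524a410c20),
    (2160, 0x89a4d456ef8168a4b173259c710c01, 0xbc2954c9d6345ac41e6b53ca418440),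
    (4320, 0x89a4d456ef8168a4b173259c710c01, 0x52e68ac0f26b1eeb5cd48a48510c01),
    (1080, 0x89a4d456ef8168a4b173259c710c01, 0x6224d3554959e977c61674c8510c01),
    (18, 0x89a4d456ef8168a4b173259c710c01, 0x89a4d456ef8168a4b173259c710c01),
    (270, 0x89a4d456ef8168a4b173259c710c01, 0x72db27d0a89deaab30d02262710c01),
    (2160, 0x89a4d456ef8168a4b173259c710c01, 0x64db2b514b49eb7845e67208508062),
    (2160, 0x89a4d456ef8168a4b173259c710c01, 0x52513a3ced9320e35ed58ac8508062),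
    (36, 0x89a4d456ef8168a4b173259c710c01, 0x2adb2851d3446a4b1ccf526ec08062),
    (1440, 0x89a4d456ef8168a4b173259c710c01, 0x5ba70aa1346d9e3b8a32094c0628e4),
    (2160, 0x89a4d456ef8168a4b173259c710c01, 0x7d13689a6ebc16368aa50c900628e4),
    (2880, 0x89a4d456ef8168a4b173259c710c01, 0x33a68abd6d95a02884b41dd203b144)]

def tabS6 : List (ℕ × ℕ × ℕ) :=
   [(360, 0x5ba70aa1346d9e3b8a32094c0628e4, 0xbdab49ca307b9ac5a928398a418820),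
    (2160, 0x5ba70aa1346d9e3b8a32094c0628e4, 0x5c613a22d56a5ecba9d2394c418820),
    (4320, 0x5ba70aa1346d9e3b8a32094c0628e4, 0x7d6c971a11bcd6c6aa853c90418820),
    (2160, 0x5ba70aa1346d9e3b8a32094c0628e4, 0xb5de894d6da9a0c8a8b43b92418820),
    (2160, 0x5ba70aa1346d9e3b8a32094c0628e4, 0x8adb2452ef816acb28d33a5c418820),
    (4320, 0x5ba70aa1346d9e3b8a32094c0628e4, 0x9c8cbbd90573d2ca29b13d60418820),
    (1080, 0x5ba70aa1346d9e3b8a32094c0628e4, 0x2a695835d34464c32acf3aee418820),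
    (8640, 0x5ba70aa1346d9e3b8a32094c0628e4, 0x55a0f94cf5a310e5dd2d8988518820),
    (34560, 0x5ba70aa1346d9e3b8a32094c0628e4, 0x63eb44c946b1db74466b7408518820),
    (8640, 0x5ba70aa1346d9e3b8a32094c0628e4, 0xb99b28523343aaa4b16f258a718820),
    (8640, 0x5ba70aa1346d9e3b8a32094c0628e4, 0xba91094e346b9e63d8955b0a918820),
    (4320, 0x5ba70aa1346d9e3b8a32094c0628e4, 0xba64d4562f83a87312d362caa18820),
    (17280, 0x5ba70aa1346d9e3b8a32094c0628e4, 0x8da6fac2f2a390c59ccd524a410c20),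
    (17280, 0x5ba70aa1346d9e3b8a32094c0628e4, 0xbd136819d37c56a6b2a83c8a410c20),
    (69120, 0x5ba70aa1346d9e3b8a32094c0628e4, 0x73e5435629b5da742a0b64ca410c20),
    (17280, 0x5ba70aa1346d9e3b8a32094c0628e4, 0xbc9669d9d04452caa9af250a710c20),
    (2160, 0x5ba70aa1346d9e3b8a32094c0628e4, 0xba613a3dd5945075aacd618a408860),
    (2160, 0x5ba70aa1346d9e3b8a32094c0628e4, 0x5bab49b53045a47baa2f614c408860),
    (4320, 0x5ba70aa1346d9e3b8a32094c0628e4, 0xbd9e86c1d2ac66c311343acaa08860),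
    (17280, 0x5ba70aa1346d9e3b8a32094c0628e4, 0x52e68ac0f26b1eeb5cd48a48510c01),
    (69120, 0x5ba70aa1346d9e3b8a32094c0628e4, 0x3b52b8199342ad1a3aafbc88510c01),
    (34560, 0x5ba70aa1346d9e3b8a32094c0628e4, 0x6224d3554959e977c61674c8510c01),
    (4320, 0x5ba70aa1346d9e3b8a32094c0628e4, 0x7d13672e11bccca932a52350710c01),
    (1440, 0x5ba70aa1346d9e3b8a32094c0628e4, 0x89a4d456ef8168a4b173259c710c01),
    (4320, 0x5ba70aa1346d9e3b8a32094c0628e4, 0x9b566ba50573ecaab2512520710c01),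
    (17280, 0x5ba70aa1346d9e3b8a32094c0628e4, 0x8aa086bef5916663d8945b1c910c01),
    (17280, 0x5ba70aa1346d9e3b8a32094c0628e4, 0x93dd135e8bb54a78110964daa10c01),
    (2880, 0x5ba70aa1346d9e3b8a32094c0628e4, 0x8a5b2852f3416a7312cf62dca10c01),
    (8640, 0x5ba70aa1346d9e3b8a32094c0628e4, 0x5c5e894ecdaa604b9dd4514cc10c01),
    (2160, 0x5ba70aa1346d9e3b8a32094c0628e4, 0x71a95834b345e4449d6f55a2c10c01),
    (8640, 0x5ba70aa1346d9e3b8a32094c0628e4, 0x52513a3ced9320e35ed58ac8508062),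
    (8640, 0x5ba70aa1346d9e3b8a32094c0628e4, 0x2aa6faa1cda46063d8925b2e908062),
    (2160, 0x5ba70aa1346d9e3b8a32094c0628e4, 0x5c670abed492507b91cd614ca08062),
    (2160, 0x5ba70aa1346d9e3b8a32094c0628e4, 0xb5d0f6c172a1a67890b56392a08062),
    (360, 0x5ba70aa1346d9e3b8a32094c0628e4, 0x5ba70aa1346d9e3b8a32094c0628e4),
    (4320, 0x5ba70aa1346d9e3b8a32094c0628e4, 0x7d13689a6ebc16368aa50c900628e4),
    (1080, 0x5ba70aa1346d9e3b8a32094c0628e4, 0x34613a3ed592503289cd0dd60628e4),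
    (34560, 0x5ba70aa1346d9e3b8a32094c0628e4, 0x9c8c9bda1173d62686851d5003b144),
    (5760, 0x5ba70aa1346d9e3b8a32094c0628e4, 0x33a68abd6d95a02884b41dd203b144),
    (34560, 0x5ba70aa1346d9e3b8a32094c0628e4, 0x1c8c93d84c505706be849d408bc5c5),
    (34560, 0x5ba70aa1346d9e3b8a32094c0628e4, 0x1c1474b056304924566ba3c0dbc5c5),
    (4320, 0x5ba70aa1346d9e3b8a32094c0628e4, 0x131e86c032a8e7652cf44900675e25),
    (4320, 0x5ba70aa1346d9e3b8a32094c0628e4, 0x11e13a3c3590d092198db280b75e25),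
    (4320, 0x5ba70aa1346d9e3b8a32094c0628e4, 0x7d6c98ae6ebc0c290e850350153087),
    (1440, 0x5ba70aa1346d9e3b8a32094c0628e4, 0xb5de86c0d2aae6270cb40452153087)]

def tabsS : List (List (ℕ × ℕ × ℕ)) := [tabS0, tabS1, tabS2, tabS3, tabS4, tabS5, tabS6]

def covS : Cover :=
  ⟨xS, 138240,
   [0xb82d5a4e5183dcd62d4941cc520c41, 0x5883388a1c8f5140b46cd317aed7, 0xbba8ab116d7c52899d90286a219a40],
   [[[0,1,2]],
    [[0,1,2],[0,2],[0,2]],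
    [[0,1,2],[0,2],[0,2],[0,1,2],[0,2],[0,1,2],[0,2]],
    [[0,1,2],[0,2],[0,2],[0,1,2],[2],[0,1,2],[0,2],[0,1,2],[0,2],[0,2],[0,1,2],[0,2],[0,1,2],[0,2],[0,2],[0,1,2],[0,2]],
    [[1,2],[0,2],[0,2],[0,1,2],[0,2],[0,1,2],[0,2],[0,1,2],[2],[0,2],[0,2],[0,1,2],[0,2],[2],[0,1,2],[0,2],[0,1,2],[0,2],[0,2],[0,1,2],[0,2],[0,1,2],[0,2],[0,1,2],[0,2],[0,2],[0,1,2],[0,2],[0,1,2],[0,2],[0,2],[0,1,2],[0,2],[0,1,2],[0,2],[0,1,2],[0,2],[0,2],[0,1,2],[0]],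
    [[0,2],[0,2],[0,1,2],[0,2],[0,1,2],[0,2],[0,1,2],[2],[0,2],[0,1,2],[0,2],[0,1,2],[0,2],[0,2],[0,1,2],[0,2],[0,1,2],[2],[0,2],[0,2],[0,2],[0,2],[0,1,2],[0,2],[0,1,2],[0,2],[0,2],[0,1,2],[0,2],[0,2],[0,1,2],[0,2],[0,2],[1],[0],[0,1,2],[0,2],[0,2],[1,2],[0,2],[1,2],[0,2],[0,1,2],[2],[0,2],[0,1,2],[0,2],[1],[0,2],[0],[0,1,2],[0,2],[1,2],[0,2],[0,2],[0,1,2],[0,2],[0,1,2],[0,2],[0,1,2],[0,2],[0,2],[0,1,2],[],[0,1,2],[0,2],[0,2],[0,1,2],[0,2],[1,2],[0,2],[1,2],[2],[0,2],[0,1,2],[0,2],[0,1,2],[0,2],[0,2],[0,1,2],[0,2],[0,1,2],[0,2],[0,2],[0,1,2],[0,2],[2],[0,2],[0,1,2],[0,2],[0,2],[0,1,2]],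
    [[0,2],[0,2],[0,1,2],[0,2],[0,1,2],[2],[0,2],[0,1],[0,2],[0,1,2],[0,2],[0,2],[0,1,2],[0],[0,1,2],[0,2],[0,2],[2],[1,2],[0,2],[0,1,2],[0,2],[0,2],[0,1],[0,2],[1,2],[2],[0,2],[0,1,2],[2],[0,2],[0,2],[0,1],[0,2],[0,2],[0,1,2],[0],[0,1,2],[0,2],[0,2],[0,2],[0,1],[0,2],[0],[0,2],[0,2],[0,2],[0,1],[0],[0,1,2],[0,2],[2],[1,2],[0],[0,1,2],[0,2],[0,2],[0,1,2],[2],[0,1,2],[0,2],[0,1,2],[2],[0,2],[0,1],[0,2],[0,1,2],[0,2],[0,1,2],[0,2],[0,2],[1,2],[0,2],[1,2],[0,2],[0],[0,1,2],[0,1],[0,2],[0],[0,1,2],[0,2],[0,1,2],[0,2],[2],[0,2],[0,1,2],[2],[0],[],[0,1,2],[0,2],[0,1,2],[0,2],[0,2],[0,2],[0,1],[0,2],[0,1,2],[0,2],[0,2],[0,1,2],[0,2],[0],[0,2],[0],[0,2],[0,1,2],[0,2],[2],[0,1,2],[0],[2],[2],[0,1],[0,2],[0,1],[0,2],[0,1,2],[2],[0,2],[0,1,2],[0,2],[2],[0,2],[0,2],[0,1,2],[2],[0,1,2],[2],[0,2],[0,1,2],[0,2],[0,1,2],[0,2],[0,1,2],[2],[0,2],[0,1,2],[2],[0,2],[0,1,2],[0,2],[1,2],[0,2],[0,2],[],[0,2],[0,1,2],[],[2],[0,2],[0,1,2],[],[0,2],[0,2],[0,2],[0,1],[0,2],[0,1,2],[],[2],[1,2],[0,2],[1],[0],[0],[0,1,2],[0,2],[1],[2],[0,1,2],[2],[],[],[0],[0,1],[2],[0,2],[0,1,2],[0,2],[0,1,2],[],[0,1,2],[2],[0,2],[0,1],[0,2],[0,2],[0,1,2],[0,2],[2],[0,2],[0,2],[0,1,2],[0,2],[0],[2],[0,1],[0],[0,2]],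
    [[0,1,2],[0],[0],[0,2],[0,1,2],[0],[0,2],[0,1],[0,2],[0,2],[0],[0,2],[0],[0,1,2],[2],[0,2],[0],[0,1,2],[0],[0,1,2],[0,2],[0],[1],[2],[0,2],[0,2],[0,1],[0,2],[0,2],[0,1,2],[0,1,2],[2],[0,2],[0,2],[2],[0,1],[0],[0,2],[0,2],[2],[0,1],[],[0,1,2],[0,2],[0,2],[0,1,2],[2],[0,2],[2],[2],[0],[0],[0],[0,2],[0,2],[0,2],[2],[0,2],[0],[2],[0,2],[2],[0,1,2],[2],[0,2],[0,2],[0,1,2],[],[0,2],[0,2],[0,1,2],[0,2],[0,1],[0,2],[2],[0,1],[1],[],[2],[2],[0,2],[0,1,2],[0,2],[1],[0],[0,1],[0],[0,1,2],[0],[0,1],[],[],[],[2],[0,2],[0],[1],[],[0,1],[0,1],[0,2],[0],[0,2],[2],[0,2],[0,2],[0],[1,2],[2],[0,2],[],[0,1,2],[0,2],[0,2],[0],[1,2],[2],[2],[],[1,2],[2],[0,2],[0,1,2],[],[],[2],[],[0],[0],[2],[2],[0],[0,1,2],[0,2],[0,1,2],[2],[0,2],[0,1],[],[2],[0,2],[],[1,2],[0,2],[0,2],[0,2],[2],[0,2],[0,1],[0,2],[2],[0,2],[0,2],[2],[0,1,2],[0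],[2],[],[1,2],[0],[0,2],[0],[0,2],[1,2],[],[0,2],[1,2],[0,2],[0],[2],[],[2],[0,2],[0],[0,1],[],[0],[0,2],[0],[0,2],[2],[0,2],[0,2],[0,2],[0,1],[0],[0,1],[0,2],[],[],[0,2],[2],[0,2],[1,2],[2],[1,2],[],[0,1,2],[],[2],[0],[0,2],[0],[],[1,2],[0],[1,2],[0,2],[0,2],[1,2],[],[1,2],[0,1],[0,2],[0,1],[0,1],[],[0],[0,2],[2],[0],[0],[2],[1],[0,2],[],[],[2],[0,2],[0,1,2],[],[1,2],[],[0,1,2],[0],[0,1],[2],[0,1,2],[0,2],[],[0,2],[2],[0,2],[1,2],[2],[0],[0,1,2],[],[2],[0],[2],[0,1,2],[0,2],[2],[2],[0,2],[],[2],[0],[0,2],[2],[1,2],[0,2],[0,1],[2],[2],[0,2],[0,2],[0,1,2],[0,2],[0,2],[0],[],[],[2],[2],[2],[0,2],[],[0],[],[0],[0,2],[0],[0,2],[1,2],[2],[2],[0,2],[],[0,2],[2],[0,1],[0,2],[0,1,2],[2],[0,1],[0],[0],[0,2],[0],[],[2],[0,2],[1,2],[0],[0,2],[],[0,2],[0,2],[],[0],[0],[2],[0],[],[0],[0,1],[0,2],[0,2],[0],[0,2],[],[],[0],[],[2],[1],[0,2],[],[0],[],[2],[0],[0],[0,1],[2],[2],[0],[1],[0,2],[0],[0,2],[2],[0],[0],[2],[],[1],[],[0,1],[2],[],[],[0,2],[0],[0,2],[],[2],[],[],[0],[0],[0,1],[0,2],[0,1,2],[0],[2],[1],[0],[0],[1],[],[0,2],[0,2],[2],[2],[],[0,2],[0,2],[1],[2],[],[0],[],[0,1],[]],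
    [[1],[2],[2],[1,2],[1,2],[2],[2],[0,1],[],[],[0,1,2],[0,2],[],[1,2],[],[],[],[1],[2],[0,1,2],[2],[0,2],[],[0,2],[0],[2],[],[0,2],[0],[0,2],[0,1,2],[0,2],[],[1],[0],[0,2],[0],[],[],[],[],[2],[0,1],[],[0,1],[0,2],[1],[0],[],[2],[],[0],[0,1,2],[],[0],[0],[2],[0],[2],[0,1,2],[2],[0],[2],[],[2],[],[0,1,2],[1],[],[2],[2],[0,2],[0,1],[],[2],[2],[2],[1],[2],[1,2],[0,2],[1],[2],[],[0,2],[0,1],[0,2],[0,2],[0,2],[0,1],[],[1,2],[1],[2],[0,1],[0],[2],[0],[2],[],[2],[2],[0,2],[0,1,2],[0,2],[0,2],[1,2],[2],[0,2],[0],[0,2],[],[1],[],[],[0,2],[],[1],[],[0],[2],[1],[],[2],[0,1],[0],[0,2],[],[],[0,2],[0,2],[2],[0],[],[2],[],[0],[],[],[],[2],[2],[],[],[],[0,1,2],[0],[0],[0],[0,2],[2],[0,1],[1,2],[],[],[],[],[0],[],[],[0],[0,2],[0],[1],[0],[1],[],[2],[],[0,2],[0,2],[1,2],[0],[2],[0,2],[],[2],[0,1,2],[],[1],[],[],[0,1],[0],[0,2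],[],[1],[2],[0],[0],[],[0,2],[0],[2],[],[0,2],[],[],[],[0],[2],[],[],[2],[2],[1,2],[0],[0],[0],[0],[],[0],[],[],[2],[2],[1,2],[0],[],[0,2],[0],[2],[],[0,1,2],[2],[],[],[2],[],[2],[0,2],[],[],[],[],[0],[2],[],[0],[0],[0],[],[],[],[2],[0],[],[0],[],[1],[1],[],[],[2],[],[],[2],[],[2],[],[],[],[2],[2],[0],[],[0],[0],[0],[0,2],[],[],[2],[0],[0,2],[0],[0],[],[1],[],[],[0,2],[2],[],[1],[],[2],[0,2],[],[0],[],[1],[],[0],[2],[],[],[],[],[0],[0,2],[2],[],[],[0],[0],[0,1],[],[],[0],[],[1],[0,2],[],[2],[],[0],[],[],[],[],[],[1],[],[],[],[],[0],[],[0],[0],[0,2],[2],[0,2],[0,2],[1],[],[],[1,2],[],[0],[0],[0],[0,2],[2],[2],[2],[2],[0,2],[0],[],[],[0],[],[],[],[2],[2],[2],[0],[0],[2],[],[],[0],[2],[],[0],[1,2],[],[],[],[],[2],[2],[1],[0,2],[2],[1],[0],[2],[],[],[0],[],[2],[2],[],[2],[2],[],[],[0],[0,1],[],[0],[],[0,2],[],[],[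],[0],[],[],[1],[0,2],[2],[],[1,2],[],[],[0],[2],[],[],[],[1],[2],[1],[1],[2],[2],[0],[2],[2],[0,1],[],[0],[],[0],[],[],[],[],[0],[],[],[0],[],[],[],[],[0],[],[1],[0,2],[1],[],[],[],[0,1],[],[2],[],[],[0,1],[],[1],[],[],[2],[2],[1],[0],[0,2],[],[2],[],[],[1,2],[],[],[],[],[2],[],[0,1],[],[0],[],[],[],[2],[0],[],[0],[],[],[],[],[],[2],[],[],[],[],[],[],[],[0],[],[2],[1],[2],[],[],[],[0],[0],[],[2],[],[],[],[],[],[],[],[0],[],[],[0],[],[0],[],[0],[0],[],[1],[],[],[],[0],[1],[]],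
    [[0],[],[0],[],[0],[],[],[],[],[0],[],[0,1],[],[],[1],[],[],[],[],[],[],[2],[2],[],[],[],[],[],[],[],[],[],[],[],[2],[],[],[],[2],[0],[],[1],[],[],[],[],[],[],[1],[],[2],[],[],[1],[],[],[],[],[],[],[],[0],[],[0],[],[],[2],[],[2],[0],[2],[1],[2],[0,2],[0],[],[],[],[],[],[],[2],[],[],[],[],[],[],[],[],[],[],[1],[],[],[],[2],[0],[0],[],[],[],[],[],[0],[],[],[0],[],[0],[],[],[],[0],[0],[],[],[],[0],[],[],[0],[],[],[],[],[],[],[],[],[0],[],[],[],[],[],[],[],[],[],[],[],[],[],[],[],[0],[],[],[],[],[],[],[],[],[],[],[],[],[],[],[],[],[],[],[],[],[2],[0,2],[],[],[],[],[],[],[],[],[],[],[],[0,1],[],[2],[],[],[],[],[],[],[0],[],[2],[],[2],[],[],[],[2],[],[],[],[],[],[],[],[],[0],[],[],[2],[],[],[],[2],[],[1,2],[],[],[],[],[],[],[],[],[],[],[],[],[],[2],[],[],[],[],[],[],[],[],[0],[1],[],[],[2],[],[],[],[],[],[],[],[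],[],[],[],[],[],[],[],[2],[],[],[],[],[],[],[],[],[],[],[],[],[],[],[1],[2],[2],[2],[],[],[],[0],[],[],[],[],[],[],[],[],[],[],[],[],[2],[],[],[],[],[],[0],[],[2],[0],[],[],[],[],[],[],[],[],[],[],[],[],[],[],[],[],[],[],[],[],[],[],[],[],[],[],[],[],[],[],[],[],[0],[],[],[],[],[],[],[0],[],[],[],[0],[],[],[],[],[],[],[],[],[],[],[],[],[],[],[],[],[],[],[],[],[],[],[],[],[],[],[],[],[],[],[],[],[],[],[],[],[],[],[],[],[],[],[],[],[],[],[],[],[],[],[],[],[],[],[],[],[],[],[],[],[],[],[],[],[],[],[]],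
    [[],[],[],[],[],[],[],[],[],[],[],[],[],[],[],[],[],[],[],[],[],[],[],[2],[],[],[],[],[],[],[],[],[],[],[],[],[],[],[],[],[],[],[],[],[],[],[],[],[],[],[],[],[],[],[],[],[],[],[],[],[],[],[],[],[],[],[],[],[],[],[],[],[]]],
   [rowS0, rowS1, rowS2, rowS3, rowS4, rowS5, rowS6],
   [(0x5a69ab230539b243e8b31ca418457, 54, 0x4313575c01a086b2ce06b4487535f2, 1, 0),
    (0x5a69ab230539b243e8b31ca418457, 71, 0xab117698257d969852323a88070873, 3, 0),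
    (0x5a69ab230539b243e8b31ca418457, 83, 0x6ae917a80c1148748ee69d43674248, 3, 0),
    (0x5a69ab230539b243e8b31ca418457, 85, 0x4ace255ece814116c868a3d840cea6, 3, 0),
    (0x5a69ab230539b243e8b31ca418457, 99, 0xa16f388c1631022926b06a16c728ef, 3, 0),
    (0x5a69ab230539b243e8b31ca418457, 101, 0x3925385cac7b971152a3434160992a, 3, 0),
    (0x5a69ab230539b243e8b31ca418457, 113, 0x8ba6fa8c203948282a924998bb21b7, 3, 0),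
    (0x5a69ab230539b243e8b31ca418457, 119, 0x182b19d0a43582f826f26a16c71d42, 3, 0),
    (0x5a69ab230539b243e8b31ca418457, 385, 0xb1ca935c209a86b6d1cf9208265611, 1, 0),
    (0x5a69ab230539b243e8b31ca418457, 391, 0x4a8d32a022a8c926c28fbace065a2e, 1, 0),
    (0x5a69ab230539b243e8b31ca418457, 405, 0xb85069b48381d9573d25b2c4a04a91, 2, 0),
    (0x5a69ab230539b243e8b31ca418457, 421, 0x79176bc1834081534a259d1413b92d, 1, 0),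
    (0x5a69ab230539b243e8b31ca418457, 448, 0x7ba53820a43300d8a6b718acb09d54, 3, 0),
    (0x5a69ab230539b243e8b31ca418457, 454, 0x4daf08d1cc6808faa25310cab0a8e6, 3, 0),
    (0x5a69ab230539b243e8b31ca418457, 466, 0x939b140804a2ec39bef551ca161930, 3, 0),
    (0x5a69ab230539b243e8b31ca418457, 482, 0x404d24a9c4a580713e03bc56c2cead, 3, 0),
    (0x5a69ab230539b243e8b31ca418457, 484, 0x804d14d08c9816f156e3436ce2a8f2, 3, 0),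
    (0x5a69ab230539b243e8b31ca418457, 496, 0x33a0891c25a018a8bdb79d6c458c49, 3, 0),
    (0x5a69ab230539b243e8b31ca418457, 502, 0x6b2f58a42e3ac06a2a6f848b620c48, 3, 0),
    (0x5a69ab230539b243e8b31ca418457, 646, 0x3d8501d0acb840f4c6466a16e24eaa, 3, 0),
    (0x5a69ab230539b243e8b31ca418457, 658, 0x394551b560a302883e72bc6ce2192a, 3, 0),
    (0x5a69ab230539b243e8b31ca418457, 660, 0x481423c424831774486d7d0aeb4ea6, 3, 0),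
    (0x5a69ab230539b243e8b31ca418457, 674, 0x9b232ba9c04d8a769a08a3c2b20c55, 3, 0),
    (0x5a69ab230539b243e8b31ca418457, 676, 0x7b87715425302d34262d3a98b24a14, 3, 0),
    (0x5a69ab230539b243e8b31ca418457, 688, 0x6d9493c88c9acb0154c3a3dc105e28, 3, 0),
    (0x5a69ab230539b243e8b31ca418457, 694, 0x312aa9d1658858f6dce88480eb0869, 3, 0),
    (0x5a69ab230539b243e8b31ca418457, 705, 0x784d34d864b9c4b94514ab58a015d0, 2, 0),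
    (0x5a69ab230539b243e8b31ca418457, 711, 0x484cf2c00cb88958adb6920ea1ce8e, 1, 0),
    (0x5a69ab230539b243e8b31ca418457, 723, 0x286d38b4404314faca905dc871a5c6, 1, 0),
    (0x5a69ab230539b243e8b31ca418457, 741, 0x904b13548770870a26d3bad4c03da8, 1, 0),
    (0x5a69ab230539b243e8b31ca418457, 753, 0x904a934d4079c745b5d7ac18415a28, 1, 0),
    (0x5a69ab230539b243e8b31ca418457, 759, 0x82974b944c79c06b36717242322255, 1, 0),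
    (0x5a69ab230539b243e8b31ca418457, 769, 0x6bab29bcac5103419e02bc6cb01928, 3, 0),
    (0x5a69ab230539b243e8b31ca418457, 775, 0xada0690c2eb90a23c52a7d00b63513, 3, 0),
    (0x5a69ab230539b243e8b31ca418457, 787, 0x390c84c2c51003288db7a3d8b7566a, 3, 0),
    (0x5a69ab230539b243e8b31ca418457, 803, 0x692f389805959891c2a23a96e0be88, 3, 0),
    (0x5a69ab230539b243e8b31ca418457, 805, 0xb926da98011b169a090f3aac574251, 3, 0),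
    (0x5a69ab230539b243e8b31ca418457, 817, 0x43222bc2c432dd29a4753a82503e8d, 3, 0),
    (0x5a69ab230539b243e8b31ca418457, 823, 0x839483a43619006a09af9d56c2c6f2, 3, 0),
    (0x5a69ab230539b243e8b31ca418457, 832, 0x28a2eb5c808298b455329d0e11b5e6, 1, 0),
    (0x5a69ab230539b243e8b31ca418457, 850, 0x831a67b840984e9950a88d86455d75, 1, 0),
    (0x5a69ab230539b243e8b31ca418457, 852, 0x31e2dbcc6179008a42b2b2c4a638a9, 2, 0),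
    (0x5a69ab230539b243e8b31ca418457, 880, 0x48a72a14647b1465b517ac0e00da2e, 1, 0),
    (0x5a69ab230539b243e8b31ca418457, 1046, 0x7290594c246b0f4b3cd15dc43042a9, 1, 0),
    (0x5a69ab230539b243e8b31ca418457, 1062, 0xa05f66944ab8c064ae2eac08764913, 1, 0),
    (0x5a69ab230539b243e8b31ca418457, 1074, 0xa81a57b82293069a20d3bad4725a30, 1, 0),
    (0x5a69ab230539b243e8b31ca418457, 1076, 0x585d72a40298d466a2357c1843ca96, 2, 0),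
    (0x5a69ab230539b243e8b31ca418457, 1091, 0xa14ed55d8ba81d14cd0610c3624a0f, 3, 0),
    (0x5a69ab230539b243e8b31ca418457, 1093, 0x1925481c018b2ca45ded4996e2cea2, 3, 0),
    (0x5a69ab230539b243e8b31ca418457, 1105, 0x3068878960ad98354da7940a4746e9, 3, 0),
    (0x5a69ab230539b243e8b31ca418457, 1111, 0x39677ac880a599033e291882b721aa, 3, 0),
    (0x5a69ab230539b243e8b31ca418457, 1121, 0x3aee389acc791c94504dacc012ca0a, 3, 0),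
    (0x5a69ab230539b243e8b31ca418457, 1127, 0x30228bcc8ba3ad583db23a98128c49, 3, 0),
    (0x5a69ab230539b243e8b31ca418457, 1139, 0x3ac75120a04b08d89a77942ce0be8a, 3, 0),
    (0x5a69ab230539b243e8b31ca418457, 1411, 0x832ed5d88a48451939e89d007198b5, 1, 0),
    (0x5a69ab230539b243e8b31ca418457, 1425, 0x83166bcce190d54720a96bc0415a35, 1, 0),
    (0x5a69ab230539b243e8b31ca418457, 1431, 0x7b1c84c4e0810762d646bac4a0d26d, 1, 0),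
    (0x5a69ab230539b243e8b31ca418457, 1441, 0xa320e7d80788d4b4dca69a024136b2, 2, 0),
    (0x5a69ab230539b243e8b31ca418457, 1447, 0xa8de96948140146a49d3b45823aef0, 1, 0),
    (0x5a69ab230539b243e8b31ca418457, 1461, 0x40a0dad08c28c13899f64b8e155d72, 1, 0),
    (0x5a69ab230539b243e8b31ca418457, 1474, 0x8da8a7b42c99408154e34988e5c257, 3, 0),
    (0x5a69ab230539b243e8b31ca418457, 1476, 0x539b242425a81861ce027d2c45c6e7, 3, 0),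
    (0x5a69ab230539b243e8b31ca418457, 1488, 0x79069134aeab168bccd1942c009d54, 3, 0),
    (0x5a69ab230539b243e8b31ca418457, 1494, 0x48671ab58b3b8087aaf4848b620866, 3, 0),
    (0x5a69ab230539b243e8b31ca418457, 1510, 0x380531a18b315cd8a6b784824b3e8a, 3, 0),
    (0x5a69ab230539b243e8b31ca418457, 1522, 0x786478098e4aca3b995143480b5674, 3, 0),
    (0x5a69ab230539b243e8b31ca418457, 1524, 0xa12a89c980885d01dda249acb2a8ef, 3, 0),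
    (0x5a69ab230539b243e8b31ca418457, 1666, 0x92d3530c047bac2bd27151cac0a1b0, 3, 0),
    (0x5a69ab230539b243e8b31ca418457, 1668, 0x7bae78a08c9940d155439403659934, 3, 0),
    (0x5a69ab230539b243e8b31ca418457, 1680, 0x6b1573bca413ad498e353240b0ca08, 3, 0),
    (0x5a69ab230539b243e8b31ca418457, 1686, 0x8ba0a9558b784934d0e610ec02b517, 3, 0),
    (0x5a69ab230539b243e8b31ca418457, 1696, 0x38071124259bac66d6e87d1845ca0a, 3, 0),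
    (0x5a69ab230539b243e8b31ca418457, 1702, 0x42e67a88a448583b99517d1d60424d, 3, 0),
    (0x5a69ab230539b243e8b31ca418457, 1714, 0xaae1791c24695caa222f10ec061933, 3, 0),
    (0x5a69ab230539b243e8b31ca418457, 1733, 0xa853174d8391c945a2d77b440518b0, 1, 0),
    (0x5a69ab230539b243e8b31ca418457, 1745, 0xa10b735402b28707c56d4b8ec0c913, 1, 0),
    (0x5a69ab230539b243e8b31ca418457, 1751, 0x2868e9c9446b0088bd36bac433c2a6, 1, 0),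
    (0x5a69ab230539b243e8b31ca418457, 1781, 0xa01a6ad8678308b43d3371422546f2, 2, 0),
    (0x5a69ab230539b243e8b31ca418457, 1795, 0x4b251850166b82f522e710d6525666, 3, 0),
    (0x5a69ab230539b243e8b31ca418457, 1797, 0x6b922351858900f9dc7551d61b4248, 3, 0),
    (0x5a69ab230539b243e8b31ca418457, 1809, 0x1961492acbbb807445ed4982c25662, 3, 0),
    (0x5a69ab230539b243e8b31ca418457, 1815, 0x115e7a4acc885d0add536a0045a4c3, 3, 0),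
    (0x5a69ab230539b243e8b31ca418457, 1831, 0xa85a7408967b8a3951508dc0c5a4d3, 3, 0),
    (0x5a69ab230539b243e8b31ca418457, 1843, 0x116ed8c02ca5892abd133a80e59923, 3, 0),
    (0x5a69ab230539b243e8b31ca418457, 1845, 0xa820f920241b0ad30a893a976746f3, 3, 0),
    (0x5a69ab230539b243e8b31ca418457, 1858, 0xb02979a024a8cf24c16e2984c535f1, 1, 0),
    (0x5a69ab230539b243e8b31ca418457, 1860, 0x3325343883808e98d6966bd4105d65, 1, 0),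
    (0x5a69ab230539b243e8b31ca418457, 1878, 0x9096db980381c85755e98d82c55268, 1, 0),
    (0x5a69ab230539b243e8b31ca418457, 1888, 0x784ce4d5474004d5ccb6a486c25e30, 2, 0),
    (0x5a69ab230539b243e8b31ca418457, 1906, 0x48172bd58268490a3d133146a3c6ce, 1, 0),
    (0x5a69ab230539b243e8b31ca418457, 1908, 0x7aab284c0c28c944990e8d8e115d6d, 1, 0),
    (0x46954b2ce3c0b241a6b7a9a320457, 37, 0x7d4e164a744c0c8538628d8b75808d, 6, 0),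
    (0x46954b2ce3c0b241a6b7a9a320457, 49, 0x7d4f1bd2705c9c810143b05852192d, 4, 0),
    (0x46954b2ce3c0b241a6b7a9a320457, 85, 0x5a485600c368ae1821d27d1478d676, 4, 0),
    (0x46954b2ce3c0b241a6b7a9a320457, 100, 0xa40205b6537544fb96ca610664c4e8, 4, 0),
    (0x46954b2ce3c0b241a6b7a9a320457, 112, 0x1d77308237310aaa4b3b464d7c284, 6, 0),
    (0x46954b2ce3c0b241a6b7a9a320457, 385, 0x2382760ac9944ca83c74434abbcea0, 6, 0),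
    (0x46954b2ce3c0b241a6b7a9a320457, 405, 0x5b4f1501f462201312e971653a8c56, 4, 0),
    (0x46954b2ce3c0b241a6b7a9a320457, 420, 0x1c9af426155cce628684b023753982, 4, 0),
    (0x46954b2ce3c0b241a6b7a9a320457, 432, 0x490e11b802828d67cd8da54abbc911, 6, 0),
    (0x46954b2ce3c0b241a6b7a9a320457, 448, 0x28d578b846a266c0b4e043eb285964, 4, 0),
    (0x46954b2ce3c0b241a6b7a9a320457, 497, 0x92627bd4c3089b32ad44059f443990, 4, 0),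
    (0x46954b2ce3c0b241a6b7a9a320457, 641, 0xba0a471e8f4b6d1a899330d610424a, 4, 0),
    (0x46954b2ce3c0b241a6b7a9a320457, 661, 0x4b275a586169eee14a0a7a16629011, 6, 0),
    (0x46954b2ce3c0b241a6b7a9a320457, 676, 0x7a4a6bca360b80880d743b0825566d, 6, 0),
    (0x46954b2ce3c0b241a6b7a9a320457, 688, 0x555ed41e702cad11b282239600a4d7, 4, 0),
    (0x46954b2ce3c0b241a6b7a9a320457, 704, 0xbce29716b47c06614aca6a1813808b, 6, 0),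
    (0x46954b2ce3c0b241a6b7a9a320457, 724, 0x6c443320f772a74b112b616b28040f, 4, 0),
    (0x46954b2ce3c0b241a6b7a9a320457, 741, 0x254c913270b49ae38471581e8a5d45, 4, 0),
    (0x46954b2ce3c0b241a6b7a9a320457, 753, 0x691d64a00a8099235625a4c613aeef, 6, 0),
    (0x46954b2ce3c0b241a6b7a9a320457, 788, 0x92420b4cc2a0d953b57143dc42dd50, 4, 0),
    (0x46954b2ce3c0b241a6b7a9a320457, 805, 0xd18e2ad0f9b4d6bc08aac92311e20, 4, 0),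
    (0x46954b2ce3c0b241a6b7a9a320457, 817, 0xb4c271a6b0950115b59743c82518ae, 6, 0),
    (0x46954b2ce3c0b241a6b7a9a320457, 833, 0x5cc62486b274140a10c8616e78b5f6, 4, 0),
    (0x46954b2ce3c0b241a6b7a9a320457, 853, 0x331ed92c67b06771250a746b480085, 6, 0),
    (0x46954b2ce3c0b241a6b7a9a320457, 880, 0x505af4441692d2764e8e854c3110b7, 4, 0),
    (0x46954b2ce3c0b241a6b7a9a320457, 1029, 0xad1578c10f1b4920a4e0118ac75973, 4, 0),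
    (0x46954b2ce3c0b241a6b7a9a320457, 1041, 0x105d6890e36b200321257ca959dd6a, 6, 0),
    (0x46954b2ce3c0b241a6b7a9a320457, 1076, 0x4d0ae899b2055f638ee408a089b14b, 5, 0),
    (0x46954b2ce3c0b241a6b7a9a320457, 1092, 0x2c48055d3663a8b9044819e13abda6, 6, 0),
    (0x46954b2ce3c0b241a6b7a9a320457, 1104, 0x83c01b4da8bd1356456e51cc3110b2, 4, 0),
    (0x46954b2ce3c0b241a6b7a9a320457, 1121, 0x9a7582d23209163ba512b28d7dd40, 4, 0),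
    (0x46954b2ce3c0b241a6b7a9a320457, 1412, 0x9531730cb7dc83a22d06c80a14ea7, 6, 0),
    (0x46954b2ce3c0b241a6b7a9a320457, 1424, 0x114f1ba48e032a66ad4f0da7095103, 4, 0),
    (0x46954b2ce3c0b241a6b7a9a320457, 1441, 0xcc8565ab0bc9eb4c5c651da8a0860, 4, 0),
    (0x46954b2ce3c0b241a6b7a9a320457, 1461, 0x649420050f4b6875b8978da15998a3, 6, 0),
    (0x46954b2ce3c0b241a6b7a9a320457, 1477, 0x3ae50aaac1480b740e743088e63db1, 4, 0),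
    (0x46954b2ce3c0b241a6b7a9a320457, 1524, 0x72627514c278e640a2e06d2b28596c, 4, 0),
    (0x46954b2ce3c0b241a6b7a9a320457, 1668, 0x7dca472147845744d58694ec00886d, 4, 0),
    (0x46954b2ce3c0b241a6b7a9a320457, 1680, 0x8cab3a590d53c2e59217100e3614c9, 6, 0),
    (0x46954b2ce3c0b241a6b7a9a320457, 1697, 0x2aa487dc40a11cb655a384ec9884e6, 6, 0),
    (0x46954b2ce3c0b241a6b7a9a320457, 1717, 0xa467583cf70a92d2da4402cc21b1c8, 4, 0),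
    (0x46954b2ce3c0b241a6b7a9a320457, 1733, 0x120a65924f0b6808b2e938e13abaca, 6, 0),
    (0x46954b2ce3c0b241a6b7a9a320457, 1745, 0xba1261c68d0be472584502e13ab98a, 4, 0),
    (0x46954b2ce3c0b241a6b7a9a320457, 1760, 0x548c91c6157cc875d0566a0ae60417, 4, 0),
    (0x46954b2ce3c0b241a6b7a9a320457, 1780, 0x8b0c55b86111eb6412f25027483da9, 6, 0),
    (0x46954b2ce3c0b241a6b7a9a320457, 1797, 0x686ce4c8e3030a898a35228d75c28f, 6, 0),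
    (0x46954b2ce3c0b241a6b7a9a320457, 1809, 0xb2b3859c55106b69e4fbc44932280, 4, 0),
    (0x46954b2ce3c0b241a6b7a9a320457, 1824, 0x80820b5469a18938b56743cac72af2, 4, 0),
    (0x46954b2ce3c0b241a6b7a9a320457, 1860, 0x8ae887aac0804d7255a594d221b1c7, 4, 0),
    (0x46954b2ce3c0b241a6b7a9a320457, 1889, 0x3b4a65b1f202123a0af022a2eb5661, 6, 0),
    (0x46954b2ce3c0b241a6b7a9a320457, 1909, 0x4cacb08a13bd4a369c0f5448e65106, 4, 0)]⟩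

end Cfsg.Agent.J4Type.Order
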