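import Cfsg.Agent.Lib.J4Type.Order.Stab

/-
Groups of Janko-four type, order formula: lists of the involutions of the stabiliser of a point of the cocode
(owner: helper43; generated).
-/

set_option autoImplicit false
set_option maxRecDepth 100000

namespace Cfsg.Agent.J4Type.Order

def xT : ℕ := 1141

def rowT0 : Row :=
  ⟨0xbdab49ca307b9ac5a928398a418820, 1,
   [(0x21e58098b184d222ab1b4da971e97, 0x1d2133113a8cb1828961368b7c9d7),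
    (0x3cb181e4a1b0265d9a823aa29d137, 0x28a21c693b192e5c028932a7791b7)],
   [(0xbdab49ca307b9ac5a928398a418820, []),
    (0xb9e086be3593a6952d94b10a618820, [[[0,1]],
      [[0,1],[0,1]],
      [[0,1],[0,1],[0,1],[0,1]],
      [[0,1],[0,1],[0,1],[0,1],[0,1],[0,1],[0,1],[0,1]],
      [[0,1],[0,1],[0,1],[0,1],[0,1],[0,1],[0,1],[0,1],[0,1],[0,1],[0,1],[0,1],[0,1],[0,1],[0,1],[0,1]],
      [[0,1],[0,1],[0,1],[0,1],[0,1],[0,1],[0,1],[0,1],[0,1],[0,1],[0,1],[0,1],[0,1],[0,1],[0,1],[0,1],[0,1],[0,1],[0,1],[0,1],[0,1],[0,1],[0,1],[0,1],[0,1],[0,1],[0,1],[0,1],[0,1],[0,1],[0,1],[0]],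
      [[0,1],[0,1],[0,1],[0,1],[1],[0,1],[0],[0,1],[0,1],[0,1],[0,1],[0,1],[0,1],[0,1],[0,1],[0,1],[0],[0,1],[0],[0],[0,1],[0,1],[0,1],[0,1],[0,1],[0,1],[0,1],[0,1],[0,1],[0,1],[1],[],[0,1],[0,1],[0,1],[0,1],[0,1],[0,1],[0,1],[0,1],[0,1],[0,1],[0,1],[0,1],[0,1],[0],[0],[0,1],[0,1],[0,1],[0,1],[1],[0,1],[0,1],[0,1],[0,1],[0,1],[1],[0,1],[0,1],[0,1],[0,1],[0,1]],
      [[0,1],[1],[0,1],[],[0,1],[0],[0,1],[0],[0,1],[0],[0,1],[0,1],[0,1],[1],[0,1],[0],[0,1],[1],[0,1],[0,1],[0,1],[0,1],[0,1],[1],[0,1],[0,1],[0,1],[1],[0,1],[],[0],[0,1],[0,1],[0,1],[1],[0,1],[0,1],[0,1],[0,1],[0,1],[0,1],[0,1],[0,1],[0,1],[0,1],[0,1],[],[0,1],[0,1],[0,1],[0,1],[0,1],[0,1],[0,1],[0,1],[0,1],[0,1],[1],[0,1],[0,1],[0,1],[0,1],[0],[0,1],[0,1],[1],[0,1],[0,1],[1],[0,1],[1],[0,1],[0,1],[0],[0,1],[0,1],[0,1],[0,1],[0,1],[0],[0,1],[0,1],[1],[0,1],[0,1],[0],[0,1],[0,1],[0,1],[1],[0],[0,1],[0,1],[0],[0,1],[0,1],[0,1],[0,1],[0,1],[0,1],[0,1],[0,1],[1],[0],[0,1],[0,1],[0],[0],[0,1],[1],[0,1],[],[0,1],[]],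
      [[0,1],[0,1],[0],[0,1],[0],[0,1],[0,1],[0],[0,1],[0,1],[],[0,1],[0,1],[0],[0,1],[0,1],[1],[0,1],[0],[0],[],[0,1],[0,1],[0],[0,1],[0,1],[1],[0],[0],[],[0,1],[0],[0,1],[0,1],[],[0,1],[1],[0,1],[0,1],[0,1],[0,1],[1],[0,1],[0,1],[0,1],[1],[0,1],[0,1],[0,1],[0,1],[0],[1],[],[0],[0,1],[1],[0,1],[0],[1],[],[0],[0,1],[0,1],[1],[0,1],[0],[0,1],[1],[0],[0,1],[0],[0,1],[0],[0,1],[0,1],[1],[0],[0],[1],[0,1],[0],[0,1],[0,1],[0,1],[],[0],[0,1],[0,1],[],[0,1],[0],[1],[],[0,1],[0,1],[],[0,1],[0,1],[0,1],[0],[0,1],[],[1],[0,1],[0],[0,1],[0,1],[0,1],[0,1],[0],[0,1],[],[1],[0,1],[0,1],[0,1],[1],[0,1],[0,1],[0,1],[0,1],[0],[0,1],[],[0,1],[1],[0,1],[0],[0,1],[0,1],[0,1],[0],[],[0],[0,1],[0,1],[1],[],[0,1],[0],[0,1],[],[],[0],[0],[0],[],[1],[0],[1],[0,1],[0],[0,1],[1],[1],[0],[0],[0],[1],[0,1],[0,1],[0,1],[0],[0,1],[1],[0,1],[0,1],[0,1],[0],[0],[0],[0],[],[0,1],[1],[0,1],[0],[0],[0,1],[0,1],[0,1],[0],[1],[0],[1],[0,1],[0,1],[1],[0,1],[1]],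
      [[1],[1],[0,1],[0],[1],[0],[0,1],[0],[0],[1],[1],[0,1],[],[0],[1],[1],[0],[0,1],[0],[],[0,1],[1],[0,1],[0,1],[1],[0,1],[0,1],[0,1],[],[0],[],[],[0],[0,1],[0,1],[0],[0,1],[0],[1],[],[0,1],[1],[0,1],[],[0],[],[0],[0,1],[],[1],[],[],[0],[0],[0,1],[0,1],[0],[],[0,1],[1],[0],[1],[0,1],[0,1],[0,1],[0,1],[0,1],[0,1],[0,1],[0,1],[1],[1],[0,1],[],[0],[],[0,1],[0,1],[0,1],[1],[],[0],[0,1],[0],[0],[1],[0,1],[],[1],[],[1],[1],[0,1],[],[1],[0],[],[],[1],[0],[0,1],[1],[1],[0],[0],[0,1],[0],[0,1],[0],[0],[0],[0,1],[0],[],[],[],[1],[],[],[0,1],[0],[0,1],[0,1],[0],[0],[1],[],[0],[1],[],[],[1],[],[0,1],[],[],[0,1],[1],[1],[0],[0,1],[0,1],[0],[1],[1],[0,1],[0,1],[1],[0,1],[],[0],[],[1],[],[0],[0,1],[0],[0,1],[0,1],[1],[0,1],[1],[0],[0],[],[],[0,1],[0,1],[],[0],[1],[0,1],[1],[0],[1],[1],[0,1],[0,1],[],[1],[0,1],[1],[],[1],[1],[0],[0,1],[0,1],[1],[],[0,1],[0,1],[],[0],[0,1],[0],[1],[1],[0,1],[0,1],[],[],[0,1],[],[0,1],[1],[0,1],[0,1],[0],[1],[],[0,1],[],[0],[],[],[0],[0,1],[0],[0],[0,1],[0,1],[0,1],[1],[0,1],[],[0,1],[1],[1],[0],[],[0],[1],[],[],[1],[0,1],[],[0],[1],[0,1],[0],[0,1],[1],[1],[],[1],[],[1],[0],[],[0],[],[],[0,1],[0,1],[0],[0,1],[0],[0,1],[1],[],[1],[],[0]],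
      [[0,1],[],[],[0,1],[0,1],[0],[],[],[],[],[],[],[0],[],[0,1],[0],[0],[],[0],[],[0,1],[],[1],[1],[0],[],[],[0],[1],[],[1],[0],[],[],[],[],[0],[],[0],[1],[0],[0,1],[],[],[1],[0,1],[0,1],[],[0],[1],[],[],[0],[],[],[],[],[],[1],[],[],[0],[],[1],[0],[0],[1],[],[],[],[0,1],[1],[1],[],[0],[0],[],[0,1],[1],[0],[1],[1],[0],[],[1],[],[0,1],[],[1],[],[0],[0],[],[],[0,1],[],[],[],[],[0],[0,1],[],[0,1],[],[],[0,1],[0],[],[],[],[0,1],[],[0],[],[],[],[0],[0],[],[],[0],[0],[1],[],[0,1],[],[1],[],[0],[0],[],[],[1],[1],[],[],[0,1],[],[0],[0,1],[1],[0],[0,1],[0,1],[],[],[],[],[],[],[],[],[],[0],[],[],[],[],[],[],[1],[0],[],[0],[],[0],[0],[0,1],[],[],[],[0],[1],[],[],[1],[],[0,1],[],[],[1],[0],[1],[],[],[],[1],[],[],[],[],[0],[],[],[0,1],[],[],[],[0],[],[],[],[0],[],[0],[1],[],[],[0],[0],[],[0],[],[],[],[],[],[1],[],[],[],[],[],[1],[],[],[],[],[],[],[],[1],[1],[0],[],[],[1],[],[],[0],[],[],[],[1],[0],[1],[],[],[],[1],[],[],[],[],[0],[],[],[1],[],[],[],[1],[],[],[],[0],[],[0],[],[],[],[],[0],[],[0,1],[],[],[],[1],[],[],[],[],[],[],[],[],[0]],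
      [[],[],[],[1],[1],[],[0,1],[],[0],[],[],[],[],[],[],[0,1],[],[],[],[],[],[0],[],[],[],[],[],[],[1],[],[],[1],[],[],[],[],[],[],[],[],[],[],[0],[],[],[],[],[],[],[],[],[],[],[],[1],[0],[0,1],[],[],[],[],[1],[],[],[],[],[0],[],[1],[0],[0],[],[],[0,1],[],[],[],[],[],[],[],[],[],[],[],[],[],[],[],[1],[],[],[],[],[],[],[],[],[],[],[0],[],[],[],[],[],[],[],[],[],[],[],[],[],[],[],[],[],[],[],[],[],[],[],[],[],[],[],[],[],[],[],[],[],[],[],[],[],[],[],[],[],[],[1],[]],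
      [[1],[],[],[],[0],[],[],[],[],[],[],[],[],[],[],[],[],[],[],[],[],[],[],[],[]]]),
    (0x4133a31d63c5b259aa87a8a418837, [[[0,1]],
      [[0,1],[0,1]],
      [[0,1],[0],[0,1],[0,1]],
      [[0,1],[0,1],[0],[0],[0],[0,1],[0,1]],
      [[0,1],[0,1],[0,1],[0],[0],[0,1],[0,1],[0,1],[0,1],[0,1],[0,1]],
      [[0,1],[0,1],[0,1],[0],[1],[0,1],[0,1],[0,1],[0,1],[0,1],[0,1],[0],[0,1],[0,1],[0,1],[0],[0,1],[1],[0,1],[0]],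
      [[],[0,1],[0,1],[0,1],[0,1],[0,1],[0,1],[0,1],[0,1],[1],[1],[0],[0,1],[0,1],[0,1],[1],[0,1],[0,1],[1],[0,1],[0,1],[0,1],[1],[0,1],[0,1],[0,1],[],[0,1],[0,1],[0],[0,1],[0],[0,1],[0,1]],
      [[0,1],[0],[0,1],[0,1],[0],[0,1],[0],[0,1],[0,1],[0],[0,1],[],[0,1],[0,1],[0,1],[0,1],[0,1],[0,1],[],[0,1],[1],[],[],[],[],[],[0,1],[1],[1],[],[0,1],[1],[],[0],[],[0],[0,1],[0,1],[],[0,1],[0,1],[0],[0],[0],[0,1],[0],[0],[],[0,1],[0,1],[0,1],[1],[0,1],[0],[0,1],[]],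
      [[],[],[0],[],[1],[0,1],[],[0],[0,1],[0,1],[0],[1],[0,1],[0],[1],[0,1],[0,1],[0],[0,1],[1],[1],[0],[],[0,1],[1],[0,1],[1],[],[0,1],[],[0,1],[0,1],[0],[1],[0],[],[],[],[1],[0],[1],[0,1],[0],[0],[],[0],[0,1],[],[0,1],[0],[0,1],[0],[1],[0,1],[0],[0],[0],[],[],[1],[0,1],[],[0,1],[],[0],[],[0,1],[0],[0,1]],
      [[],[0],[1],[0],[0,1],[1],[1],[0,1],[],[0],[],[0,1],[],[0],[1],[1],[],[0,1],[],[0,1],[],[],[0],[0],[],[1],[],[],[0,1],[],[],[],[],[0,1],[],[],[0],[],[],[],[],[0],[],[0,1],[1],[1],[0],[],[],[],[],[],[],[1],[1],[],[],[],[],[1],[],[],[0],[],[0,1],[],[],[],[],[],[0],[],[]],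
      [[1],[],[],[0],[],[1],[],[0],[],[0],[],[1],[1],[],[],[],[0],[],[],[],[],[],[0,1],[],[],[],[],[],[],[0,1],[],[],[],[],[],[],[],[],[],[]],
      [[],[1],[],[],[],[],[],[],[],[],[],[]]]),
    (0x46954b2ce3c0b241a6b7a9a320457, [[[0,1]],
      [[0,1],[0,1]],
      [[0,1],[0,1],[0,1],[0,1]],
      [[0,1],[0,1],[0,1],[0],[0,1],[0,1],[0,1],[0,1]],
      [[0,1],[0,1],[0,1],[0,1],[0,1],[0,1],[0,1],[0,1],[0,1],[0,1],[0],[0,1],[0,1],[0,1],[0,1]],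
      [[0,1],[0,1],[0,1],[0,1],[0,1],[0,1],[0,1],[0,1],[0,1],[0,1],[0,1],[0,1],[0,1],[0,1],[0,1],[0,1],[0,1],[0,1],[0,1],[0,1],[0,1],[0,1],[0,1],[0,1],[0,1],[0,1],[0,1],[0,1],[0]],
      [[0,1],[1],[0,1],[0,1],[0,1],[0,1],[0,1],[0,1],[0],[0,1],[0,1],[0,1],[0,1],[0,1],[0,1],[0,1],[0,1],[0,1],[0,1],[0,1],[0],[0,1],[0,1],[0,1],[0,1],[0,1],[0,1],[0,1],[0,1],[0,1],[0,1],[0,1],[0,1],[0,1],[0,1],[0,1],[0,1],[0],[0,1],[0,1],[0,1],[0,1],[0,1],[0,1],[1],[0,1],[0,1],[0,1],[0],[0,1],[0,1],[0,1],[0,1],[0,1],[0,1],[0,1],[1]],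
      [[0,1],[0,1],[0,1],[0,1],[0,1],[0,1],[0,1],[0,1],[0,1],[0,1],[0,1],[0,1],[0,1],[0,1],[0],[0,1],[0,1],[0,1],[0,1],[1],[0,1],[0,1],[0],[0,1],[0],[0,1],[0,1],[0,1],[0],[0],[0,1],[0,1],[0,1],[0,1],[0,1],[0],[0,1],[0,1],[0,1],[0,1],[1],[0,1],[0,1],[0,1],[0,1],[0,1],[0,1],[0,1],[0,1],[0,1],[0,1],[0,1],[0,1],[0,1],[0,1],[0,1],[0],[0,1],[],[0,1],[0,1],[0],[0,1],[0,1],[0,1],[1],[0,1],[0,1],[0],[0,1],[0,1],[0,1],[0,1],[0,1],[0,1],[0,1],[0],[0,1],[0,1],[0,1],[0],[0,1],[0,1],[0],[0,1],[0,1],[0,1],[0,1],[0,1],[0,1],[0,1],[0,1],[0,1],[0,1],[0],[0],[0,1],[0,1],[0,1],[0,1],[0,1],[1],[0,1],[0],[0,1],[0,1],[0,1]],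
      [[0,1],[0,1],[0,1],[0],[0,1],[0,1],[0,1],[1],[0,1],[1],[0,1],[0,1],[0,1],[0,1],[1],[0,1],[0,1],[0,1],[0,1],[0,1],[0],[0,1],[0,1],[0,1],[0,1],[0,1],[],[0,1],[0,1],[0,1],[0,1],[0,1],[0,1],[0,1],[0,1],[0,1],[0,1],[0,1],[0,1],[0],[0,1],[0,1],[0],[0,1],[0,1],[0,1],[0,1],[0,1],[0,1],[0],[0,1],[0],[0,1],[0],[0,1],[0,1],[0],[0,1],[0,1],[0,1],[1],[0,1],[1],[0,1],[0],[0,1],[0,1],[0,1],[0,1],[0],[0],[0,1],[1],[0,1],[],[0],[0],[0,1],[1],[0,1],[0],[0],[0,1],[0],[1],[0],[0,1],[0,1],[0,1],[0,1],[0,1],[0,1],[0,1],[0],[0,1],[0,1],[0,1],[0,1],[0,1],[0,1],[0,1],[0,1],[0,1],[0,1],[0,1],[0,1],[0,1],[0,1],[0,1],[0,1],[],[0,1],[0],[1],[1],[],[0,1],[1],[0,1],[0,1],[0,1],[0,1],[0,1],[0],[0],[0,1],[0,1],[0,1],[1],[0],[0],[0],[1],[0,1],[1],[1],[0,1],[],[0,1],[0,1],[0,1],[0,1],[0,1],[0],[1],[1],[0,1],[0,1],[],[1],[0],[0],[0],[0],[],[0,1],[0,1],[0,1],[1],[1],[0,1],[0,1],[1],[0,1],[],[1],[0,1],[0,1],[0],[],[0],[0],[0,1],[0,1],[0],[0,1],[0,1],[1],[0],[0],[0],[],[1],[0,1],[1],[0,1],[0],[0,1],[0],[0,1],[0,1],[],[0,1]],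
      [[0,1],[0,1],[0,1],[1],[0,1],[0,1],[0],[0,1],[0],[],[0],[0,1],[1],[1],[0,1],[0,1],[0,1],[1],[],[0,1],[],[0,1],[1],[0,1],[],[0,1],[0,1],[0,1],[0,1],[],[0],[1],[0],[0],[0,1],[0,1],[0],[1],[0,1],[0],[0],[],[0,1],[1],[1],[0],[0,1],[],[0,1],[0,1],[0],[],[0,1],[],[1],[0,1],[1],[0,1],[0],[],[],[],[0,1],[0],[0,1],[1],[1],[0,1],[0,1],[1],[0],[0,1],[0],[0,1],[0,1],[],[0,1],[1],[0,1],[],[0,1],[],[0,1],[0],[0,1],[0,1],[1],[1],[0,1],[0],[0,1],[1],[0],[1],[0,1],[0,1],[1],[0],[0,1],[],[1],[0,1],[],[],[0,1],[1],[0],[0,1],[0],[0,1],[],[],[],[0],[1],[0,1],[0,1],[1],[0,1],[],[1],[],[0],[0,1],[0,1],[0,1],[1],[0],[0,1],[1],[1],[0,1],[],[0],[],[],[0,1],[0],[0,1],[1],[0,1],[0,1],[1],[0],[0],[1],[],[0],[0],[],[],[0,1],[0,1],[1],[1],[0],[0,1],[1],[],[0],[0],[0,1],[0,1],[],[],[0],[0],[0,1],[0,1],[0],[0,1],[1],[0,1],[0,1],[0,1]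,[1],[],[0],[0,1],[],[0,1],[1],[],[0,1],[],[],[0,1],[1],[0],[],[],[0,1],[],[0,1],[0,1],[0,1],[0],[1],[0,1],[0,1],[0,1],[0],[],[],[1],[0],[0],[1],[],[0,1],[0],[0],[],[0,1],[1],[1],[0],[0,1],[],[0,1],[0],[0,1],[1],[1],[1],[],[1],[0,1],[0],[0,1],[1],[0],[0,1],[0],[0,1],[0,1],[0,1],[0],[],[0,1],[],[],[0,1],[0,1],[],[0,1],[0,1],[],[0],[],[1],[],[],[0,1],[1],[0],[0],[1],[0,1],[0,1],[1],[],[1],[0,1],[0],[1],[],[1],[],[1],[],[0],[1],[0],[0],[1],[1],[0,1],[],[],[],[0,1],[],[],[1],[],[1],[],[0],[],[1],[],[1],[1],[],[0],[0],[0,1],[],[],[1]],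
      [[],[1],[0],[0],[1],[0],[0],[1],[],[0,1],[1],[],[0,1],[1],[0],[],[0],[],[1],[0],[],[1],[1],[],[],[],[0],[],[0,1],[],[1],[0,1],[0],[0],[0,1],[],[1],[0],[0,1],[1],[0],[0],[1],[],[],[0],[],[1],[],[0,1],[],[0],[],[],[0],[],[1],[1],[1],[0,1],[],[],[1],[1],[0],[0,1],[0],[0,1],[0,1],[0],[1],[],[0],[],[],[0,1],[],[],[0],[0],[0],[0],[1],[0,1],[0,1],[1],[1],[0],[1],[1],[1],[0],[0],[0],[0,1],[1],[0,1],[1],[0,1],[0],[1],[0],[],[0,1],[0],[0],[],[1],[0],[],[1],[0],[0],[],[0],[0],[1],[1],[0,1],[1],[],[0,1],[0,1],[1],[1],[],[],[0,1],[0],[1],[],[],[1],[],[1],[0],[],[0],[0],[0],[],[1],[0],[1],[1],[0,1],[0,1],[],[],[],[1],[],[],[0],[0],[0],[],[0],[0,1],[],[1],[0],[0],[1],[0,1],[],[],[],[1],[],[],[],[1],[0],[],[0],[0,1],[1],[0],[1],[1],[0],[],[],[0],[],[0,1],[],[],[0],[0],[],[1],[],[],[],[],[0],[0,1],[],[],[],[],[0],[0],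[0],[],[0],[],[0,1],[],[1],[1],[1],[],[],[1],[],[1],[],[],[1],[1],[1],[],[],[1],[0],[0],[1],[],[0],[],[],[],[1],[1],[],[0],[0],[1],[1],[1],[],[0],[],[],[],[0,1],[],[],[],[0],[0,1],[],[1],[1],[0],[0,1],[],[],[1],[],[],[0],[],[],[],[],[],[0],[0],[],[],[],[1],[],[1],[],[0],[1],[],[0],[1],[],[1],[0],[],[],[],[],[0],[1],[],[1],[],[1],[],[],[1],[],[1],[],[],[],[0],[],[],[],[0,1],[],[],[],[],[],[],[],[0,1],[0,1],[1],[],[1],[],[1],[0],[1],[],[],[],[],[],[0,1],[],[1],[1],[],[0]],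
      [[0],[0,1],[],[1],[0],[],[],[1],[],[0,1],[],[],[],[1],[0],[],[1],[0,1],[],[1],[1],[],[1],[],[],[0],[1],[0,1],[],[],[],[],[],[0],[0,1],[],[0],[],[],[],[0],[],[1],[0,1],[0],[0,1],[],[],[],[],[],[],[],[],[0],[],[1],[],[1],[],[1],[],[],[],[],[0],[],[],[],[],[],[],[],[0,1],[1],[0],[],[],[],[],[0],[],[],[1],[0],[0],[],[1],[],[],[],[0],[],[],[],[],[1],[],[],[0],[],[],[0],[0,1],[],[],[],[],[],[0],[],[],[],[],[],[0],[],[],[],[],[],[],[],[],[],[1],[],[0],[],[],[1],[],[],[],[],[],[0,1],[],[],[0],[0],[1],[],[],[],[0],[0],[],[],[1],[1],[],[0],[0],[],[],[],[],[0],[],[],[],[1],[],[],[],[0],[],[],[0],[],[],[],[0],[],[],[],[1],[],[],[],[],[],[],[],[],[],[],[],[],[0],[],[1],[],[],[],[],[1],[],[],[],[1],[],[],[],[],[0],[],[],[],[],[],[0],[],[],[0],[0],[],[],[],[1],[],[1],[],[],[],[1],[],[],[],[1],[],[0],[],[],[],[]],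
      [[],[],[0],[],[],[],[],[],[],[1],[],[],[],[],[],[],[],[0],[],[],[],[],[],[],[],[1],[0],[],[],[],[0],[],[],[],[],[],[],[],[],[],[],[],[],[],[],[],[],[],[1],[],[],[],[],[],[],[],[],[],[],[1],[1],[],[],[],[],[],[],[],[],[],[],[],[],[],[],[],[],[],[],[],[],[],[],[],[],[]]])],
   []⟩

def rowT1 : Row :=
  ⟨0xb9e086be3593a6952d94b10a618820, 1155,
   [(0x35875184923972a21f69c235184b7, 0x208b3b0a64bad56ce0aa482f1c457),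
    (0x5a50a34af9b90a62575390261c457, 0x59137d45483a4b4b14d39226184b7),
    (0x216c21dcab08d093ea9a4e2d28477, 0x3d2732cac54494ac116934730b857)],
   [(0xbdab49ca307b9ac5a928398a418820, []),
    (0xb9e086be3593a6952d94b10a618820, []),
    (0xb99b28523343aaa4b16f258a718820, [[[0,2]],
      [[2],[0,1]]]),
    (0xbc92655a2c3b9706cea47d0a818820, [[[0,1,2]],
      [[0,2],[2],[0]]]),
    (0xbc533a4ace340ac59ea853da320820, [[[0,1,2]],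
      [[0,1,2],[0,1,2],[0,1,2]],
      [[0,1,2],[0,1,2],[0,1,2],[0,1,2],[0,2],[0,1,2],[0,1,2],[0],[0,1,2]],
      [[0,1,2],[0,1,2],[0,1,2],[0,2],[0,2],[0,1,2],[0,1,2],[0],[0,1,2],[0,2],[1,2],[0,1,2],[0,1,2],[0,1,2],[0,1],[1],[0,1,2],[1,2],[1,2],[1,2],[0,1,2],[0,2],[0,1],[0,1,2]],
      [[1,2],[0,1,2],[0,1],[0,2],[0,2],[0,1,2],[],[0],[0,1,2],[0,2],[0,1,2],[0,1],[0,1,2],[1],[1],[0,1,2],[1,2],[1,2],[1,2],[0,1,2],[0,2],[0],[0,1,2],[1],[0,1],[0],[1,2],[0],[0],[0,1,2],[0,2],[1,2],[0,1,2],[0,1],[1],[0,1],[1,2],[0,1],[0,2],[0],[0,1],[0,1,2],[0],[0,1,2],[0],[0,1,2],[0],[1,2],[],[],[0,1,2],[1,2],[0,1],[0,1],[2],[2],[1],[0,1]],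
      [[0,1,2],[2],[0,2],[0,2],[0,2],[0,1],[],[0],[2],[1],[2],[1],[1],[0,2],[1,2],[0],[0],[0,1],[1,2],[],[0,2],[0,1],[2],[0,2],[1,2],[0,1],[1],[0],[0,2],[0,2],[0,2],[0,1],[0,1,2],[0],[0,1,2],[0],[1,2],[0,1],[1,2],[],[],[0,2],[1,2],[0],[0,1],[],[1],[0,1],[],[2],[],[0],[],[2],[1,2],[2],[0],[0,1],[1],[],[1],[],[1,2],[],[],[0],[],[0],[2],[0],[1],[0,2],[0,1,2],[2],[],[],[0,1,2],[2],[1],[],[2],[1],[0,2],[],[2],[1],[2],[],[2],[],[],[0],[],[2],[0],[1],[],[],[1,2],[],[],[2],[],[0,1],[0],[],[],[1]],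
      [[],[],[],[1,2],[],[],[1],[0],[],[2],[2],[1],[],[2],[1],[0,1],[0],[0],[],[0,1,2],[],[0,2],[2],[0,1],[2],[],[],[1],[1,2],[1],[],[],[1],[],[1],[],[1],[],[],[2],[],[],[1,2],[],[],[2],[],[0,1],[],[2],[],[],[],[],[1],[1,2],[],[],[],[0],[0],[],[2],[],[],[],[1],[],[],[],[],[2],[1],[],[],[0],[],[],[],[2],[0,1],[2],[],[],[],[],[],[],[0,2],[2],[2],[],[],[],[],[],[0],[],[],[],[],[],[],[],[],[],[],[2],[],[],[],[],[2],[2],[],[],[],[],[],[],[]],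
      [[],[],[],[],[],[],[],[],[],[],[],[],[],[],[],[],[],[],[1],[],[],[],[],[],[],[],[],[],[],[2],[],[],[],[],[],[],[],[],[],[],[],[],[],[],[],[],[],[],[],[],[],[],[],[],[],[],[],[]]]),
    (0xbbaab9bda595a2aa310939a0320820, [[[0,1,2]],
      [[0,1,2],[0,1,2],[0,1,2]],
      [[0,1,2],[0,1,2],[0,1,2],[0,1,2],[0,2],[0,1,2],[0,1,2],[0,1],[0,1,2]],
      [[0,1,2],[1],[0,1,2],[0,2],[0,2],[0,1,2],[0,1],[1],[0,1,2],[0,2],[1,2],[0,2],[0,1,2],[0,1,2],[1,2],[1],[0,1],[1,2],[0,1],[0,2],[0,1],[0,2],[2],[0,1],[0,1,2]],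
      [[0,2],[0,1,2],[0],[0,2],[0,2],[0,1],[2],[0],[2],[0,2],[0,1,2],[0,1,2],[1],[1,2],[1],[0],[],[0,2],[0,1],[0,1],[1,2],[],[0],[2],[0,2],[0],[],[1,2],[0,1,2],[1,2],[1],[0],[0,1],[0],[2],[2],[0,1],[0,2],[1,2],[],[0],[0],[],[2],[],[],[0],[0],[0],[],[],[],[0,2]],
      [[1],[0],[],[],[1,2],[1,2],[],[],[],[1],[1,2],[],[0],[2],[0],[],[1,2],[],[],[1],[1],[],[1],[],[1],[1],[],[],[1,2],[0,1],[1],[],[2],[1],[],[],[],[2],[],[],[],[],[],[],[],[],[],[],[],[],[],[],[],[],[],[],[],[2],[],[],[],[],[],[0],[],[],[],[],[]],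
      [[],[2],[],[],[],[],[0],[],[],[],[],[],[],[0],[],[],[],[],[],[],[],[],[],[],[],[],[],[],[]]]),
    (0xbd8cf3b1d0a45b24254b9d46428820, [[[0,1,2]],
      [[0,1,2],[1,2],[0,1,2]],
      [[0,1,2],[0,1,2],[0,1,2],[2],[0,1,2],[0,1,2],[],[0,1,2]],
      [[0,1,2],[1,2],[0,2],[2],[2],[0,1,2],[],[],[0,1,2],[1,2],[],[],[0,1,2],[2],[1,2],[2],[],[1],[0,1,2]],
      [[2],[0,1,2],[0,1],[],[2],[],[0,1,2],[1,2],[0,1,2],[],[],[0,1,2],[],[],[0,1],[1],[0],[0],[],[1],[0,1,2],[],[0,2],[2],[2],[],[1],[]],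
      [[],[],[],[2],[],[],[2],[],[],[0],[],[],[],[],[0],[],[1],[],[],[],[],[],[],[],[],[],[],[],[],[],[],[]]]),
    (0xbda6aaacb048da8951ec31e2470820, [[[0,1,2]],
      [[0,1,2],[1,2],[0,1,2]],
      [[0,1,2],[0,1,2],[0,1,2],[2],[0,1],[0,1,2],[],[0,1]],
      [[0,1,2],[1],[0,2],[2],[2],[1,2],[],[],[0],[1],[],[],[],[1],[2],[],[]],
      [[],[0,1],[],[],[],[],[2],[1],[],[],[],[1],[],[]]]),
    (0xbad106be349166cb1d35519c410c20, [[[0,1,2]],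
      [[0,1,2],[0],[0,1]],
      [[0,1,2],[1,2],[1],[2],[0],[]],
      [[1,2],[0],[],[],[1],[],[],[2]],
      [[1],[],[],[],[]]]),
    (0xbc1679ca367b1aeaa0aaa0d2231020, [[[0,1,2]],
      [[0,1,2],[0,1,2],[0,1,2]],
      [[0,1,2],[0,1,2],[0,1],[1,2],[0,2],[0,1,2],[0,1,2],[],[0,1]],
      [[0,1,2],[0,1,2],[],[0],[0],[1],[0,1],[0],[1],[0,1],[0],[1,2],[],[1],[0,1,2],[1,2],[1],[0,2],[0,2],[0]],
      [[2],[0,1],[1,2],[2],[0,2],[1,2],[],[0,1],[1],[2],[1],[1,2],[0],[0,2],[1],[2],[],[],[0],[],[],[0],[],[0,1],[],[],[2],[],[0],[]],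
      [[],[0],[],[],[],[],[1,2],[],[1],[],[],[],[],[],[],[],[],[],[],[],[],[],[],[],[],[1],[],[]]]),
    (0xbd9f24522daa6035a9d3394c261020, [[[0,1,2]],
      [[0,1,2],[0,1],[0,1,2]],
      [[0,1,2],[0,1,2],[0,1,2],[0,1,2],[0,2],[],[0,1],[0,1,2]],
      [[1,2],[0],[0,1],[0,2],[],[1],[0],[1],[2],[],[],[0],[],[0],[1],[],[],[],[1]],
      [[1],[],[],[],[],[0],[],[],[],[],[],[],[],[],[]]]),
    (0xb9e9594e2868dec52d30b184471420, [[[0,1,2]],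
      [[1,2],[0],[0,1]],
      [[1,2],[1],[],[],[]]]),
    (0xbba69aca117d8ac42a8b399a320440, [[[0,1,2]],
      [[0,1,2],[0,1,2],[0,1,2]],
      [[0,1,2],[0,1,2],[0,1,2],[0,1,2],[0,2],[0,1,2],[0,1,2],[0,1],[0,1,2]],
      [[0,1,2],[1],[0,1,2],[0,2],[0,2],[0,1,2],[0,1],[1],[0,1,2],[0,2],[1,2],[0,2],[0,1,2],[0,1,2],[1,2],[1],[0,1],[1,2],[0,1],[0,2],[0,1],[0,2],[2],[0,1],[0,1,2]],
      [[0,2],[0,1,2],[0],[0,2],[0,2],[0,1],[2],[0],[2],[0,2],[0,1,2],[0,1,2],[1],[1,2],[1],[0],[],[0,2],[0,1],[0,1],[1,2],[],[0],[2],[0,2],[0],[],[1,2],[0,1,2],[1,2],[1],[0],[0,1],[0],[2],[2],[0,1],[0,2],[1,2],[],[0],[0],[],[2],[],[],[0],[0],[0],[],[],[],[0,2]],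
      [[1],[0],[],[],[1,2],[1,2],[],[],[],[1],[1,2],[],[0],[2],[0],[],[1,2],[],[],[1],[1],[],[1],[],[1],[1],[],[],[1,2],[0,1],[1],[],[2],[1],[],[],[],[2],[],[],[],[],[],[],[],[],[],[],[],[],[],[],[],[],[],[],[],[2],[],[],[],[],[],[0],[],[],[],[],[]],
      [[],[2],[],[],[],[],[0],[],[],[],[],[],[],[0],[],[],[],[],[],[],[],[],[],[],[],[],[],[],[]]]),
    (0xb9eb49c8cf8290c1b92db444159480, [[[0,1,2]],
      [[0,1,2],[0,1,2],[1,2]],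
      [[0,1,2],[0,1],[0,2],[0,2],[0],[0,2],[0],[0,1]],
      [[1,2],[0,2],[0,2],[2],[2],[2],[0,2],[2],[1,2],[1,2],[0],[2],[0],[],[]],
      [[1],[],[],[],[],[],[2],[],[],[],[],[],[],[],[],[],[],[],[]]]),
    (0x4133a31d63c5b259aa87a8a418837, [[[0,1,2]],
      [[0,1,2],[1,2],[0,2]],
      [[0,1,2],[1],[0,1,2],[2],[0,1],[0,1,2],[0,1,2]],
      [[0],[0,1],[1],[2],[0,1,2],[1],[0,2],[],[0,2],[],[],[],[0,1],[],[],[2]],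
      [[],[2],[],[],[1],[],[0],[],[],[],[],[],[2],[],[],[0]]]),
    (0x3ab49b211558b25bd2831da320837, [[[0,1,2]],
      [[0,1,2],[0,1,2],[0,1,2]],
      [[0,1,2],[0,1,2],[0,1,2],[0,1,2],[0,2],[0,1,2],[0,1,2],[0,1],[0,1,2]],
      [[0,1,2],[1],[0,1,2],[0,2],[0,2],[0,1,2],[0,1],[1],[0,1,2],[0,2],[1,2],[0,2],[0,1,2],[0,1,2],[1,2],[1],[0,1],[1,2],[0,1],[0,2],[0,1],[0,2],[2],[0,1],[0,1,2]],
      [[0,2],[0,1,2],[0],[0,2],[0,2],[0,1],[2],[0],[2],[0,2],[0,1,2],[0,1,2],[1],[1,2],[1],[0],[],[0,2],[0,1],[0,1],[1,2],[],[0],[2],[0,2],[0],[],[1,2],[0,1,2],[1,2],[1],[0],[0,1],[0],[2],[2],[0,1],[0,2],[1,2],[],[0],[0],[],[2],[],[],[0],[0],[0],[],[],[],[0,2]],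
      [[1],[0],[],[],[1,2],[1,2],[],[],[],[1],[1,2],[],[0],[2],[0],[],[1,2],[],[],[1],[1],[],[1],[],[1],[1],[],[],[1,2],[0,1],[1],[],[2],[1],[],[],[],[2],[],[],[],[],[],[],[],[],[],[],[],[],[],[],[],[],[],[],[],[2],[],[],[],[],[],[0],[],[],[],[],[]],
      [[],[2],[],[],[],[],[0],[],[],[],[],[],[],[0],[],[],[],[],[],[],[],[],[],[],[],[],[],[],[]]]),
    (0x5a72ad22d40e0952d8f398a470837, [[[0,2]],
      [[0,1,2],[0,1,2]],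
      [[2],[2],[2],[],[],[]]]),
    (0x59147ca309b1ae52c75394c249037, [[[0,1,2]],
      [[0,1,2],[0,1,2],[0,1,2]],
      [[0,2],[0,1,2],[1,2],[0,1,2],[0,2],[1,2],[0,1],[1],[0,2]],
      [[1,2],[],[0],[0],[1],[1],[0],[2],[],[0],[0],[2],[],[],[2],[],[0],[],[1]],
      [[1],[1],[],[],[],[],[],[],[],[],[],[],[],[]]]),
    (0x46954b2ce3c0b241a6b7a9a320457, [[[0,1,2]],
      [[0,1,2],[0,1,2],[0,1,2]],
      [[0,1,2],[0,1,2],[0,1,2],[0,1,2],[0,2],[0,1,2],[0,1,2],[0],[0,1,2]],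
      [[0,1,2],[0,1,2],[0,1,2],[0,2],[0,2],[0,1,2],[0,1,2],[0],[0,1,2],[0,2],[1,2],[0,1,2],[0,1,2],[0,1,2],[0,1],[1],[0,1,2],[1,2],[1,2],[1,2],[0,1,2],[0,2],[0,1],[0,1,2]],
      [[1,2],[0,1,2],[0,1],[0,2],[0,2],[0,1,2],[],[0],[0,1,2],[0,2],[0,1,2],[0,1],[0,1,2],[1],[1],[0,1,2],[1,2],[1,2],[1,2],[0,1,2],[0,2],[0],[0,1,2],[1],[0,1],[0],[1,2],[0],[0],[0,1,2],[0,2],[1,2],[0,1,2],[0,1],[1],[0,1],[1,2],[0,1],[0,2],[0],[0,1],[0,1,2],[0],[0,1,2],[0],[0,1,2],[0],[1,2],[],[],[0,1,2],[1,2],[0,1],[0,1],[2],[2],[1],[0,1]],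
      [[0,1,2],[2],[0,2],[0,2],[0,2],[0,1],[],[0],[2],[1],[2],[1],[1],[0,2],[1,2],[0],[0],[0,1],[1,2],[],[0,2],[0,1],[2],[0,2],[1,2],[0,1],[1],[0],[0,2],[0,2],[0,2],[0,1],[0,1,2],[0],[0,1,2],[0],[1,2],[0,1],[1,2],[],[],[0,2],[1,2],[0],[0,1],[],[1],[0,1],[],[2],[],[0],[],[2],[1,2],[2],[0],[0,1],[1],[],[1],[],[1,2],[],[],[0],[],[0],[2],[0],[1],[0,2],[0,1,2],[2],[],[],[0,1,2],[2],[1],[],[2],[1],[0,2],[],[2],[1],[2],[],[2],[],[],[0],[],[2],[0],[1],[],[],[1,2],[],[],[2],[],[0,1],[0],[],[],[1]],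
      [[],[],[],[1,2],[],[],[1],[0],[],[2],[2],[1],[],[2],[1],[0,1],[0],[0],[],[0,1,2],[],[0,2],[2],[0,1],[2],[],[],[1],[1,2],[1],[],[],[1],[],[1],[],[1],[],[],[2],[],[],[1,2],[],[],[2],[],[0,1],[],[2],[],[],[],[],[1],[1,2],[],[],[],[0],[0],[],[2],[],[],[],[1],[],[],[],[],[2],[1],[],[],[0],[],[],[],[2],[0,1],[2],[],[],[],[],[],[],[0,2],[2],[2],[],[],[],[],[],[0],[],[],[],[],[],[],[],[],[],[],[2],[],[],[],[],[2],[2],[],[],[],[],[],[],[]],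
      [[],[],[],[],[],[],[],[],[],[],[],[],[],[],[],[],[],[],[1],[],[],[],[],[],[],[],[],[],[],[2],[],[],[],[],[],[],[],[],[],[],[],[],[],[],[],[],[],[],[],[],[],[],[],[],[],[],[],[]]]),
    (0x3a68aa9a565a2f4c97431e0320457, [[[0,1,2]],
      [[0,1,2],[0,1,2],[0,1,2]],
      [[0,1,2],[0,1,2],[0,1,2],[0,1,2],[0,2],[0,1,2],[0,1,2],[0,1],[0,1,2]],
      [[0,1,2],[1],[0,1,2],[0,2],[0,2],[0,1,2],[0,1],[1],[0,1,2],[0,2],[1,2],[0,2],[0,1,2],[0,1,2],[1,2],[1],[0,1],[1,2],[0,1],[0,2],[0,1],[0,2],[2],[0,1],[0,1,2]],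
      [[0,2],[0,1,2],[0],[0,2],[0,2],[0,1],[2],[0],[2],[0,2],[0,1,2],[0,1,2],[1],[1,2],[1],[0],[],[0,2],[0,1],[0,1],[1,2],[],[0],[2],[0,2],[0],[],[1,2],[0,1,2],[1,2],[1],[0],[0,1],[0],[2],[2],[0,1],[0,2],[1,2],[],[0],[0],[],[2],[],[],[0],[0],[0],[],[],[],[0,2]],
      [[1],[0],[],[],[1,2],[1,2],[],[],[],[1],[1,2],[],[0],[2],[0],[],[1,2],[],[],[1],[1],[],[1],[],[1],[1],[],[],[1,2],[0,1],[1],[],[2],[1],[],[],[],[2],[],[],[],[],[],[],[],[],[],[],[],[],[],[],[],[],[],[],[],[2],[],[],[],[],[],[0],[],[],[],[],[]],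
      [[],[2],[],[],[],[],[0],[],[],[],[],[],[],[0],[],[],[],[],[],[],[],[],[],[],[],[],[],[],[]]]),
    (0x58ea349d04c5ac5d1e8acc6428457, [[[0,1,2]],
      [[0,2],[1,2],[1,2]],
      [[0,1,2],[1],[],[0,1],[],[]]]),
    (0x49f3a59ccac570698e44a86828457, [[[0,1,2]],
      [[0,2],[1,2],[0,1,2]],
      [[0,1,2],[0,1,2],[2],[0,1],[0,1,2],[1],[0,1,2]],
      [[0],[],[0,1],[0,2],[],[0,1,2],[1,2],[0,2],[],[2],[0,1,2],[1],[],[0],[1],[2]],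
      [[],[0],[],[],[],[],[],[],[],[],[],[],[],[],[],[],[],[],[],[]]]),
    (0x5aaf9a0b0a0dab6255239a2470457, [[[0,1,2]],
      [[0,2],[2],[0,1,2]],
      [[2],[2],[],[],[],[]]]),
    (0x1e126d0b540e6a4b16fb122670457, [[[0,1,2]],
      [[0,2],[2],[0,1,2]],
      [[2],[2],[],[],[],[]]]),
    (0x40e932cb650c8893e8cace2d70457, [[[0,1,2]],
      [[0,1,2],[1,2],[0,1]],
      [[2],[0,1,2],[1,2],[2],[0,1,2],[0],[]],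
      [[0],[],[2],[],[],[],[],[],[],[],[]]]),
    (0x22496556f828f38ba9668c4131497, [[[0,1,2]],
      [[0,1,2],[0,1,2],[0,1,2]],
      [[0,1,2],[0,1,2],[0,1,2],[0,1,2],[0],[1,2],[2],[0,1],[1]],
      [[0,1,2],[0,1,2],[0,1],[0,2],[0,2],[2],[0,1,2],[1],[0],[0,2],[1,2],[0,1],[1,2],[],[1],[0],[1,2],[2],[1]],
      [[0,1,2],[0,1,2],[0],[0],[0],[1],[2],[0,1],[2],[1],[],[1],[1],[2],[1],[],[0],[],[],[],[0],[],[],[],[],[1],[],[],[],[1],[],[2]],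
      [[0,1],[],[0],[],[0],[],[0],[0],[],[],[2],[],[],[],[],[],[],[],[],[],[],[],[],[1]]]),
    (0x1e72ad0c86ade970d90b444151497, [[[0,1,2]],
      [[0,1,2],[0,1,2],[1,2]],
      [[1,2],[0,1,2],[0,1],[0,1,2],[0],[0,2],[],[0,1,2]],
      [[0],[0,1,2],[2],[0,2],[0,1,2],[],[],[2],[2],[1,2],[1],[],[1,2],[],[],[1]],
      [[0],[],[],[0],[],[],[],[],[],[],[],[],[],[],[],[],[],[]]]),
    (0x314f2ba11a49363d5a358a6141897, [[[0,1,2]],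
      [[0,1,2],[0,1,2],[0,1,2]],
      [[0,1,2],[0,1,2],[0,1,2],[0,1,2],[0,2],[0,1,2],[0,1,2],[0,1],[1,2]],
      [[0,1,2],[0,1,2],[0,1,2],[0,2],[0,2],[0,1,2],[0,1,2],[0,1],[0,2],[0,2],[1,2],[1,2],[0,1,2],[1,2],[0,1,2],[1],[0,1,2],[1,2],[1,2],[0,1,2],[0,1,2],[0,2],[1],[0,1,2]],
      [[0,1,2],[0,1,2],[0,1,2],[0,2],[0,2],[0,1,2],[0,1,2],[0,1],[0,1,2],[0,2],[0,1,2],[0,1,2],[0,1,2],[0,1,2],[1],[0,2],[1,2],[0,1,2],[1,2],[1,2],[2],[0,2],[0,1,2],[1,2],[0],[0],[0,1],[0,1],[0,2],[0,2],[1,2],[0,1,2],[1],[],[1],[1,2],[0,1,2],[0],[0,2],[0,1],[0,1,2],[0],[0,1],[0],[0,2],[0],[1],[2],[2],[],[2],[],[0,1],[],[2],[],[0,1,2]],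
      [[0,1,2],[0,1,2],[0,1,2],[0,2],[0,2],[0,1,2],[0,1,2],[],[0,2],[0,2],[0,1],[1,2],[0,1],[0,1],[1],[0,2],[1],[0,1],[1,2],[0,1],[2],[0],[0],[0,1],[1,2],[0],[0,2],[0],[1,2],[0,2],[1,2],[1,2],[0,1,2],[],[1],[1,2],[0,1],[0,2],[0],[2],[1,2],[0,2],[],[0,2],[],[0,1],[1],[1],[],[2],[1],[1],[0],[2],[1],[0],[],[],[0,2],[0],[0],[1],[],[],[2],[1],[],[1],[],[],[2],[],[0],[],[0],[],[0,2],[],[],[1],[],[2],[0,1],[],[],[2],[1],[0,2],[2],[2],[1],[],[2],[],[],[],[],[1],[],[],[],[],[2],[],[]],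
      [[1,2],[0,1],[2],[0,2],[0,2],[],[0,1,2],[],[1],[0],[2],[1],[],[],[1],[2],[1,2],[],[2],[],[1],[1],[],[0,2],[0,1],[1],[1],[0,2],[1],[1,2],[1],[0],[0,2],[0],[0],[0,2],[0],[],[],[],[],[],[],[],[2],[1],[],[0],[2],[],[1],[0,2],[],[1],[],[],[],[1,2],[],[],[],[],[],[1],[0,2],[2],[],[],[],[],[],[1],[],[],[],[],[],[],[],[],[0],[],[],[],[],[],[0],[],[],[],[],[],[],[],[],[],[],[],[],[],[],[],[],[],[],[],[],[],[],[],[],[],[],[],[],[]],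
      [[0],[2],[2],[],[2],[],[],[],[2],[],[1],[],[],[1],[],[1],[],[],[],[],[],[],[],[],[],[],[],[],[],[],[],[],[],[],[],[],[],[],[],[],[],[0],[],[],[],[],[],[],[],[],[],[],[],[],[],[],[],[],[],[]]]),
    (0x3d6a70cc5b4ce9ad1826c60192097, [[[0,1,2]],
      [[0,1,2],[0,1,2],[0,1,2]],
      [[0,1,2],[1,2],[0,1,2],[0,1,2],[0,2],[0,2],[0,1,2],[0,1],[0,2]],
      [[0,1,2],[0,1,2],[0,1,2],[0,2],[0,2],[1,2],[0,1],[0,1,2],[0,2],[1,2],[1,2],[1,2],[0,1],[0,1],[0,1,2],[1,2],[0,2],[0,1,2],[2],[2],[0,2],[0,1,2]],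
      [[1],[0,2],[0,2],[0],[],[0,2],[],[0,1],[0,1,2],[1],[0,2],[2],[0,2],[0,1,2],[],[0,2],[0,2],[0,2],[0,1],[2],[1,2],[0,1],[],[1,2],[0],[1,2],[1,2],[2],[0,1],[1],[1,2],[1],[0,2],[0],[1],[],[1],[0,2],[1,2],[0],[1],[1,2],[0,1,2],[0],[1,2],[],[],[1],[0,2]],
      [[2],[2],[2],[1],[0],[],[1],[2],[],[],[0],[],[0,2],[1],[],[0],[0,2],[],[0],[],[0],[2],[],[0],[],[2],[1],[1],[1],[],[],[],[],[],[],[],[2],[0],[1],[],[],[],[1],[],[0],[],[],[2],[],[],[1],[0],[],[],[],[1],[],[],[],[0],[],[],[],[],[],[0],[],[2],[],[],[]],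
      [[],[0],[2],[1],[],[],[],[],[],[],[],[],[],[],[],[],[],[],[],[],[],[],[],[],[],[],[],[],[],[],[],[],[],[]]]),
    (0x5a086bc3590e6c5a9343984471637, [[[0]]]),
    (0x1a6faa02da0e0a4b1722584771637, [[[1,2]],
      [[2],[0]],
      [[0],[]]])],
   [[[0,1,2]],
    [[0,1,2],[0,1,2],[0,1,2]],
    [[0,1,2],[0,1,2],[0,1,2],[0,1,2],[0,2],[0,1,2],[0,1,2],[0,1],[0,1,2]],
    [[0,1,2],[0,1,2],[0,1,2],[0,2],[0,2],[0,1,2],[0,1,2],[0,1],[0,1,2],[0,2],[1,2],[0,1,2],[0,1,2],[0,1,2],[0,1,2],[1],[0,1,2],[1,2],[0,1,2],[0,1,2],[0,1,2],[0,2],[0,2],[0,1],[0,1,2]],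
    [[0,1,2],[0,1,2],[0,1,2],[0,2],[0,2],[0,1,2],[0,1,2],[0,1],[0,1,2],[0,2],[0,1,2],[0,1,2],[0,1,2],[0,1,2],[1],[0,1,2],[1,2],[0,1,2],[1,2],[0,1,2],[0,2],[0,2],[0,1],[0,1,2],[1,2],[0,1],[0],[0,1,2],[0,2],[0,1],[0,1,2],[0,2],[1,2],[0,1,2],[0,1,2],[1],[0,1],[1,2],[0,1,2],[0,1,2],[0,2],[0,2],[0,1],[0,1,2],[0,2],[0,1,2],[0,2],[0],[0,1,2],[0],[0,1],[1,2],[2],[],[0,1,2],[],[0,1,2],[1,2],[0,1],[0,1],[2],[2],[1],[0,1,2]],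
    [[0,1,2],[0,1,2],[0,1,2],[0,2],[0,2],[0,1,2],[0,1,2],[],[0,1,2],[0,2],[0,1,2],[1,2],[0,1,2],[0,1],[1],[0,1,2],[1,2],[0,1,2],[1,2],[0,1,2],[2],[0],[0],[0,1,2],[1,2],[0,1],[0,2],[0,1],[0,1,2],[0,2],[1,2],[0,1,2],[0,1,2],[1],[0,1],[1,2],[0,1,2],[0,1,2],[0,2],[0,2],[0,1],[0,1,2],[0,2],[0,1,2],[0,2],[0],[0,1,2],[0,1],[1,2],[2],[],[0,1,2],[],[0,1,2],[1,2],[0,1],[0,1],[2],[2],[1],[0,1],[],[0,1,2],[0,2],[1],[0],[0],[1],[1,2],[1,2],[1,2],[0,2],[2],[0,2],[0,1],[1],[],[1],[],[1,2],[2],[],[0,1],[2],[0],[1],[2],[0],[1],[0,2],[0,1,2],[0,2],[],[0,1,2],[],[],[1,2],[],[0,1,2],[2],[0,1],[0,1],[2],[2],[1],[0,2],[2],[0,1,2],[1,2],[1],[1,2],[2],[0,1],[1],[2],[],[],[],[0,2],[0,2],[0],[2],[0,1],[0],[1],[],[0,1,2],[],[0],[2],[1,2],[],[],[2],[],[0,1],[0],[],[2],[1],[]],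
    [[1,2],[0,1],[0,1,2],[0,2],[0,2],[0,1,2],[0,1,2],[],[0,1,2],[0],[0,2],[1],[0,2],[1],[1],[2],[1,2],[1,2],[2],[0],[0],[0,1],[1,2],[0,1],[0,2],[0,1],[2],[1,2],[0,1,2],[0,2],[1],[0,1],[1,2],[0,1,2],[0],[0,2],[0,1],[0,1,2],[0],[0,2],[0,2],[0],[0,1,2],[0,1],[2],[2],[],[0,1,2],[2],[1,2],[0,1],[2],[1],[0,1],[],[0,1,2],[2],[1],[1,2],[1],[0,2],[2],[0],[0,1],[1],[],[1],[],[1,2],[],[],[0,1],[],[0],[],[2],[0],[1],[0,2],[1,2],[0,2],[],[0,1,2],[],[],[1,2],[],[0,2],[2],[1],[0,1],[2],[2],[1],[2],[],[2],[1],[1],[1,2],[2],[0],[1],[],[],[],[0],[0],[0],[2],[1],[],[1],[],[1],[],[0],[],[1],[],[],[],[],[0,1],[0],[],[2],[1],[],[],[1],[],[],[],[],[2],[],[],[0],[2],[0,1],[],[1],[],[1],[0,1,2],[2],[1],[0,1],[2],[],[],[],[2],[],[],[],[1,2],[2],[],[0,2],[2],[2],[],[2],[2],[1],[],[2],[0],[2],[],[],[],[2],[],[],[],[2],[],[],[2],[],[],[],[],[],[],[0,1],[],[],[],[0,2],[],[2],[0],[],[],[],[],[],[],[],[],[],[1],[],[1],[],[],[2],[2],[2],[],[],[],[2],[],[],[],[],[],[],[0],[]],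
    [[0],[2],[0,2],[0,2],[0],[],[1,2],[],[0,2],[],[0,2],[1],[],[2],[1],[1],[],[],[],[0,1],[1],[],[],[1,2],[0],[0,1],[0,2],[],[0,1,2],[],[2],[],[0,1,2],[],[1,2],[0],[2],[1],[],[1,2],[],[],[1],[],[2],[],[1],[],[1,2],[],[],[0,1],[],[],[],[0],[1],[0],[2],[2],[],[0,1,2],[],[],[],[],[2],[2],[1],[],[],[],[2],[],[0],[],[],[],[],[],[],[2],[],[],[],[],[0],[],[1],[],[],[],[],[2],[1],[],[],[1],[],[],[],[1],[],[],[1],[0],[2],[],[2],[],[],[],[2],[],[],[],[2],[2],[],[],[],[],[],[],[0],[],[],[],[],[2],[],[],[],[],[],[],[],[],[],[],[],[0,2],[],[0],[],[],[],[],[],[],[],[1],[],[],[],[],[],[],[],[],[0],[],[],[],[],[],[],[],[],[],[],[],[],[],[],[],[],[],[],[],[],[],[],[],[2],[],[],[],[2],[],[],[],[],[],[],[],[],[],[],[],[],[],[],[],[],[],[],[]],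
    [[],[2],[],[],[],[2],[],[],[0],[],[],[],[],[],[],[],[],[],[],[],[],[2],[],[],[],[],[],[],[1],[],[2],[],[],[],[],[],[],[],[],[],[],[],[],[],[],[2],[],[],[],[],[],[],[],[],[],[],[],[],[],[],[],[],[],[],[],[],[],[],[],[],[],[],[],[],[],[],[],[],[],[],[],[],[],[]],
    [[0],[],[],[],[],[],[]]]⟩

def rowT2 : Row :=
  ⟨0x4133a31d63c5b259aa87a8a418837, 330,
   [(0xbce0e8c9345550c1bec431d620b4a0, 0xba5d0b4a755504c2be2d31c2859060),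
    (0x5686544e9b3c2e232688486513577, 0x3ed549a477304a0ce088d08b28db7)],
   [(0xbdab49ca307b9ac5a928398a418820, []),
    (0xb9e086be3593a6952d94b10a618820, [[[0,1]],
      [[0,1],[0,1]],
      [[1],[1],[0,1],[0]],
      [[0,1],[0,1],[0,1],[0,1],[0,1]],
      [[0,1],[],[1],[0,1],[1],[0,1],[0],[0,1],[0,1],[0,1]],
      [[0,1],[0,1],[0,1],[0,1],[0,1],[0,1],[0,1],[0],[0,1],[0],[0,1],[1],[0,1],[1],[0]],
      [[1],[1],[0],[0,1],[0,1],[0,1],[0,1],[0,1],[1],[0,1],[0],[0,1],[0,1],[1],[0,1],[],[0,1],[1],[0,1],[1],[1],[0],[0],[],[1]],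
      [[0,1],[],[],[0,1],[0],[0,1],[0,1],[0,1],[0],[1],[1],[0,1],[0],[],[0],[0],[0],[1],[0,1],[1],[],[0,1],[0,1],[0],[0],[0,1],[0],[0,1],[],[0,1],[],[1],[0,1],[1]],
      [[],[0,1],[],[0],[0],[1],[0,1],[],[0],[],[],[0],[],[],[0],[0],[0,1],[0],[0],[1],[0],[],[0,1],[0],[],[],[],[],[0,1],[],[],[1],[],[1],[1],[],[],[],[],[],[]],
      [[],[],[0],[0,1],[0,1],[1],[],[],[],[],[],[],[],[],[],[],[],[],[],[],[],[],[],[],[]]]),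
    (0xbc92655a2c3b9706cea47d0a818820, [[[0,1]],
      [[0,1],[0,1]],
      [[0,1],[0,1],[0,1],[0,1]],
      [[1],[0,1],[1],[1],[0],[1],[0,1],[0]],
      [[0,1],[0],[],[],[],[1],[0],[0,1],[0,1],[]],
      [[0,1],[],[0],[0,1],[],[],[],[1],[]],
      [[],[1],[],[],[],[0]]]),
    (0xbbaab9bda595a2aa310939a0320820, [[[0,1]],
      [[0,1],[0,1]],
      [[0,1],[0,1],[0,1],[0,1]],
      [[1],[0,1],[0,1],[0,1],[0,1],[0,1],[0,1],[0,1]],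
      [[0,1],[0,1],[0,1],[0,1],[0,1],[0,1],[0,1],[1],[0,1],[0,1],[0,1],[0,1],[1],[0,1],[0,1]],
      [[0,1],[0,1],[0,1],[0,1],[0,1],[0,1],[1],[0,1],[0,1],[0,1],[0,1],[1],[0,1],[0,1],[0],[0,1],[0,1],[0,1],[0,1],[1],[0,1],[1],[0,1],[0,1],[0,1],[0,1],[0,1],[0,1]],
      [[0,1],[0,1],[0,1],[0,1],[1],[0,1],[0,1],[0,1],[0,1],[1],[0,1],[0,1],[0],[0,1],[0,1],[0,1],[1],[1],[0],[1],[0,1],[0,1],[0,1],[0,1],[0,1],[0,1],[0,1],[0,1],[0,1],[0,1],[0,1],[1],[0,1],[0],[0,1],[0,1],[0,1],[1],[0,1],[0,1],[0,1],[0],[0],[],[0,1],[1],[0],[0,1],[],[0,1],[0,1]],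
      [[],[1],[0,1],[0,1],[0,1],[1],[1],[0,1],[0],[0],[1],[0,1],[1],[1],[],[1],[0,1],[0,1],[1],[0,1],[0],[0,1],[0,1],[0,1],[0,1],[1],[0,1],[1],[0,1],[0,1],[0,1],[0,1],[0,1],[0,1],[0,1],[0],[0],[],[0],[1],[0],[0,1],[],[0,1],[0,1],[1],[0,1],[1],[1],[1],[0,1],[0,1],[0,1],[0,1],[0],[0,1],[0,1],[0,1],[1],[0,1],[0],[0,1],[0,1],[1],[1],[],[1],[],[0,1],[0,1],[0,1],[0,1],[0,1],[1],[0,1],[0],[0,1],[0,1],[1],[0,1],[1],[],[0,1],[]],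
      [[1],[0,1],[1],[1],[],[1],[0,1],[1],[0,1],[0],[0,1],[1],[0],[0],[1],[0],[0,1],[0,1],[0,1],[0,1],[0,1],[0],[0],[],[1],[0],[1],[1],[0,1],[1],[0,1],[1],[1],[1],[0,1],[0,1],[0,1],[0],[0,1],[0,1],[0,1],[0,1],[0],[0,1],[0,1],[1],[1],[1],[],[0,1],[0,1],[0],[0,1],[0,1],[1],[0,1],[0,1],[1],[1],[0,1],[1],[],[0,1],[],[0,1],[0,1],[0,1],[],[1],[0,1],[1],[0],[1],[1],[0,1],[1],[1],[0,1],[],[],[0,1],[0],[0],[1],[],[0,1],[0,1],[1],[0,1],[0],[1],[1],[0,1],[1],[0],[1],[],[1],[],[],[0,1],[0,1],[0,1],[1],[],[0,1],[1],[0,1],[],[0],[],[0,1],[],[0,1],[],[1],[1],[1],[0,1],[1]],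
      [[0],[1],[0],[1],[0],[0],[0],[0,1],[0],[1],[0],[1],[1],[0,1],[0,1],[1],[0,1],[0,1],[0,1],[0],[0],[0,1],[0,1],[1],[],[0,1],[0,1],[0],[0,1],[1],[],[0,1],[1],[0,1],[],[0,1],[],[0,1],[0,1],[1],[],[],[0,1],[1],[],[0,1],[1],[1],[0,1],[],[],[0,1],[],[],[1],[],[0],[1],[1],[0],[1],[1],[1],[1],[0],[1],[],[1],[],[],[1],[0,1],[1],[],[1],[],[0],[],[],[1],[1],[],[1],[1],[1],[1],[1],[0],[],[0],[1],[0],[0],[0],[],[],[1],[],[1],[1],[],[1],[0],[0,1],[1],[],[1],[0,1],[1],[0,1],[0,1],[1],[1],[],[],[0,1],[0,1],[],[],[0,1],[1],[0],[1],[0],[1],[0,1],[1],[],[0],[1],[0],[],[0],[1],[0],[0],[0],[],[],[],[0],[0],[1],[1],[],[1],[],[1],[],[]],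
      [[0],[0],[0,1],[],[1],[1],[0,1],[0],[1],[],[0],[1],[],[],[0,1],[],[0,1],[],[],[],[0],[],[0],[],[],[],[],[],[],[1],[],[],[],[1],[],[],[1],[0,1],[1],[1],[],[1],[],[1],[],[1],[1],[0],[],[],[],[],[],[],[1],[],[],[0],[0],[1],[],[1],[0,1],[1],[],[0,1],[],[],[0,1],[],[1],[],[1],[1],[],[0],[],[],[1],[],[],[0],[],[],[],[],[],[],[0],[],[1],[0],[],[0],[],[0],[],[0,1],[],[1],[],[],[],[1],[0],[],[],[],[0],[],[],[],[],[],[],[],[],[],[],[],[],[1],[],[1],[],[],[0],[1],[],[],[0],[],[],[],[1],[],[],[],[],[]],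
      [[],[],[],[],[],[],[],[],[],[1],[],[],[1],[],[],[],[],[],[],[],[],[],[],[1],[],[],[],[],[],[],[],[],[],[],[],[1],[],[],[],[],[],[],[],[],[],[],[],[],[],[],[],[],[],[],[],[],[],[],[],[],[],[],[],[],[]]]),
    (0xbb6aa9a1c44c6cb651f23987028820, [[[0,1]],
      [[0,1],[0,1]],
      [[0,1],[0,1],[0,1],[0,1]],
      [[1],[0,1],[1],[0,1],[1],[1],[0,1],[0,1]],
      [[1],[0],[0,1],[0],[0,1],[1],[0,1],[1],[0],[1],[1],[0,1]],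
      [[0],[1],[0,1],[0,1],[0,1],[1],[0,1],[0,1],[0,1],[1],[0],[1],[0],[0],[0,1],[1]],
      [[0,1],[0,1],[0,1],[1],[1],[0,1],[0],[1],[0,1],[0],[0,1],[0],[0,1],[0,1],[0],[0,1],[1],[0,1],[],[0,1],[0,1],[1],[0]],
      [[1],[0,1],[0,1],[1],[1],[1],[0,1],[0],[],[0,1],[],[0,1],[1],[0,1],[1],[0],[],[],[1],[],[],[1],[1],[0],[1],[1],[0],[],[0,1],[0,1],[],[1],[],[0]],
      [[0,1],[0],[1],[0],[],[1],[0,1],[1],[],[],[0,1],[1],[0],[0],[0],[0,1],[0,1],[0],[],[0],[],[1],[],[1],[0],[],[1],[],[1],[0],[0],[],[]],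
      [[],[],[],[],[],[],[],[0],[0],[1],[0],[],[],[],[1],[],[],[1],[],[],[],[],[1],[],[],[],[],[]]]),
    (0xbba69aca117d8ac42a8b399a320440, [[[1]],
      [[0,1]],
      [[0,1],[0,1]],
      [[0,1],[0,1],[0,1],[1]],
      [[1],[0,1],[1],[0,1],[0,1],[1],[]],
      [[0],[0],[],[],[1],[],[1],[1],[0,1]],
      [[0,1],[0],[0],[1],[1],[],[0]],
      [[1],[1],[],[],[],[0],[1]]]),
    (0xbd933a4a303b88c41aab7a86d28440, [[[0,1]],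
      [[1],[0,1]],
      [[1],[],[]]]),
    (0xb96b49c88d40e0c52d2f106d171cc0, [[[0,1]],
      [[0,1],[0,1]],
      [[0,1],[0,1],[0,1],[0]],
      [[1],[0,1],[0],[],[0,1],[0,1],[1]],
      [[0],[0,1],[0],[0],[],[0],[0],[1],[1]],
      [[0],[1],[0,1],[],[1],[0,1],[1],[0,1],[0]],
      [[],[],[0],[],[0,1],[0],[0],[0],[],[],[1]],
      [[1],[1],[],[],[1],[1],[]],
      [[0],[],[],[0]]]),
    (0x4133a31d63c5b259aa87a8a418837, []),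
    (0x351459e30516c69bd35931c418837, [[[0,1]],
      [[0,1],[0,1]],
      [[0,1],[0,1],[0,1],[0,1]],
      [[1],[0,1],[0,1],[0,1],[0,1],[0,1],[0],[0,1]],
      [[0,1],[0],[1],[0,1],[0,1],[0,1],[1],[1],[0,1],[0,1],[0],[0,1],[0,1],[0]],
      [[0,1],[0,1],[0],[],[1],[0,1],[0,1],[0,1],[0],[1],[1],[0],[],[0],[1],[0],[1],[],[],[1],[0],[0]],
      [[1],[1],[0,1],[1],[],[],[1],[0,1],[],[],[1],[0],[1],[1],[0,1],[1],[0],[],[],[1],[1],[],[1]],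
      [[1],[1],[],[],[1],[0],[1],[1],[],[0,1],[],[0],[0,1],[0],[1],[1],[0],[],[]],
      [[],[],[1],[],[1],[],[],[],[],[],[],[],[],[1],[]],
      [[0],[],[]]]),
    (0x32aa341d27c5766d1243cca818837, [[[0,1]],
      [[0,1],[0,1]],
      [[0,1],[0,1],[0,1],[0,1]],
      [[1],[0,1],[1],[1],[0],[1],[0,1],[0]],
      [[0,1],[0],[],[],[],[1],[0],[0,1],[0,1],[]],
      [[0,1],[],[0],[0,1],[],[],[],[1],[]],
      [[],[1],[],[],[],[0]]]),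
    (0x20ea9b62b7ba4485136a986c28837, [[[0,1]],
      [[0,1],[0,1]],
      [[0,1],[0,1],[0,1],[0,1]],
      [[1],[0,1],[1],[0,1],[0,1],[1],[0,1],[0,1]],
      [[0,1],[0],[0,1],[0],[0,1],[1],[1],[0,1],[0,1],[0,1],[0,1],[1],[0]],
      [[1],[0],[0,1],[0,1],[1],[0,1],[0,1],[0,1],[0,1],[0],[0,1],[],[0,1],[0],[1],[1],[0,1],[0],[0,1],[0]],
      [[0],[0,1],[],[0,1],[0,1],[0,1],[0],[0,1],[1],[1],[0,1],[1],[0,1],[],[],[0,1],[0,1],[0],[],[0],[1],[0,1],[0,1],[0,1],[],[],[0,1],[],[1]],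
      [[0,1],[1],[1],[0],[],[1],[1],[0],[0],[],[1],[1],[0],[0,1],[1],[1],[0,1],[1],[0],[1],[1],[],[1],[0,1],[],[1],[],[],[0,1],[0],[1],[0,1],[0,1],[0],[]],
      [[0],[1],[1],[1],[],[1],[],[],[],[],[0],[],[1],[],[0],[1],[0],[],[1],[],[0,1],[],[],[],[],[0],[0],[0,1],[],[0],[],[],[],[1],[]],
      [[],[],[],[0],[],[],[],[1],[],[],[],[],[],[],[],[],[],[],[]]]),
    (0x46954b2ce3c0b241a6b7a9a320457, [[[1]],
      [[0,1]],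
      [[0,1],[0,1]],
      [[0,1],[0,1],[0,1],[1]],
      [[1],[0,1],[1],[0,1],[0,1],[1],[]],
      [[0],[0],[],[],[1],[],[1],[1],[0,1]],
      [[0,1],[0],[0],[1],[1],[],[0]],
      [[1],[1],[],[],[],[0],[1]]]),
    (0x3a68aa9a565a2f4c97431e0320457, [[[0,1]],
      [[0,1],[0,1]],
      [[0,1],[0,1],[0,1],[0,1]],
      [[1],[0,1],[0,1],[0,1],[0,1],[0,1],[0,1],[0,1]],
      [[0,1],[0],[0,1],[0,1],[0,1],[0,1],[1],[1],[0,1],[0,1],[0,1],[0,1],[1],[0,1],[0,1]],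
      [[0,1],[0,1],[0,1],[0,1],[1],[1],[0,1],[0,1],[0,1],[0,1],[1],[0,1],[0],[0,1],[0,1],[1],[0],[1],[0,1],[1],[0,1],[0,1],[0,1],[0,1],[0],[0,1]],
      [[1],[1],[0,1],[1],[1],[0,1],[0,1],[1],[0,1],[0],[0,1],[0,1],[],[],[1],[0],[1],[0,1],[0,1],[0,1],[0,1],[0,1],[0,1],[0],[0,1],[0,1],[],[0],[0,1],[0,1],[1],[0,1],[],[0,1],[],[0],[],[1],[1],[],[0,1],[0,1],[0,1]],
      [[1],[0,1],[0,1],[1],[0,1],[0],[0],[1],[1],[0,1],[0,1],[0],[0,1],[0,1],[0,1],[0],[1],[0,1],[0,1],[0,1],[0,1],[],[0,1],[],[0],[0,1],[],[0,1],[0,1],[1],[0,1],[1],[1],[1],[0,1],[0,1],[0,1],[0],[1],[0],[0,1],[1],[1],[],[1],[],[0,1],[0,1],[1],[0],[0,1],[1],[],[1],[],[0,1],[]],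
      [[1],[1],[],[1],[0,1],[1],[],[0,1],[1],[0],[0],[0,1],[],[0,1],[],[0],[1],[1],[0,1],[1],[0,1],[1],[1],[1],[0,1],[0],[0],[0],[1],[1],[1],[1],[],[0],[0],[1],[1],[0],[],[],[0,1],[],[0,1],[0],[],[],[1],[0],[1],[1],[1],[1],[],[1],[],[0,1],[],[1],[0,1],[1],[],[],[0],[],[0],[1],[1],[0],[],[0,1],[],[1],[1],[]],
      [[0],[0],[0],[],[0,1],[0],[1],[0,1],[0,1],[1],[0],[],[],[0],[0],[],[],[],[1],[],[0,1],[0],[1],[],[],[0],[1],[1],[],[],[0],[],[1],[0],[],[1],[0],[],[],[],[1],[1],[],[],[],[],[],[],[1],[1],[0],[],[],[],[],[],[1],[],[],[],[],[],[],[],[],[],[]],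
      [[],[],[],[],[],[],[],[1],[],[0],[],[],[],[],[0],[],[],[],[],[],[],[],[0],[],[],[1],[],[],[],[],[],[],[],[]]]),
    (0x2d474b5c834644b5670a3c6c28457, [[[0,1]],
      [[0,1],[0,1]],
      [[0,1],[0,1],[0,1],[0,1]],
      [[1],[0,1],[1],[0,1],[1],[0,1],[0,1],[0]],
      [[1],[0,1],[0],[0,1],[0,1],[1],[0,1],[0],[1],[0,1],[0,1],[1]],
      [[0,1],[1],[0,1],[0,1],[0,1],[0],[1],[0,1],[0,1],[0,1],[0],[1],[0],[1],[0,1],[0],[0],[0,1]],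
      [[0,1],[1],[0,1],[0,1],[1],[0],[1],[0,1],[0,1],[1],[0,1],[1],[0,1],[],[],[0,1],[0,1],[1],[],[0,1],[1],[],[0,1],[1],[],[0,1],[0]],
      [[0,1],[1],[0,1],[0],[],[],[1],[0],[1],[0],[],[1],[0],[0],[0,1],[1],[],[0],[0,1],[0],[],[1],[],[0,1],[0],[0,1],[1],[],[1],[1],[1],[],[0,1],[1]],
      [[1],[0,1],[],[],[],[0,1],[0],[0],[0,1],[],[0],[],[],[0],[],[],[0],[],[1],[],[],[0,1],[0],[],[1],[0],[],[0],[0],[0],[],[0],[1]],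
      [[],[1],[],[],[],[0,1],[],[],[],[],[],[],[],[],[],[],[],[1],[1],[0],[],[],[]]]),
    (0x42b49b1d67c4924292b3986d28457, [[[0,1]],
      [[1],[0,1]],
      [[1],[],[]]]),
    (0x3e2d72eaab4e889408c28ce930457, [[[0,1]],
      [[0,1],[0,1]],
      [[0,1],[0,1],[0,1],[0,1]],
      [[1],[0,1],[0,1],[0,1],[0,1],[0,1],[0,1],[0,1]],
      [[0,1],[0,1],[0,1],[0,1],[0,1],[0,1],[0,1],[1],[0,1],[0,1],[0,1],[0,1],[0,1],[0,1],[0,1]],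
      [[0,1],[0,1],[0,1],[0,1],[0,1],[0,1],[1],[0,1],[0,1],[0,1],[0,1],[0,1],[0,1],[0,1],[0,1],[0,1],[0,1],[0],[0,1],[1],[0,1],[1],[0,1],[0],[0,1],[0,1],[0],[0,1],[1]],
      [[1],[1],[0],[0,1],[1],[0,1],[0,1],[0,1],[0,1],[0,1],[0],[0,1],[0,1],[0,1],[0,1],[0],[0,1],[1],[0],[1],[0,1],[0],[0,1],[0,1],[0],[0,1],[0,1],[0,1],[0,1],[0,1],[0,1],[0,1],[0,1],[1],[0],[0,1],[0,1],[0,1],[1],[0,1],[0,1],[0,1],[0,1],[0,1],[0,1],[1],[0,1],[0,1],[0,1],[],[0,1]],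
      [[0,1],[0,1],[1],[1],[0,1],[0,1],[0,1],[1],[0],[0,1],[1],[0],[1],[0,1],[0],[0,1],[1],[0],[0,1],[0,1],[0,1],[0,1],[0,1],[1],[0,1],[1],[0],[0,1],[0,1],[0,1],[0,1],[0,1],[0,1],[0],[0],[1],[1],[0,1],[0,1],[0,1],[1],[1],[0,1],[0,1],[0,1],[1],[0,1],[1],[1],[0,1],[0,1],[0,1],[0,1],[0,1],[0,1],[],[1],[0,1],[0],[0,1],[1],[0,1],[1],[1],[0,1],[0],[0,1],[0,1],[0,1],[1],[1],[0,1],[1],[1],[0,1],[1],[],[0,1],[0,1],[0,1],[0,1],[],[0,1],[],[1]],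
      [[0],[1],[1],[],[0,1],[0],[],[0,1],[1],[0,1],[0,1],[],[1],[1],[0],[0],[1],[0],[0,1],[0,1],[1],[0,1],[1],[0,1],[0,1],[0],[1],[0,1],[0,1],[0,1],[],[1],[],[1],[1],[0,1],[],[0],[0,1],[0],[1],[0,1],[0],[0,1],[0,1],[0,1],[1],[0],[0],[0,1],[0,1],[0,1],[0],[],[1],[],[],[0],[0,1],[0,1],[0,1],[1],[0],[],[],[0,1],[1],[],[0,1],[1],[0,1],[0,1],[],[0],[1],[1],[0,1],[0],[0],[0],[1],[0,1],[1],[0,1],[1],[1],[0],[0],[0],[0,1],[0,1],[1],[0],[1],[0],[],[],[0],[0,1],[0,1],[1],[],[],[],[0,1],[1],[0,1],[],[0,1],[0,1],[0,1],[0,1],[0],[0,1],[0,1],[1],[1],[0,1],[],[1],[0,1],[],[1],[0],[0],[1],[],[1]],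
      [[1],[0,1],[0],[0,1],[1],[0],[1],[1],[0,1],[1],[1],[],[],[0,1],[0,1],[1],[0],[1],[0,1],[0],[0],[0,1],[0,1],[1],[],[0],[],[0],[],[0],[0,1],[1],[],[0],[1],[1],[0,1],[0,1],[0],[0,1],[1],[0],[1],[],[1],[],[1],[],[0,1],[0],[0],[1],[0],[1],[1],[0],[],[1],[],[0,1],[1],[],[],[0,1],[1],[1],[],[1],[0,1],[0,1],[0,1],[0,1],[1],[],[],[0,1],[],[1],[0,1],[1],[],[0,1],[],[],[0],[0],[1],[],[],[],[0],[1],[0],[],[0],[],[],[],[],[0,1],[],[0],[1],[],[1],[1],[0],[],[],[],[],[1],[1],[0],[],[0,1],[],[],[],[],[0,1],[],[],[],[1],[1],[],[1],[],[0],[1],[0,1],[],[1],[0,1],[],[0,1],[],[1],[],[1],[],[1],[],[],[1],[],[],[1],[],[]],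
      [[],[],[0],[1],[0,1],[],[],[1],[],[1],[1],[0,1],[0],[0,1],[],[1],[],[1],[],[0],[],[],[],[],[],[],[],[],[1],[0],[],[1],[1],[],[0,1],[],[0],[],[],[0,1],[],[],[],[],[0],[],[0],[],[0,1],[],[],[0],[1],[1],[],[1],[1],[1],[],[],[],[],[1],[1],[],[],[],[],[0,1],[0,1],[],[],[1],[1],[1],[],[1],[0],[0],[],[],[1],[0],[],[0],[],[0],[0],[],[1],[0],[],[],[],[0],[],[],[0],[],[],[],[],[0,1],[],[],[],[],[],[],[1],[],[],[],[],[],[1],[0],[],[],[],[1],[1],[],[]],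
      [[],[],[],[],[1],[],[],[],[],[1],[0],[0],[],[],[1],[],[],[],[],[],[],[],[],[],[],[1],[],[1],[],[1],[],[],[1],[],[],[],[],[],[],[0],[],[],[0],[],[],[],[],[1],[],[],[],[],[],[],[],[],[],[],[],[],[],[]]]),
    (0x1269ab0a3435d252e8f1063681cd7, [[[0,1]],
      [[0,1],[0,1]],
      [[0,1],[0,1],[0,1],[0,1]],
      [[1],[0,1],[0,1],[0,1],[0,1],[0,1],[0,1],[1]],
      [[0,1],[0,1],[0,1],[0],[0,1],[0,1],[0,1],[1],[0,1],[0,1],[1],[0,1],[1],[1]],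
      [[0,1],[0,1],[1],[0,1],[0,1],[1],[1],[0,1],[0,1],[1],[1],[0,1],[1],[0],[0,1],[0],[0,1],[0],[0,1],[],[0],[0,1],[1]],
      [[0],[0,1],[0,1],[0],[0,1],[0,1],[1],[0,1],[1],[],[1],[1],[],[1],[],[],[0,1],[1],[0,1],[0],[0,1],[0,1],[],[0,1],[1],[0,1],[],[1],[1],[],[1],[0],[]],
      [[1],[1],[0,1],[1],[1],[1],[0,1],[],[0,1],[0],[0],[],[0],[0,1],[0,1],[],[0,1],[],[0,1],[1],[],[],[0,1],[1],[1],[],[1],[],[1],[],[],[],[],[1],[0,1],[1]],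
      [[1],[],[1],[],[],[1],[1],[0],[],[],[0],[],[],[],[1],[],[],[0],[],[],[1],[],[],[0],[],[0],[1],[1],[1],[],[],[],[]]])],
   [[[0,1]],
    [[0,1],[0,1]],
    [[0,1],[0,1],[0,1],[0,1]],
    [[1],[0,1],[0,1],[0,1],[0,1],[0,1],[0,1],[0,1]],
    [[0,1],[0,1],[0,1],[0,1],[0,1],[0,1],[0,1],[1],[0,1],[0,1],[0,1],[0,1],[0,1],[0,1],[0,1]],
    [[0,1],[0,1],[0,1],[0,1],[0,1],[0,1],[1],[0,1],[0,1],[0,1],[0,1],[0,1],[0,1],[0,1],[0,1],[0,1],[0,1],[0,1],[0,1],[0,1],[0,1],[1],[0,1],[0,1],[0,1],[0,1],[0,1],[0,1],[0,1]],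
    [[0,1],[0,1],[0,1],[0,1],[1],[0,1],[0,1],[0,1],[0,1],[0,1],[0,1],[0,1],[0,1],[0,1],[0,1],[0,1],[0,1],[0,1],[0],[1],[0,1],[0,1],[0,1],[0,1],[0,1],[0,1],[0,1],[0,1],[0,1],[0,1],[0,1],[0,1],[0,1],[1],[0,1],[0],[0,1],[0,1],[0,1],[0,1],[1],[0,1],[0,1],[0,1],[0,1],[0,1],[0,1],[0,1],[1],[0,1],[0,1],[0],[0,1],[1],[0,1],[0,1]],
    [[1],[0,1],[0,1],[0,1],[0,1],[0,1],[1],[0,1],[0,1],[0,1],[1],[0,1],[0,1],[0,1],[0],[1],[0,1],[0,1],[0,1],[1],[0,1],[0],[0,1],[0,1],[0,1],[0,1],[0,1],[1],[0,1],[1],[0,1],[0],[0,1],[0,1],[0,1],[0,1],[0,1],[0,1],[0,1],[0,1],[0,1],[0,1],[0,1],[1],[0,1],[0,1],[0],[0,1],[1],[0,1],[0,1],[0,1],[0,1],[1],[0,1],[1],[1],[0,1],[0,1],[0,1],[0,1],[0,1],[0,1],[0,1],[0,1],[0,1],[1],[0,1],[0],[1],[0,1],[0,1],[0,1],[0,1],[1],[0,1],[0,1],[0],[0,1],[0,1],[0,1],[0,1],[1],[0,1],[0],[0,1],[0,1],[0,1],[0,1],[1],[],[0,1],[0,1],[0,1],[0,1],[0,1],[1],[0,1],[0],[0,1],[1],[0,1],[1]],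
    [[0,1],[0,1],[1],[0,1],[0,1],[0,1],[0],[1],[0,1],[0,1],[0,1],[0,1],[0],[0,1],[0,1],[0,1],[0,1],[1],[0,1],[1],[0,1],[0],[0,1],[0,1],[0,1],[0],[0,1],[0,1],[0,1],[0,1],[0,1],[0,1],[0,1],[0,1],[0,1],[0],[0,1],[0,1],[0,1],[0,1],[0,1],[1],[0,1],[1],[1],[0,1],[0,1],[0,1],[0,1],[0,1],[0,1],[0,1],[0,1],[1],[0,1],[0],[1],[0,1],[0,1],[0,1],[0,1],[1],[0,1],[0],[0,1],[0,1],[0,1],[0,1],[1],[0,1],[0],[0,1],[0,1],[0,1],[0,1],[1],[],[0,1],[0,1],[0,1],[0,1],[0,1],[1],[0,1],[],[0,1],[1],[0,1],[1],[1],[0,1],[0,1],[0,1],[0,1],[1],[0,1],[0,1],[1],[0,1],[0,1],[0,1],[0],[1],[0,1],[0,1],[0,1],[1],[0,1],[0],[0,1],[0],[0,1],[0,1],[0,1],[1],[1],[0,1],[0,1],[0,1],[0,1],[0,1],[0,1],[0,1],[0,1],[0,1],[1],[0,1],[1],[0,1],[0],[0,1],[0,1],[0,1],[0,1],[1],[],[1],[0,1],[0,1],[0,1],[0,1],[0,1],[0,1],[0,1],[0,1],[0,1],[1],[0,1],[0],[1],[0,1],[0,1],[0,1],[0,1],[1],[0,1],[0,1],[1],[0,1],[0,1],[1],[1],[0],[0,1],[0],[0,1],[],[1],[0,1],[0,1],[1],[0,1],[0],[0,1],[1],[1]],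
    [[0,1],[0],[0,1],[1],[0,1],[1],[0,1],[0],[1],[0,1],[0],[0],[0,1],[0,1],[0,1],[0,1],[0,1],[0,1],[0,1],[0,1],[0],[0,1],[0,1],[0,1],[0,1],[0,1],[1],[0,1],[1],[1],[0,1],[0,1],[0,1],[0,1],[0,1],[0,1],[1],[0,1],[0],[1],[0,1],[0,1],[0,1],[0,1],[0,1],[0],[0,1],[0,1],[0,1],[0,1],[1],[0,1],[0],[0,1],[0,1],[0,1],[0,1],[1],[0,1],[0,1],[0,1],[0,1],[0,1],[1],[0,1],[0,1],[1],[0,1],[1],[1],[0,1],[0,1],[0,1],[0,1],[1],[0,1],[0,1],[1],[0,1],[0,1],[0,1],[0],[0,1],[0,1],[1],[0,1],[0],[0,1],[0],[0,1],[1],[0,1],[1],[1],[0,1],[0,1],[0,1],[0,1],[0,1],[0,1],[0,1],[0,1],[0,1],[1],[0,1],[1],[1],[0],[0,1],[0,1],[1],[],[1],[0,1],[0,1],[1],[],[0,1],[0,1],[0,1],[0,1],[0,1],[1],[0,1],[0],[1],[0,1],[0,1],[0,1],[0,1],[],[0,1],[0,1],[1],[0,1],[0,1],[1],[1],[0],[0,1],[0],[0,1],[],[1],[0,1],[1],[0,1],[0],[0,1],[1],[1],[1],[0,1],[1],[0],[0,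1],[0,1],[0],[0,1],[],[0,1],[0],[0,1],[],[0,1],[0],[1],[0,1],[0],[0,1],[0,1],[0,1],[],[0,1],[0],[0,1],[0],[0,1],[0,1],[0,1],[0,1],[0,1],[0],[1],[0,1],[0,1],[0,1],[1],[0,1],[1],[],[0,1],[0,1],[0,1],[0,1],[0,1],[0,1],[1],[0,1],[0],[0,1],[0,1],[1],[1],[0],[0,1],[0,1],[0,1],[0,1],[1],[0,1],[0],[0,1],[0,1],[0],[1],[],[1],[0,1],[0,1],[0,1],[1],[0,1],[1],[1],[1],[0,1],[0,1],[0,1],[1],[0,1],[0,1],[0,1],[0],[1],[0,1],[0,1],[0,1],[],[0,1],[0],[1],[0],[0,1],[0,1],[0,1],[1],[1],[1],[0,1],[0],[0,1],[0,1],[0,1],[0,1],[0,1],[0,1],[],[0,1],[1],[0,1],[0],[0,1],[1],[],[1],[0],[0,1],[1],[0,1],[1],[0,1],[0],[1],[0,1],[0],[1],[0,1],[0,1],[],[0,1],[0,1],[],[0,1],[],[1],[1],[0,1],[1],[0,1],[0],[]],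
    [[0,1],[0,1],[1],[1],[1],[0,1],[0],[0,1],[0,1],[0,1],[0,1],[1],[0],[],[0],[0,1],[0],[0,1],[0],[0,1],[0,1],[0,1],[0,1],[1],[1],[0],[0,1],[0,1],[0,1],[0,1],[1],[0,1],[0,1],[0,1],[],[0,1],[0,1],[1],[0,1],[1],[1],[0,1],[0,1],[0,1],[0,1],[1],[0,1],[0,1],[1],[0,1],[0],[1],[0,1],[0],[0,1],[0],[0,1],[1],[0],[],[1],[0,1],[0,1],[0,1],[0,1],[0,1],[0],[0,1],[0,1],[0,1],[1],[0],[],[1],[0,1],[0],[1],[],[1],[0,1],[0,1],[1],[],[0,1],[0,1],[0,1],[0,1],[1],[1],[0,1],[0],[1],[0,1],[0,1],[0,1],[0,1],[],[0],[0,1],[1],[0,1],[0,1],[1],[1],[0],[0,1],[0],[0,1],[],[1],[0,1],[1],[0],[0],[0,1],[1],[1],[1],[0,1],[1],[0],[0],[0,1],[0],[0,1],[],[1],[0],[0,1],[],[0,1],[0],[1],[0,1],[0],[0,1],[0,1],[0,1],[],[],[0,1],[0,1],[0,1],[0,1],[0,1],[0],[1],[0,1],[0],[0],[1],[0,1],[],[0],[1],[1],[0,1],[0],[0,1],[1],[0,1],[0],[0,1],[0,1],[1],[1],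[],[0,1],[1],[0,1],[0,1],[1],[0,1],[0],[0,1],[0,1],[0],[1],[],[0,1],[0,1],[1],[1],[1],[1],[0,1],[1],[0,1],[0,1],[0,1],[],[0,1],[],[0,1],[0],[1],[0],[0,1],[0,1],[0,1],[1],[1],[1],[0,1],[],[0,1],[0,1],[0,1],[1],[1],[0,1],[],[0,1],[],[0,1],[0,1],[1],[],[1],[0],[0,1],[1],[0,1],[1],[0],[0],[1],[0,1],[0],[1],[0,1],[0,1],[],[0,1],[0],[],[1],[1],[1],[1],[0,1],[0],[],[0],[0,1],[1],[0],[1],[0],[1],[0],[0],[0],[0,1],[0],[0,1],[0],[0,1],[1],[0,1],[1],[0,1],[0,1],[0,1],[0,1],[1],[1],[0,1],[0],[1],[0,1],[0,1],[0,1],[0,1],[0],[0],[0],[0],[1],[0],[0,1],[1],[0,1],[0],[1],[0,1],[1],[1],[0,1],[0,1],[0,1],[0,1],[1],[0,1],[1],[1],[0],[0,1],[1],[0,1],[0,1],[0,1],[1],[1],[0],[0,1],[0,1],[0],[0,1],[1],[1],[1],[1],[0,1],[1],[0,1],[0,1],[1],[0],[1],[1],[0],[0,1],[1],[],[1],[1],[1],[1],[],[0],[0,1],[0,1],[0,1],[0,1],[1],[0,1],[],[0,1]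,[0,1],[0],[0],[1],[0,1],[],[],[0,1],[1],[0,1],[0],[0,1],[1],[1],[1],[1],[0],[0,1],[1],[],[0,1],[],[0],[1],[1],[0],[0,1],[0,1],[0,1],[],[0,1],[0],[0,1],[0],[1],[0,1],[0,1],[0],[0],[1],[0,1],[0,1],[1],[0,1],[1],[],[0,1],[0,1],[0],[0],[0,1],[1],[0,1],[],[0,1],[1],[1],[0],[1],[0],[0,1],[1],[1],[1],[0],[1],[],[1],[],[],[0],[1],[0],[],[1],[1],[1],[1],[0,1],[0],[],[1],[],[0],[0,1],[1],[1],[0,1],[],[1],[0,1],[1],[1],[],[1],[0,1],[1],[0,1],[1],[0],[0,1],[],[0,1],[],[],[],[1],[],[0,1]],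
    [[],[0,1],[1],[0,1],[0],[0,1],[1],[0,1],[],[1],[0],[0,1],[0],[0],[1],[0],[],[1],[0,1],[0,1],[0],[0,1],[0,1],[],[0],[0],[1],[],[],[0],[0,1],[1],[],[0,1],[0,1],[0,1],[1],[],[0],[0],[1],[0,1],[0,1],[0,1],[1],[],[0],[1],[1],[0],[0,1],[],[0,1],[],[1],[1],[0],[0],[1],[1],[1],[1],[0,1],[1],[],[],[0,1],[0],[0,1],[],[1],[0],[0,1],[],[],[0],[1],[0,1],[],[0,1],[1],[0],[1],[0,1],[0],[],[],[1],[],[0],[0,1],[0],[1],[1],[1],[0],[1],[0,1],[1],[1],[],[0],[1],[0],[1],[0,1],[0],[0,1],[0],[0],[0,1],[1],[1],[1],[0,1],[1],[0,1],[0,1],[1],[],[1],[],[0,1],[0],[1],[0],[0,1],[1],[0,1],[],[1],[0,1],[],[0,1],[0],[0,1],[],[1],[0,1],[],[0,1],[],[0,1],[0,1],[],[1],[0],[1],[1],[0,1],[1],[0],[0],[1],[0,1],[0],[1],[0,1],[0],[],[0],[0],[],[],[1],[1],[1],[0],[],[0],[0,1],[1],[0],[],[],[0],[0],[0],[0],[],[],[0],[1],[0],[1],[0,1],[0,1],[0],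[1],[],[],[0,1],[0],[1],[0],[0,1],[0,1],[0],[0,1],[1],[0,1],[],[1],[0,1],[],[1],[0,1],[0,1],[0,1],[0,1],[1],[0,1],[1],[0,1],[1],[0],[0],[0],[0,1],[0],[0,1],[1],[1],[1],[0,1],[1],[0,1],[0,1],[1],[0],[1],[1],[0],[1],[],[1],[1],[1],[],[0],[0,1],[0,1],[0,1],[0,1],[],[0,1],[],[0,1],[0,1],[0],[0],[0,1],[],[],[0,1],[1],[],[1],[],[0,1],[],[0],[1],[1],[0],[1],[0],[0,1],[],[0,1],[0],[0],[1],[0,1],[0,1],[],[0,1],[1],[],[0,1],[1],[0],[0],[0,1],[1],[0],[0],[1],[1],[0],[1],[0],[1],[1],[0],[1],[],[1],[],[0],[0],[],[1],[1],[1],[],[0,1],[0],[],[1],[],[],[1],[1],[0],[],[1],[1],[1],[1],[],[],[0,1],[1],[0,1],[],[0,1],[],[],[1],[],[0],[],[1],[],[0,1],[],[1],[],[],[],[1],[],[1],[],[0],[1],[0],[0,1],[],[0,1],[1],[0,1],[1],[0,1],[1],[1],[],[1],[0],[0],[1],[],[1],[1],[0,1],[],[0,1],[0],[0],[0,1],[0,1],[0],[1],[0],[0,1],[0],[],[],[1]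,[0,1],[0,1],[1],[],[],[0],[1],[],[0],[0],[],[],[0,1],[1],[0],[0],[0],[],[],[0],[1],[0],[0],[0,1],[],[1],[],[1],[0],[],[],[],[0,1],[],[1],[],[1],[0,1],[0],[],[],[],[0,1],[0,1],[],[1],[0],[],[1],[1],[1],[],[],[1],[1],[0],[],[0,1],[0],[0],[],[0,1],[0,1],[],[1],[0],[1],[0],[],[0],[],[0],[1],[],[0,1],[0],[1],[1],[],[],[0],[],[1],[0],[],[],[],[0,1],[],[1],[],[0],[0,1],[],[1],[1],[1],[1],[0,1],[0],[],[0],[0],[1],[0],[1],[0],[0],[0],[0,1],[0],[],[1],[0],[0],[],[1],[0,1],[0,1],[0,1],[0],[0],[0],[],[1],[0,1],[1],[1],[0],[1],[],[0,1],[0,1],[1],[],[],[0],[1],[1],[0,1],[0,1],[1],[1],[1],[],[0,1],[],[1],[1],[0,1],[1],[],[],[],[0],[0,1],[1],[1],[1],[1],[],[0],[],[1],[1],[],[0],[0,1],[1],[],[1],[0],[0,1],[1],[0],[],[1],[0],[0],[1],[0,1],[0],[0,1],[1],[0],[1],[1],[0],[1],[1],[1],[1],[0],[0],[],[],[],[1],[],[],[0,1],[1],[],[],[]],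
    [[1],[1],[],[0,1],[0],[0],[],[],[0],[1],[1],[0],[],[0,1],[0],[],[],[],[0],[0,1],[],[],[1],[1],[],[1],[1],[0],[0,1],[],[],[0],[0,1],[1],[],[1],[],[0,1],[],[],[0],[0,1],[],[1],[0],[0],[0],[],[1],[1],[],[1],[0,1],[1],[0],[],[1],[0],[],[0,1],[],[0],[],[],[1],[1],[0],[],[],[0],[1],[0],[0],[0],[0],[0],[],[],[],[1],[0],[0,1],[0],[0,1],[0,1],[1],[],[],[0,1],[0,1],[1],[1],[1],[0],[0],[0],[],[1],[1],[1],[0],[0,1],[],[1],[1],[],[1],[],[],[0],[0,1],[1],[0,1],[],[0,1],[],[0,1],[0],[0,1],[],[1],[],[1],[0],[],[],[1],[1],[],[1],[0,1],[0,1],[0],[0],[],[0],[0,1],[],[0,1],[],[0,1],[],[0],[1],[0],[0],[1],[1],[1],[],[1],[0],[],[],[1],[],[],[],[],[1],[1],[0,1],[],[],[1],[],[],[1],[1],[0],[],[],[1],[1],[1],[],[1],[0,1],[],[],[],[0],[],[1],[],[0,1],[],[],[1],[],[1],[],[],[],[0,1],[1],[],[],[1],[0],[],[],[],[0,1],[],[],[1],[],[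],[0],[1],[],[],[],[],[],[0],[],[],[1],[0],[0],[],[],[],[0],[1],[0],[],[0,1],[],[],[0],[],[],[],[],[],[1],[0],[],[],[0],[],[1],[1],[],[],[1],[1],[],[],[1],[],[0],[],[1],[0,1],[1],[],[],[0],[],[0],[1],[],[],[],[1],[],[],[],[],[],[0],[],[],[],[0,1],[1],[],[],[0,1],[0],[],[],[],[1],[],[],[1],[0],[],[0,1],[],[],[],[],[0],[0,1],[1],[],[],[0],[1],[0],[1],[],[1],[],[0,1],[],[1],[1],[0],[1],[],[0],[0,1],[1],[1],[1],[0],[1],[1],[],[],[0,1],[],[],[0],[0,1],[0],[],[],[],[0],[0,1],[],[1],[0],[],[1],[1],[],[],[],[],[0],[1],[],[],[0],[],[],[0],[],[1],[],[],[0],[],[0],[],[1],[],[],[1],[1],[],[],[],[1],[0],[],[],[],[0],[],[1],[],[0],[],[],[],[1],[],[1],[0,1],[],[],[],[1],[],[],[],[],[0,1],[],[1],[1],[0],[],[],[0,1],[],[1],[],[],[],[],[],[],[],[],[],[],[],[],[],[1],[0],[],[],[0],[0],[0,1],[],[1],[],[],[],[1],[],[0],[1],[1],[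],[],[1],[],[],[],[1],[],[],[1],[],[0,1],[],[],[],[],[],[],[1],[1],[1],[],[1],[1],[],[],[],[],[1],[],[],[],[],[],[],[],[],[],[],[],[1],[],[],[1],[],[0],[],[],[],[1],[0,1],[0],[0,1],[0],[],[1],[],[0],[0],[],[],[],[],[],[],[],[],[0],[],[],[],[],[0],[],[],[],[],[],[],[],[],[],[],[],[],[],[],[],[],[],[1],[1],[],[1],[0],[],[],[0],[0],[],[],[],[],[],[0,1],[],[0],[],[],[0],[],[1],[0,1],[],[],[1],[],[1],[],[1],[0,1],[],[0],[],[1],[1],[],[],[],[],[],[1],[],[],[]],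
    [[],[],[],[0],[0],[0],[],[],[0,1],[],[1],[1],[1],[0],[0],[],[],[],[],[],[],[0],[],[],[],[1],[0],[],[],[0],[],[],[0,1],[0],[0],[],[1],[1],[],[1],[],[],[],[],[1],[],[1],[],[0,1],[],[],[0],[1],[0,1],[],[],[],[],[],[],[],[],[],[],[1],[],[],[],[],[],[],[],[],[],[],[],[],[],[],[],[1],[],[1],[],[1],[],[1],[],[],[],[],[],[],[],[],[],[],[0],[],[1],[],[0],[],[],[],[],[0],[1],[],[],[],[],[0],[1],[],[0],[],[],[],[],[1],[],[],[],[],[1],[],[],[1],[],[],[],[0],[],[],[0],[0],[],[],[],[],[],[],[],[],[0],[],[],[],[1],[],[],[],[],[],[0],[],[0],[],[1],[0],[],[],[],[],[],[],[],[],[],[],[],[],[0],[1],[],[],[],[],[],[],[1],[],[],[],[],[],[],[],[],[],[],[],[],[],[1],[0],[],[],[],[],[0],[],[],[],[],[],[],[],[],[],[],[],[],[],[],[],[],[],[],[0],[],[],[],[],[],[],[],[],[1],[],[],[0],[1],[],[],[],[],[],[],[],[],[0],[],[0],[],[],[0,1],[],[1],[],[],[],[],[],[],[],[],[],[0],[],[],[],[],[],[],[],[],[],[],[],[],[],[],[],[],[],[0],[],[],[],[],[],[],[],[],[],[],[],[],[],[],[],[],[],[],[],[1],[],[],[],[],[],[],[0],[],[],[],[],[],[],[],[],[],[],[],[],[],[],[],[],[],[1]]]⟩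

def rowT3 : Row :=
  ⟨0x46954b2ce3c0b241a6b7a9a320457, 1386,
   [(0x550b0b2896cdd250c4629211b3cf7, 0xed173085135f2a2e150a0e652677),
    (0xbb90b13216a44d26cc25aa54779060, 0xbc0ef531d11d972a14d5235020cd20)],
   [(0xbdab49ca307b9ac5a928398a418820, []),
    (0xb9e086be3593a6952d94b10a618820, [[[0,1]],
      [[0,1],[0,1]],
      [[0,1],[0,1],[0,1],[0,1]],
      [[0,1],[0,1],[0,1],[0,1],[0,1],[0,1],[0,1],[0,1]],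
      [[0,1],[0,1],[0,1],[0,1],[0,1],[0,1],[0,1],[0,1],[0,1],[0,1],[0,1],[1],[0,1],[0,1],[0,1],[0,1]],
      [[0,1],[0,1],[0,1],[1],[0],[0,1],[0,1],[0,1],[0,1],[0,1],[0,1],[0,1],[0,1],[1],[0,1],[0,1],[1],[0,1],[0,1],[0,1],[0,1],[0,1],[0,1],[0,1],[1],[1],[0,1],[1],[0,1],[0,1],[0,1]],
      [[1],[0,1],[0,1],[0],[1],[0,1],[0],[0,1],[0,1],[0,1],[1],[0],[0,1],[0,1],[1],[0,1],[],[0,1],[1],[0,1],[0,1],[0,1],[0,1],[1],[0,1],[],[0,1],[0,1],[0,1],[1],[],[0,1],[],[1],[1],[0,1],[0],[0],[0,1],[0,1],[0,1],[0],[1],[0,1],[],[0],[],[1],[1],[1],[1],[1],[1],[1],[0,1]],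
      [[0,1],[1],[1],[0,1],[1],[0,1],[0],[0,1],[1],[0,1],[1],[1],[0,1],[],[0],[1],[1],[1],[1],[1],[0,1],[0,1],[1],[],[0,1],[0,1],[1],[0],[0,1],[],[0],[1],[0,1],[0],[],[1],[0],[0],[1],[1],[1],[],[1],[0,1],[1],[],[1],[1],[],[0,1],[0],[1],[1],[0],[0,1],[1],[0,1],[0],[1],[0,1],[1],[],[0],[0],[1],[0],[],[],[1],[1],[1],[1],[],[]],
      [[0],[],[],[1],[0,1],[1],[1],[1],[0],[],[1],[0],[],[1],[],[],[],[0],[1],[],[],[0],[0],[1],[0],[1],[0,1],[0,1],[],[],[1],[0],[],[0],[1],[0],[0],[1],[1],[],[],[],[],[],[0,1],[],[0],[],[],[],[],[],[],[],[],[],[],[1],[0,1],[],[],[0],[],[],[],[0],[0,1],[1],[1],[],[],[],[],[1],[],[],[],[],[]],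
      [[],[],[],[],[],[1],[],[],[],[1],[],[],[],[1],[1],[],[],[],[1],[],[1],[],[],[],[],[],[],[],[0],[],[],[],[],[],[],[],[],[],[],[],[],[],[]]]),
    (0xbc92655a2c3b9706cea47d0a818820, [[[0,1]],
      [[0,1],[0,1]],
      [[0,1],[0,1],[1],[0,1]],
      [[0,1],[0,1],[1],[0,1],[0,1],[0,1],[0,1]],
      [[0,1],[0],[0,1],[0,1],[1],[0,1],[0,1],[0,1],[0,1],[0,1],[0],[1],[0,1]],
      [[0],[0],[0,1],[0,1],[0,1],[0],[0,1],[0,1],[0],[],[0,1],[0,1],[0,1],[0,1],[0,1],[0,1],[0,1],[1],[1],[0,1],[0,1],[0,1]],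
      [[0],[0,1],[],[0,1],[0,1],[1],[0,1],[0,1],[1],[1],[0],[],[0,1],[0,1],[1],[0,1],[0,1],[1],[0],[0,1],[0],[0,1],[0],[0,1],[1],[0],[1],[0],[0],[],[],[0,1],[1],[0],[1],[0,1]],
      [[1],[1],[1],[0,1],[],[],[1],[],[],[],[1],[1],[1],[],[0,1],[],[],[],[],[1],[1],[0,1],[1],[1],[],[],[],[],[0,1],[0],[],[],[1],[],[],[1],[],[],[],[],[1],[1],[1],[1],[],[]],
      [[],[],[],[0,1],[],[],[1],[],[],[],[],[],[],[],[],[],[],[],[],[],[],[],[],[],[],[]]]),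
    (0xbc0ea332364b892451ebaccad18820, [[[0,1]],
      [[0,1],[0]],
      [[0,1],[0,1],[1]],
      [[0,1],[0],[1],[0,1],[0]],
      [[0,1],[0],[1],[1],[0,1],[0,1],[1]],
      [[],[0],[0,1],[],[],[0],[],[],[0,1],[0]],
      [[0,1],[],[],[0,1],[0],[],[]]]),
    (0xbb4c93ae2453ac893e8c9d4b018820, [[[0,1]],
      [[0,1],[0]],
      [[0,1],[0,1],[0,1]],
      [[0,1],[0,1],[1],[0,1],[0,1],[0,1]],
      [[0,1],[0,1],[0,1],[0,1],[0,1],[0,1],[0,1],[0,1],[0,1],[0,1],[]],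
      [[0,1],[0],[0,1],[],[0],[],[],[0,1],[0],[0],[0],[],[0,1],[0,1],[],[1],[],[0,1],[0],[0,1]],
      [[],[],[0,1],[1],[],[0,1],[0,1],[],[1],[],[0,1],[],[0,1],[0,1],[],[],[],[1],[],[],[0]]]),
    (0xbc533a4ace340ac59ea853da320820, [[[0,1]],
      [[0,1],[0]],
      [[0,1],[0],[]],
      [[0],[],[]]]),
    (0xbc269ac9d65448c5be8831c6d28820, [[[0,1]],
      [[1],[0]]]),
    (0xba63074ab424d4c5b6c828cef30820, [[[0,1]],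
      [[0,1],[0,1]],
      [[0,1],[0],[0,1],[0,1]],
      [[0],[0,1],[0],[0,1],[1],[0],[0,1]],
      [[],[0,1],[],[0,1],[0,1],[0],[],[0,1],[],[1]],
      [[],[0,1],[],[0,1],[],[0,1],[],[],[],[]]]),
    (0xbb4ef348a4a0ecc5a548ace3070820, [[[0,1]],
      [[0,1],[0]],
      [[0,1],[0,1],[0,1]],
      [[0],[0,1],[],[0,1],[],[1]],
      [[],[1],[0],[],[],[]]]),
    (0xbad106be349166cb1d35519c410c20, [[[0,1]],
      [[0,1],[0,1]],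
      [[0,1],[0,1],[0,1],[0,1]],
      [[0,1],[0,1],[0,1],[0,1],[0,1],[0,1],[0,1],[0,1]],
      [[0,1],[0,1],[0,1],[0,1],[0,1],[0,1],[0],[0,1],[1],[0,1],[0,1],[0,1],[0,1],[0,1],[0,1],[0,1]],
      [[0,1],[0,1],[0,1],[0,1],[0,1],[0,1],[0,1],[1],[0,1],[0],[0],[0,1],[0,1],[0,1],[0,1],[0],[0],[1],[0,1],[0,1],[0,1],[0,1],[0,1],[1],[1],[1],[],[0,1],[0,1],[1]],
      [[0,1],[0,1],[0,1],[0],[0,1],[0,1],[0,1],[0,1],[0,1],[0,1],[0,1],[0,1],[1],[0,1],[0,1],[1],[0,1],[0],[1],[0,1],[0],[0,1],[1],[1],[0,1],[0],[0,1],[0],[0],[0],[0],[0,1],[0],[0,1],[0],[0,1],[0],[0],[1],[0,1],[0],[0],[],[1],[0,1],[1],[0,1],[0,1]],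
      [[0,1],[0,1],[0,1],[1],[0,1],[1],[0],[0],[0,1],[0,1],[0,1],[1],[0,1],[0],[0],[1],[1],[0],[0,1],[0,1],[],[0,1],[1],[],[1],[0,1],[0,1],[1],[1],[0],[0,1],[0],[0],[0],[1],[0,1],[],[0,1],[0],[1],[1],[1],[1],[1],[1],[0,1],[],[0],[1],[0],[1],[0],[0,1],[],[1],[],[1],[1],[1],[],[],[1],[0],[],[],[],[1],[],[],[1],[],[0]],
      [[0,1],[0],[],[0,1],[0],[1],[0],[],[0,1],[0,1],[1],[1],[],[0,1],[1],[0],[],[1],[],[],[0,1],[1],[],[],[0],[],[1],[1],[],[1],[0],[0,1],[],[0],[],[],[1],[1],[1],[],[],[1],[1],[],[0],[],[],[],[0,1],[],[],[0],[],[],[],[],[1],[0],[],[1],[],[],[],[0],[],[0],[0],[1],[],[],[0],[],[],[],[],[]],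
      [[],[],[],[],[0,1],[1],[0],[],[],[],[1],[1],[],[],[],[],[],[],[],[],[1],[],[],[0,1],[0],[],[1],[],[],[1],[],[],[],[1],[],[],[],[1],[],[],[],[],[],[],[],[1],[]],
      [[],[],[],[],[0],[],[],[],[],[],[],[],[],[],[]]]),
    (0xbaa959ca28795a93d990591c610c20, [[[0,1]],
      [[0,1],[0,1]],
      [[0,1],[0,1],[0,1],[0,1]],
      [[0,1],[0,1],[0,1],[0,1],[0,1],[0,1],[0,1],[0]],
      [[0,1],[0,1],[0,1],[0,1],[0,1],[0],[0],[0,1],[0,1],[0],[0],[0,1],[0,1],[0,1],[0,1]],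
      [[0,1],[0],[0,1],[0,1],[0,1],[0,1],[0,1],[0,1],[0],[0,1],[0,1],[1],[0,1],[1],[1],[0],[1],[0,1],[1],[0,1],[],[1],[],[0,1],[1],[0,1]],
      [[1],[0,1],[0],[0,1],[0,1],[1],[0,1],[0],[0,1],[0,1],[0],[1],[0,1],[0],[1],[],[0],[0,1],[0],[0],[],[],[1],[0,1],[0],[],[1],[],[],[0,1],[1],[],[0],[],[],[],[],[]],
      [[0],[],[0,1],[1],[1],[1],[],[0],[0],[],[1],[],[0],[0],[],[0],[],[],[],[],[1],[],[0],[0],[0],[0],[],[0],[],[1],[1],[0],[],[],[],[]],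
      [[0,1],[0],[],[0],[],[0],[],[],[0],[0],[],[0],[],[],[],[],[],[],[],[],[]],
      [[],[],[],[],[0],[],[],[]]]),
    (0x4133a31d63c5b259aa87a8a418837, [[[0,1]],
      [[0,1],[0,1]],
      [[0,1],[0],[],[]]]),
    (0x351459e30516c69bd35931c418837, [[[0,1]],
      [[0,1],[0,1]],
      [[0,1],[0,1],[0,1],[0,1]],
      [[0,1],[0,1],[0,1],[0,1],[0,1],[0,1],[1],[1]],
      [[0,1],[1],[0,1],[0,1],[1],[0,1],[0],[0,1],[1],[0,1],[0,1],[0],[0,1],[1]],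
      [[0,1],[0],[1],[0,1],[],[],[],[0],[],[0,1],[1],[],[0,1],[],[0],[1],[0,1],[1],[0],[],[1],[]],
      [[0],[],[0],[0,1],[0],[0,1],[],[],[],[],[],[],[],[],[],[],[1],[],[]],
      [[0,1],[],[],[],[],[],[],[]]]),
    (0x3eb03ae34b154c93488999c918837, [[[0,1]],
      [[0,1],[0,1]],
      [[0,1],[0,1],[0,1],[0,1]],
      [[0,1],[0,1],[0,1],[0,1],[0,1],[0,1],[0,1],[0]],
      [[0,1],[0,1],[0,1],[0,1],[0,1],[0,1],[0,1],[1],[0,1],[0],[0],[0],[0,1],[0,1],[0,1]],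
      [[0,1],[0,1],[0],[0,1],[0,1],[0,1],[0,1],[0,1],[0,1],[0,1],[0,1],[],[0],[0],[0,1],[],[0,1],[0,1],[0],[0,1],[0],[1],[],[0,1],[],[0,1]],
      [[0,1],[1],[1],[0,1],[1],[0],[1],[0,1],[],[0,1],[0,1],[],[0,1],[],[0,1],[],[0,1],[],[0,1],[0],[0],[1],[],[0],[0],[0],[0,1],[0],[],[0],[],[0],[1],[],[],[1],[1],[1]],
      [[0,1],[0,1],[0,1],[],[0,1],[],[],[],[0],[],[1],[1],[0],[0,1],[],[],[],[],[1],[0],[],[1],[],[0],[],[],[],[],[],[],[0],[0],[1],[],[],[],[],[]],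
      [[0],[],[1],[],[0],[0],[],[],[],[],[],[1],[],[],[],[],[0],[],[],[],[]],
      [[],[],[],[1],[],[]]]),
    (0x59e6549d0ac48c44ceb4d0ad18837, [[[0,1]],
      [[0,1],[0,1]],
      [[0,1],[0,1],[],[0,1]],
      [[0,1],[0,1],[],[0,1],[0,1],[0,1]],
      [[0,1],[],[],[1],[0,1],[0],[],[],[],[0,1]],
      [[],[0],[0,1],[0],[],[1],[1],[0]],
      [[1],[1],[],[],[],[],[]]]),
    (0x4eb0b2a343b9666c9287b0a410c37, [[[0,1]],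
      [[0,1],[0,1]],
      [[0,1],[0,1],[1],[0,1]],
      [[0,1],[0,1],[0,1],[0],[0,1],[0,1],[1]],
      [[0,1],[],[1],[],[0],[0],[],[1],[0,1],[],[],[]],
      [[],[],[],[1],[0],[0],[0,1],[0]]]),
    (0x46954b2ce3c0b241a6b7a9a320457, []),
    (0x3a68aa9a565a2f4c97431e0320457, [[[0,1]],
      [[0,1],[0,1]],
      [[0,1],[0,1],[0,1],[0,1]],
      [[0,1],[0,1],[0,1],[0,1],[0,1],[0,1],[1],[1]],
      [[0,1],[1],[0,1],[0,1],[1],[0,1],[0],[0,1],[1],[0,1],[0,1],[0],[0,1],[1]],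
      [[0,1],[0],[1],[0,1],[],[],[],[0],[],[0,1],[1],[],[0,1],[],[0],[1],[0,1],[1],[0],[],[1],[]],
      [[0],[],[0],[0,1],[0],[0,1],[],[],[],[],[],[],[],[],[],[],[1],[],[]],
      [[0,1],[],[],[],[],[],[],[]]]),
    (0x366faadc4a46c89254c31c7028457, [[[0,1]],
      [[0,1],[0]],
      [[0,1],[0,1],[0,1]],
      [[0,1],[0,1],[1],[0,1],[1],[0,1]],
      [[0],[0,1],[0,1],[0,1],[0,1],[0],[1],[],[],[]],
      [[0],[0],[],[0],[],[],[0,1],[0],[],[],[]],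
      [[],[1],[],[],[],[]]]),
    (0x3e2d72eaab4e889408c28ce930457, [[[0,1]],
      [[0,1],[0,1]],
      [[0,1],[0,1],[0,1],[0,1]],
      [[0,1],[0,1],[0,1],[0,1],[0,1],[0,1],[0],[1]],
      [[0,1],[0,1],[0,1],[0],[0,1],[0,1],[1],[1],[1],[1],[0],[],[0,1],[0,1]],
      [[0,1],[1],[1],[1],[0],[0,1],[0],[],[0],[0],[0],[1],[],[0],[0,1],[0],[],[1],[],[1]],
      [[1],[1],[0],[],[],[0,1],[],[],[],[],[],[0,1],[1],[0],[],[0],[],[],[]],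
      [[],[],[0],[],[],[],[],[],[0],[]]]),
    (0x49ca2d8e84d58d251f088e6b30457, [[[0,1]],
      [[0,1],[0,1]],
      [[0,1],[0,1],[0,1],[0,1]],
      [[0,1],[0,1],[0,1],[0,1],[0,1],[0,1],[0,1],[0,1]],
      [[0,1],[0,1],[0,1],[0,1],[0,1],[0,1],[0,1],[0,1],[0,1],[0,1],[0,1],[1],[0,1],[0,1],[0,1],[0,1]],
      [[0,1],[0,1],[0,1],[1],[0],[0,1],[0,1],[0,1],[0,1],[0,1],[0,1],[0,1],[0,1],[1],[0,1],[0,1],[1],[0,1],[0,1],[0,1],[0,1],[0,1],[0,1],[0,1],[1],[1],[0,1],[1],[0,1],[0,1],[0,1]],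
      [[1],[0,1],[0,1],[0],[1],[0,1],[0],[0,1],[0,1],[0,1],[1],[0],[0,1],[0,1],[1],[0,1],[],[0,1],[1],[0,1],[0,1],[0,1],[0,1],[1],[0,1],[],[0,1],[0,1],[0,1],[1],[],[0,1],[],[1],[1],[0,1],[0],[0],[0,1],[0,1],[0,1],[0],[1],[0,1],[],[0],[],[1],[1],[1],[1],[1],[1],[1],[0,1]],
      [[0,1],[1],[1],[0,1],[1],[0,1],[0],[0,1],[1],[0,1],[1],[1],[0,1],[],[0],[1],[1],[1],[1],[1],[0,1],[0,1],[1],[],[0,1],[0,1],[1],[0],[0,1],[],[0],[1],[0,1],[0],[],[1],[0],[0],[1],[1],[1],[],[1],[0,1],[1],[],[1],[1],[],[0,1],[0],[1],[1],[0],[0,1],[1],[0,1],[0],[1],[0,1],[1],[],[0],[0],[1],[0],[],[],[1],[1],[1],[1],[],[]],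
      [[0],[],[],[1],[0,1],[1],[1],[1],[0],[],[1],[0],[],[1],[],[],[],[0],[1],[],[],[0],[0],[1],[0],[1],[0,1],[0,1],[],[],[1],[0],[],[0],[1],[0],[0],[1],[1],[],[],[],[],[],[0,1],[],[0],[],[],[],[],[],[],[],[],[],[],[1],[0,1],[],[],[0],[],[],[],[0],[0,1],[1],[1],[],[],[],[],[1],[],[],[],[],[]],
      [[],[],[],[],[],[1],[],[],[],[1],[],[],[],[1],[1],[],[],[],[1],[],[1],[],[],[],[],[],[],[],[0],[],[],[],[],[],[],[],[],[],[],[],[],[],[]]]),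
    (0x3933a32113587241eab53c8568457, [[[0,1]],
      [[1],[0]]]),
    (0x34ca3b0a448ed2451eb9d63070457, [[[0,1]],
      [[0,1],[0]],
      [[0,1],[0],[0,1]],
      [[0],[0,1],[],[0],[1]],
      [[1],[1],[],[0,1],[]]]),
    (0x21b129e8952ea673e169326209077, [[[0,1]],
      [[0,1],[0,1]],
      [[0,1],[0,1],[0,1],[0,1]],
      [[0,1],[0,1],[0,1],[0,1],[0,1],[0,1],[0,1],[0,1]],
      [[0,1],[0,1],[0,1],[0,1],[1],[0,1],[0],[0,1],[1],[0,1],[0,1],[0],[0,1],[0,1],[0,1],[1]],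
      [[0,1],[0],[0,1],[0,1],[0,1],[0,1],[0,1],[],[0],[],[0,1],[0,1],[0,1],[0,1],[],[0],[1],[0,1],[1],[0],[1],[1],[1],[1],[],[1],[]],
      [[0],[0,1],[0,1],[0,1],[0,1],[0,1],[0,1],[0],[0,1],[0],[0,1],[],[0],[0],[],[],[1],[],[1],[1],[0],[0],[0],[0],[0],[1],[1],[0],[0],[],[0],[],[0]],
      [[0,1],[1],[1],[0,1],[],[0],[0,1],[0],[0],[1],[0],[0],[],[1],[0],[0],[0,1],[1],[],[1],[],[],[],[],[],[1],[],[],[1],[1],[],[1],[],[],[]],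
      [[1],[],[1],[0],[],[1],[],[],[0,1],[],[],[],[],[],[],[],[],[],[1],[],[0],[],[],[],[]],
      [[],[0],[],[],[],[],[],[]]]),
    (0x26486d5cf8466752ed46104609477, [[[0,1]],
      [[0,1],[0,1]],
      [[0,1],[0,1],[0,1],[0,1]],
      [[0,1],[0,1],[0,1],[0,1],[0,1],[0,1],[0,1],[0,1]],
      [[0,1],[0,1],[0,1],[0,1],[0,1],[0,1],[0,1],[0,1],[0,1],[0,1],[0,1],[0,1],[0,1],[0,1],[0,1],[0,1]],
      [[0,1],[0,1],[0,1],[0,1],[0,1],[0,1],[0,1],[0,1],[0,1],[0,1],[0,1],[0,1],[0,1],[0,1],[0,1],[0,1],[1],[0,1],[0,1],[0,1],[0,1],[0,1],[0,1],[0,1],[0,1],[1],[1],[0,1],[1],[0,1],[0,1],[0,1]],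
      [[0,1],[0,1],[0,1],[0,1],[0,1],[0,1],[0,1],[0,1],[0,1],[0,1],[0,1],[0,1],[1],[0,1],[0,1],[0,1],[1],[0,1],[0],[0,1],[0,1],[0,1],[0,1],[0,1],[0,1],[1],[1],[0,1],[1],[0,1],[0,1],[0,1],[0,1],[0],[0,1],[0],[1],[0,1],[0,1],[0],[0,1],[0,1],[0,1],[0],[0,1],[0,1],[0],[1],[0,1],[0],[0],[0],[1],[1],[1],[0,1],[1],[0,1],[0,1],[0,1]],
      [[0,1],[0,1],[0,1],[0,1],[0,1],[1],[0,1],[0,1],[0,1],[0,1],[0,1],[0,1],[1],[0,1],[0,1],[0,1],[1],[1],[0],[0,1],[0,1],[0],[0,1],[1],[1],[1],[0,1],[1],[1],[0,1],[0,1],[1],[0],[0,1],[0],[0,1],[0,1],[0],[0,1],[0,1],[0,1],[0],[0,1],[0,1],[0],[],[0,1],[0],[0],[0],[1],[1],[1],[0,1],[1],[0,1],[0,1],[1],[0,1],[1],[0,1],[1],[0,1],[0],[0],[1],[0,1],[0],[0,1],[1],[0],[1],[0,1],[1],[0,1],[0],[1],[1],[1],[1],[0,1],[1],[],[0],[0,1],[0,1],[0,1],[0],[0],[],[],[],[1],[1],[1],[1],[1],[1],[],[0]],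
      [[0,1],[0],[0,1],[0,1],[0,1],[1],[0,1],[0,1],[0,1],[0,1],[0,1],[1],[0],[0,1],[0,1],[1],[1],[0],[0,1],[0,1],[0],[1],[1],[],[1],[0,1],[1],[1],[0],[0,1],[],[0],[0],[0,1],[1],[0],[1],[0,1],[0],[0,1],[0],[0],[0],[0],[1],[1],[0],[1],[0,1],[0,1],[1],[1],[],[1],[0,1],[],[],[0,1],[0],[0,1],[],[0],[1],[0,1],[1],[0,1],[0],[1],[],[1],[],[0,1],[1],[],[0,1],[0,1],[0,1],[],[0],[],[],[],[1],[],[1],[1],[1],[1],[0],[0,1],[1],[0,1],[1],[0,1],[0,1],[1],[1],[1],[],[1],[1],[0,1],[1],[0,1],[0,1],[],[0],[0,1],[0],[0],[0],[0],[0,1],[0,1],[1],[],[1],[1],[1],[1],[0],[0],[],[1],[1],[],[0,1],[1],[1],[],[],[],[],[],[1],[],[]],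
      [[1],[],[0,1],[0],[1],[1],[0,1],[0,1],[0],[0,1],[1],[],[0,1],[0,1],[1],[],[0],[0],[1],[1],[],[1],[1],[1],[0],[1],[],[0],[],[0,1],[1],[],[1],[0,1],[0],[],[],[0],[1],[1],[0],[1],[0,1],[1],[],[],[],[0,1],[0],[],[],[0],[1],[1],[],[1],[1],[1],[1],[],[0],[],[],[],[1],[1],[1],[1],[0],[1],[1],[1],[1],[1],[1],[],[1],[0,1],[0],[0],[],[0],[0],[0],[0,1],[1],[],[1],[1],[1],[0],[],[1],[1],[],[0,1],[1],[],[],[],[],[1],[],[],[0],[],[0],[],[1],[],[0],[],[],[],[],[],[],[],[],[0],[],[],[1],[],[],[],[],[],[1],[],[],[],[],[],[],[],[1],[0,1],[0],[],[],[],[],[1],[],[],[0],[],[],[],[]],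
      [[],[],[1],[],[],[],[0,1],[],[1],[],[0],[1],[1],[],[1],[],[0],[1],[],[],[0,1],[0],[],[],[1],[],[],[1],[],[],[1],[],[],[0],[],[],[],[0],[],[],[],[],[1],[],[],[],[1],[],[],[],[1],[0],[],[1],[],[],[],[1],[],[],[1],[],[],[],[],[],[],[],[],[],[],[],[],[],[],[],[],[0],[],[],[],[],[],[0],[],[],[],[],[],[],[],[],[],[],[],[],[],[],[],[]],
      [[],[],[],[],[],[],[],[],[],[1],[],[],[],[],[],[],[],[],[],[],[0],[],[],[],[],[],[]]]),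
    (0x40e6531d64c5726cde4ad04809477, [[[0,1]],
      [[0,1],[0,1]],
      [[0,1],[0,1],[1],[0,1]],
      [[0,1],[1],[1],[1],[0,1],[0,1],[0]],
      [[1],[0],[0],[1],[0],[0],[0,1],[1],[0],[1]],
      [[],[],[0],[],[0],[0],[],[1],[],[1],[]]])],
   [[[0,1]],
    [[0,1],[0,1]],
    [[0,1],[0,1],[0,1],[0,1]],
    [[0,1],[0,1],[0,1],[0,1],[0,1],[0,1],[0,1],[0,1]],
    [[0,1],[0,1],[0,1],[0,1],[0,1],[0,1],[0,1],[0,1],[0,1],[0,1],[0,1],[0,1],[0,1],[0,1],[0,1],[0,1]],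
    [[0,1],[0,1],[0,1],[0,1],[0,1],[0,1],[0,1],[0,1],[0,1],[0,1],[0,1],[0,1],[0,1],[0,1],[0,1],[0,1],[1],[0,1],[0,1],[0,1],[0,1],[0,1],[0,1],[0,1],[0,1],[1],[1],[0,1],[1],[0,1],[0,1],[0,1]],
    [[0,1],[0,1],[0,1],[0,1],[0,1],[0,1],[0,1],[0,1],[0,1],[0,1],[0,1],[0,1],[1],[0,1],[0,1],[0,1],[1],[0,1],[0],[0,1],[0,1],[0,1],[0,1],[0,1],[0,1],[1],[1],[0,1],[1],[0,1],[0,1],[0,1],[0,1],[0],[0,1],[0],[1],[0,1],[0,1],[0],[0,1],[0,1],[0,1],[0],[0,1],[0,1],[0],[1],[0,1],[0],[0],[0],[1],[1],[1],[0,1],[1],[0,1],[0,1],[0,1]],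
    [[0,1],[0,1],[0,1],[0,1],[0,1],[1],[0,1],[0,1],[0,1],[0,1],[0,1],[0,1],[1],[0,1],[0,1],[0,1],[1],[1],[0],[0,1],[0,1],[0],[0,1],[1],[1],[1],[0,1],[1],[1],[0,1],[0,1],[1],[0],[0,1],[0],[0,1],[0,1],[0],[0,1],[0,1],[0,1],[0],[0,1],[0,1],[0],[],[0,1],[0],[0],[0],[1],[1],[1],[0,1],[1],[0,1],[0,1],[1],[0,1],[1],[0,1],[1],[0,1],[0],[0],[1],[0,1],[0],[0,1],[1],[0],[1],[0,1],[1],[0,1],[0],[1],[1],[1],[1],[0,1],[1],[],[0],[0,1],[0,1],[0,1],[0],[0],[],[],[],[1],[1],[1],[1],[1],[1],[],[0]],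
    [[0,1],[0],[0,1],[0,1],[0,1],[1],[0,1],[0,1],[0,1],[0,1],[0,1],[1],[0],[0,1],[0,1],[1],[1],[0],[0,1],[0,1],[0],[1],[1],[],[1],[0,1],[1],[1],[0],[0,1],[],[0],[0],[0,1],[1],[0],[1],[0,1],[0],[0,1],[0],[0],[0],[0],[1],[1],[0],[1],[0,1],[0,1],[1],[1],[],[1],[0,1],[],[],[0,1],[0],[0,1],[],[0],[1],[0,1],[1],[0,1],[0],[1],[],[1],[],[0,1],[1],[],[0,1],[0,1],[0,1],[],[0],[],[],[],[1],[],[1],[1],[1],[1],[0],[0,1],[1],[0,1],[1],[0,1],[0,1],[1],[1],[1],[],[1],[1],[0,1],[1],[0,1],[0,1],[],[0],[0,1],[0],[0],[0],[0],[0,1],[0,1],[1],[],[1],[1],[1],[1],[0],[0],[],[1],[1],[],[0,1],[1],[1],[],[],[],[],[],[1],[],[]],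
    [[1],[],[0,1],[0],[1],[1],[0,1],[0,1],[0],[0,1],[1],[],[0,1],[0,1],[1],[],[0],[0],[1],[1],[],[1],[1],[1],[0],[1],[],[0],[],[0,1],[1],[],[1],[0,1],[0],[],[],[0],[1],[1],[0],[1],[0,1],[1],[],[],[],[0,1],[0],[],[],[0],[1],[1],[],[1],[1],[1],[1],[],[0],[],[],[],[1],[1],[1],[1],[0],[1],[1],[1],[1],[1],[1],[],[1],[0,1],[0],[0],[],[0],[0],[0],[0,1],[1],[],[1],[1],[1],[0],[],[1],[1],[],[0,1],[1],[],[],[],[],[1],[],[],[0],[],[0],[],[1],[],[0],[],[],[],[],[],[],[],[],[0],[],[],[1],[],[],[],[],[],[1],[],[],[],[],[],[],[],[1],[0,1],[0],[],[],[],[],[1],[],[],[0],[],[],[],[]],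
    [[],[],[1],[],[],[],[0,1],[],[1],[],[0],[1],[1],[],[1],[],[0],[1],[],[],[0,1],[0],[],[],[1],[],[],[1],[],[],[1],[],[],[0],[],[],[],[0],[],[],[],[],[1],[],[],[],[1],[],[],[],[1],[0],[],[1],[],[],[],[1],[],[],[1],[],[],[],[],[],[],[],[],[],[],[],[],[],[],[],[],[0],[],[],[],[],[],[0],[],[],[],[],[],[],[],[],[],[],[],[],[],[],[],[]],
    [[],[],[],[],[],[],[],[],[],[1],[],[],[],[],[],[],[],[],[],[],[0],[],[],[],[],[],[]]]⟩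

def tabT0 : List (ℕ × ℕ × ℕ) :=
   [(1, 0xbdab49ca307b9ac5a928398a418820, 0xbdab49ca307b9ac5a928398a418820),
    (1155, 0xbdab49ca307b9ac5a928398a418820, 0xb9e086be3593a6952d94b10a618820),
    (330, 0xbdab49ca307b9ac5a928398a418820, 0x4133a31d63c5b259aa87a8a418837),
    (1386, 0xbdab49ca307b9ac5a928398a418820, 0x46954b2ce3c0b241a6b7a9a320457)]

def tabT1 : List (ℕ × ℕ × ℕ) :=
   [(1155, 0xb9e086be3593a6952d94b10a618820, 0xbdab49ca307b9ac5a928398a418820),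
    (1155, 0xb9e086be3593a6952d94b10a618820, 0xb9e086be3593a6952d94b10a618820),
    (6930, 0xb9e086be3593a6952d94b10a618820, 0xb99b28523343aaa4b16f258a718820),
    (9240, 0xb9e086be3593a6952d94b10a618820, 0xbc92655a2c3b9706cea47d0a818820),
    (443520, 0xb9e086be3593a6952d94b10a618820, 0xbc533a4ace340ac59ea853da320820),
    (221760, 0xb9e086be3593a6952d94b10a618820, 0xbbaab9bda595a2aa310939a0320820),
    (110880, 0xb9e086be3593a6952d94b10a618820, 0xbd8cf3b1d0a45b24254b9d46428820),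
    (55440, 0xb9e086be3593a6952d94b10a618820, 0xbda6aaacb048da8951ec31e2470820),
    (27720, 0xb9e086be3593a6952d94b10a618820, 0xbad106be349166cb1d35519c410c20),
    (110880, 0xb9e086be3593a6952d94b10a618820, 0xbc1679ca367b1aeaa0aaa0d2231020),
    (55440, 0xb9e086be3593a6952d94b10a618820, 0xbd9f24522daa6035a9d3394c261020),
    (13860, 0xb9e086be3593a6952d94b10a618820, 0xb9e9594e2868dec52d30b184471420),
    (221760, 0xb9e086be3593a6952d94b10a618820, 0xbba69aca117d8ac42a8b399a320440),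
    (55440, 0xb9e086be3593a6952d94b10a618820, 0xb9eb49c8cf8290c1b92db444159480),
    (55440, 0xb9e086be3593a6952d94b10a618820, 0x4133a31d63c5b259aa87a8a418837),
    (221760, 0xb9e086be3593a6952d94b10a618820, 0x3ab49b211558b25bd2831da320837),
    (13860, 0xb9e086be3593a6952d94b10a618820, 0x5a72ad22d40e0952d8f398a470837),
    (55440, 0xb9e086be3593a6952d94b10a618820, 0x59147ca309b1ae52c75394c249037),
    (443520, 0xb9e086be3593a6952d94b10a618820, 0x46954b2ce3c0b241a6b7a9a320457),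
    (221760, 0xb9e086be3593a6952d94b10a618820, 0x3a68aa9a565a2f4c97431e0320457),
    (18480, 0xb9e086be3593a6952d94b10a618820, 0x58ea349d04c5ac5d1e8acc6428457),
    (55440, 0xb9e086be3593a6952d94b10a618820, 0x49f3a59ccac570698e44a86828457),
    (13860, 0xb9e086be3593a6952d94b10a618820, 0x5aaf9a0b0a0dab6255239a2470457),
    (13860, 0xb9e086be3593a6952d94b10a618820, 0x1e126d0b540e6a4b16fb122670457),
    (27720, 0xb9e086be3593a6952d94b10a618820, 0x40e932cb650c8893e8cace2d70457),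
    (110880, 0xb9e086be3593a6952d94b10a618820, 0x22496556f828f38ba9668c4131497),
    (55440, 0xb9e086be3593a6952d94b10a618820, 0x1e72ad0c86ade970d90b444151497),
    (443520, 0xb9e086be3593a6952d94b10a618820, 0x314f2ba11a49363d5a358a6141897),
    (221760, 0xb9e086be3593a6952d94b10a618820, 0x3d6a70cc5b4ce9ad1826c60192097),
    (2310, 0xb9e086be3593a6952d94b10a618820, 0x5a086bc3590e6c5a9343984471637),
    (6930, 0xb9e086be3593a6952d94b10a618820, 0x1a6faa02da0e0a4b1722584771637)]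

def tabT2 : List (ℕ × ℕ × ℕ) :=
   [(330, 0x4133a31d63c5b259aa87a8a418837, 0xbdab49ca307b9ac5a928398a418820),
    (55440, 0x4133a31d63c5b259aa87a8a418837, 0xb9e086be3593a6952d94b10a618820),
    (13860, 0x4133a31d63c5b259aa87a8a418837, 0xbc92655a2c3b9706cea47d0a818820),
    (221760, 0x4133a31d63c5b259aa87a8a418837, 0xbbaab9bda595a2aa310939a0320820),
    (55440, 0x4133a31d63c5b259aa87a8a418837, 0xbb6aa9a1c44c6cb651f23987028820),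
    (13860, 0x4133a31d63c5b259aa87a8a418837, 0xbba69aca117d8ac42a8b399a320440),
    (2310, 0x4133a31d63c5b259aa87a8a418837, 0xbd933a4a303b88c41aab7a86d28440),
    (18480, 0x4133a31d63c5b259aa87a8a418837, 0xb96b49c88d40e0c52d2f106d171cc0),
    (330, 0x4133a31d63c5b259aa87a8a418837, 0x4133a31d63c5b259aa87a8a418837),
    (36960, 0x4133a31d63c5b259aa87a8a418837, 0x351459e30516c69bd35931c418837),
    (13860, 0x4133a31d63c5b259aa87a8a418837, 0x32aa341d27c5766d1243cca818837),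
    (55440, 0x4133a31d63c5b259aa87a8a418837, 0x20ea9b62b7ba4485136a986c28837),
    (13860, 0x4133a31d63c5b259aa87a8a418837, 0x46954b2ce3c0b241a6b7a9a320457),
    (110880, 0x4133a31d63c5b259aa87a8a418837, 0x3a68aa9a565a2f4c97431e0320457),
    (55440, 0x4133a31d63c5b259aa87a8a418837, 0x2d474b5c834644b5670a3c6c28457),
    (2310, 0x4133a31d63c5b259aa87a8a418837, 0x42b49b1d67c4924292b3986d28457),
    (221760, 0x4133a31d63c5b259aa87a8a418837, 0x3e2d72eaab4e889408c28ce930457),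
    (55440, 0x4133a31d63c5b259aa87a8a418837, 0x1269ab0a3435d252e8f1063681cd7)]

def tabT3 : List (ℕ × ℕ × ℕ) :=
   [(1386, 0x46954b2ce3c0b241a6b7a9a320457, 0xbdab49ca307b9ac5a928398a418820),
    (443520, 0x46954b2ce3c0b241a6b7a9a320457, 0xb9e086be3593a6952d94b10a618820),
    (221760, 0x46954b2ce3c0b241a6b7a9a320457, 0xbc92655a2c3b9706cea47d0a818820),
    (55440, 0x46954b2ce3c0b241a6b7a9a320457, 0xbc0ea332364b892451ebaccad18820),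
    (110880, 0x46954b2ce3c0b241a6b7a9a320457, 0xbb4c93ae2453ac893e8c9d4b018820),
    (13860, 0x46954b2ce3c0b241a6b7a9a320457, 0xbc533a4ace340ac59ea853da320820),
    (6930, 0x46954b2ce3c0b241a6b7a9a320457, 0xbc269ac9d65448c5be8831c6d28820),
    (55440, 0x46954b2ce3c0b241a6b7a9a320457, 0xba63074ab424d4c5b6c828cef30820),
    (27720, 0x46954b2ce3c0b241a6b7a9a320457, 0xbb4ef348a4a0ecc5a548ace3070820),
    (443520, 0x46954b2ce3c0b241a6b7a9a320457, 0xbad106be349166cb1d35519c410c20),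
    (221760, 0x46954b2ce3c0b241a6b7a9a320457, 0xbaa959ca28795a93d990591c610c20),
    (13860, 0x46954b2ce3c0b241a6b7a9a320457, 0x4133a31d63c5b259aa87a8a418837),
    (110880, 0x46954b2ce3c0b241a6b7a9a320457, 0x351459e30516c69bd35931c418837),
    (221760, 0x46954b2ce3c0b241a6b7a9a320457, 0x3eb03ae34b154c93488999c918837),
    (55440, 0x46954b2ce3c0b241a6b7a9a320457, 0x59e6549d0ac48c44ceb4d0ad18837),
    (55440, 0x46954b2ce3c0b241a6b7a9a320457, 0x4eb0b2a343b9666c9287b0a410c37),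
    (1386, 0x46954b2ce3c0b241a6b7a9a320457, 0x46954b2ce3c0b241a6b7a9a320457),
    (110880, 0x46954b2ce3c0b241a6b7a9a320457, 0x3a68aa9a565a2f4c97431e0320457),
    (55440, 0x46954b2ce3c0b241a6b7a9a320457, 0x366faadc4a46c89254c31c7028457),
    (110880, 0x46954b2ce3c0b241a6b7a9a320457, 0x3e2d72eaab4e889408c28ce930457),
    (443520, 0x46954b2ce3c0b241a6b7a9a320457, 0x49ca2d8e84d58d251f088e6b30457),
    (6930, 0x46954b2ce3c0b241a6b7a9a320457, 0x3933a32113587241eab53c8568457),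
    (27720, 0x46954b2ce3c0b241a6b7a9a320457, 0x34ca3b0a448ed2451eb9d63070457),
    (221760, 0x46954b2ce3c0b241a6b7a9a320457, 0x21b129e8952ea673e169326209077),
    (887040, 0x46954b2ce3c0b241a6b7a9a320457, 0x26486d5cf8466752ed46104609477),
    (55440, 0x46954b2ce3c0b241a6b7a9a320457, 0x40e6531d64c5726cde4ad04809477)]

def tabsT : List (List (ℕ × ℕ × ℕ)) := [tabT0, tabT1, tabT2, tabT3]

def covT : Cover :=
  ⟨xT, 887040,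
   [0xb82d5a4e5183dcd62d4941cc520c41, 0x5883388a1c8f5140b46cd317aed7, 0xbba8ab116d7c52899d90286a219a40],
   [[[0]],
    [[0,1,2]],
    [[0,1,2],[0,2],[0,2]],
    [[1],[0,2],[0],[0,1,2],[0,2],[0,1],[0]],
    [[0],[0,1,2],[0],[0,1],[0,1,2],[2],[0,2],[0,1,2],[0],[0,1,2],[0],[1]],
    [[0,1,2],[0,1,2],[2],[0,2],[0,1,2],[0,1,2],[0],[0,1,2],[0,2],[0,2],[0,2],[0,1,2],[0,2],[0,1,2],[],[0,2],[0,1,2],[],[0,2],[0],[0,1,2],[0]],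
    [[0,1,2],[2],[2],[],[0,2],[0],[0,2],[0,1,2],[0],[1,2],[2],[0,2],[1,2],[0,2],[2],[0,2],[0,1],[0,2],[2],[0],[0,2],[0,2],[0,2],[1],[],[0,1,2],[0],[2],[0,1,2],[],[2],[],[],[0],[0],[0],[2],[2],[0,2],[0],[],[0,1,2],[2],[0,2],[0,1,2]],
    [[0,1],[0],[0],[0],[0,2],[0,1,2],[],[1,2],[1],[0],[0],[0],[2],[],[0,2],[0],[2],[0,2],[0],[0,2],[],[0,2],[0],[],[0,2],[0],[1],[0],[1,2],[0,2],[],[0,1,2],[0,1,2],[2],[0,2],[2],[1,2],[0,2],[],[0,1],[0],[],[0],[0],[0],[2],[2],[0],[1],[0,1,2],[2],[2],[0],[1],[0],[],[0],[0,2],[0],[2],[0,2],[],[],[2],[]],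
    [[0],[0],[2],[],[0],[],[0,2],[0],[],[],[],[2],[0],[0],[2],[0],[0,2],[2],[0],[],[0],[2],[],[],[0],[],[2],[0],[],[0],[0],[],[],[0],[],[],[0,2],[],[0],[2],[],[1,2],[],[2],[],[],[2],[],[],[],[],[],[],[],[],[0,1],[],[1],[2],[],[0],[0],[],[],[],[],[],[],[],[],[0],[],[],[],[],[],[],[]],
    [[],[],[],[],[],[0],[],[],[],[],[],[],[],[2],[],[],[],[],[],[],[1],[],[],[],[],[],[],[],[],[],[],[],[],[],[],[],[],[],[]]],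
   [rowT0, rowT1, rowT2, rowT3],
   [(0x5a69ab230539b243e8b31ca418457, 6, 0x588f3b49d135c0f611a9ac0a30d10a, 1, 0),
    (0x5a69ab230539b243e8b31ca418457, 18, 0x20acf3d02083ae86d6534b2251ad46, 1, 0),
    (0x5a69ab230539b243e8b31ca418457, 20, 0x504c921e2085c569558f4506e2cdab, 1, 0),
    (0x5a69ab230539b243e8b31ca418457, 34, 0x515a69a2ee78414b488762471142ab, 1, 0),
    (0x5a69ab230539b243e8b31ca418457, 36, 0x5c5af99ee1a005632244854657258a, 1, 0),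
    (0x5a69ab230539b243e8b31ca418457, 48, 0x4869541817544447ae123d8a37366c, 1, 0),
    (0x5a69ab230539b243e8b31ca418457, 65, 0x7b52ea8163b08b764232a4d040a8c7, 2, 0),
    (0x5a69ab230539b243e8b31ca418457, 403, 0xb09326541150dd022de6450b70b667, 1, 0),
    (0x5a69ab230539b243e8b31ca418457, 419, 0x814cd21c37438564d26c52c608be55, 1, 0),
    (0x5a69ab230539b243e8b31ca418457, 433, 0x9454c5d0413140881135b1dd71b66f, 1, 0),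
    (0x5a69ab230539b243e8b31ca418457, 439, 0x595e99202e6de343cd9621860142aa, 1, 0),
    (0x5a69ab230539b243e8b31ca418457, 468, 0x78ec98302d8a05253aa69d08b282e7, 2, 0),
    (0x5a69ab230539b243e8b31ca418457, 640, 0x9a010bbca352c8771ad14d5a20b254, 2, 0),
    (0x5a69ab230539b243e8b31ca418457, 725, 0xa95f39504e60e28b25a721ae00a970, 1, 0),
    (0x5a69ab230539b243e8b31ca418457, 739, 0x9812f61a2350824aae50a21c5bd8ed, 1, 0),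
    (0x5a69ab230539b243e8b31ca418457, 789, 0xab60fb31020157235cea9d02323a29, 2, 0),
    (0x5a69ab230539b243e8b31ca418457, 838, 0x40de7912f1494265b2caac00e14db4, 1, 0),
    (0x5a69ab230539b243e8b31ca418457, 866, 0x814d4230717dc495c90a3d80174db5, 1, 0),
    (0x5a69ab230539b243e8b31ca418457, 868, 0xa096c53e21696f234d2485403758e8, 1, 0),
    (0x5a69ab230539b243e8b31ca418457, 886, 0x485f6941c06887524ce652ee58a28c, 1, 0),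
    (0x5a69ab230539b243e8b31ca418457, 1026, 0x95ecd3ae2e8080a65669218a30d10f, 1, 0),
    (0x5a69ab230539b243e8b31ca418457, 1028, 0x55e5079845380246dab34b22e1d10b, 1, 0),
    (0x5a69ab230539b243e8b31ca418457, 1040, 0x202b385877438474d1ac93c258ad46, 1, 0),
    (0x5a69ab230539b243e8b31ca418457, 1056, 0x55c8935801945c7abd909b4451d10b, 1, 0),
    (0x5a69ab230539b243e8b31ca418457, 1141, 0x94f349688846ca38f3b40a46a6b7, 2, 0),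
    (0x5a69ab230539b243e8b31ca418457, 1413, 0x5c6547a4419946c3b516856ee0188a, 1, 0),
    (0x5a69ab230539b243e8b31ca418457, 1459, 0x9dd16a244150e2c22ce6ac0a073e4d, 1, 0),
    (0x5a69ab230539b243e8b31ca418457, 1504, 0x4ae919c04591076bb1c079c286a8d5, 2, 0),
    (0x5a69ab230539b243e8b31ca418457, 1716, 0x805f73d0857205354406aa5636c996, 2, 0),
    (0x5a69ab230539b243e8b31ca418457, 1731, 0x339b69d6f1608707a4f2450a102d44, 1, 0),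
    (0x5a69ab230539b243e8b31ca418457, 1761, 0x7baa883462314135128b62621b9ed2, 1, 0),
    (0x5a69ab230539b243e8b31ca418457, 1767, 0x58cd322222780b4849b54b02eb9eca, 1, 0),
    (0x5a69ab230539b243e8b31ca418457, 1779, 0xb08c823c205b8724aa8c9b4b1bd607, 1, 0),
    (0x5a69ab230539b243e8b31ca418457, 1825, 0x916d482828391664be75b80436c5cc, 2, 0),
    (0x5a69ab230539b243e8b31ca418457, 1872, 0x5068f424a23446c9924d3d9d7042ab, 1, 0),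
    (0x5a69ab230539b243e8b31ca418457, 1894, 0x301505c8b1b386f61ea9a22e20b664, 1, 0),
    (0x46954b2ce3c0b241a6b7a9a320457, 20, 0x1b04143657702a53c56f85a934a8c4, 3, 0),
    (0x46954b2ce3c0b241a6b7a9a320457, 65, 0x93d6815ce6728604d833844856d2ac, 3, 0),
    (0x46954b2ce3c0b241a6b7a9a320457, 468, 0x9b8642d6163c514929ac7996115c09, 3, 0),
    (0x46954b2ce3c0b241a6b7a9a320457, 485, 0xa8cca3a48503433849eebb04b446d4, 3, 0),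
    (0x46954b2ce3c0b241a6b7a9a320457, 768, 0x43ae090616346826bd8551ea99906b, 3, 0),
    (0x46954b2ce3c0b241a6b7a9a320457, 868, 0x3220e8bd6268407a8ed4292ec94d2a, 3, 0),
    (0x46954b2ce3c0b241a6b7a9a320457, 1056, 0x6dd6808c0cb4a643404a8b935a3ce5, 3, 0),
    (0x46954b2ce3c0b241a6b7a9a320457, 1141, 0xbdab49ca307b9ac5a928398a418820, 3, 0),
    (0x46954b2ce3c0b241a6b7a9a320457, 1489, 0x2250b0b67595145b005165cc77ba03, 3, 0),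
    (0x46954b2ce3c0b241a6b7a9a320457, 1504, 0x4a1463d16120a15035f7195d1b3253, 3, 0),
    (0x46954b2ce3c0b241a6b7a9a320457, 1844, 0x8b592bb8a430d70a9c1453d0114d36, 3, 0),
    (0x46954b2ce3c0b241a6b7a9a320457, 1872, 0xb3422440a4a8e4e7cd67a2597028d1, 3, 0)]⟩

end Cfsg.Agent.J4Type.Order
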