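import Cfsg.Agent.Lib.GolayClasses.Enum

/-
Groups of Janko-four type, order formula: products of coded permutations and lists reached from a
seed by a plan of generators (owner: helper43).

Main results: `fn_mk`, `Cod`, `Cod.comp`, `Cod.conj`, `mem_run`, `card_of_allNew`.
-/

set_option autoImplicit false
open Cfsg Cfsg.Agent.Golay

namespace Cfsg.Agent.J4Type.Order

/-- The code with the values `f i`, `i < n`, five bits each. -/
def mkAux (f : ℕ → ℕ) : ℕ → ℕ
  | 0 => 0
  | n + 1 => mkAux f n + f n * 2 ^ (5 * n)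

/-- The code of a function on the 24 bit indices. -/
def mk (f : ℕ → ℕ) : ℕ := mkAux f 24

theorem fn_eq (d i : ℕ) : fn d i = d / 2 ^ (5 * i) % 32 := by
  rw [fn, show (31 : ℕ) = 2 ^ 5 - 1 from rfl, Nat.and_two_pow_sub_one_eq_mod,
    Nat.shiftRight_eq_div_pow]

theorem mkAux_lt {f : ℕ → ℕ} : ∀ {n : ℕ}, (∀ i < n, f i < 32) → mkAux f n < 2 ^ (5 * n)
  | 0, _ => by simp [mkAux]
  | n + 1, h => by
    have h1 := mkAux_lt (n := n) fun i hi => h i (by omega)
    have h2 := h n (by omega)
    rw [mkAux, show 2 ^ (5 * (n + 1)) = 32 * 2 ^ (5 * n) by rw [Nat.mul_succ, pow_add]; ring]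
    nlinarith [Nat.mul_le_mul_right (2 ^ (5 * n)) (Nat.le_sub_one_of_lt h2)]

theorem mkAux_fn {f : ℕ → ℕ} : ∀ {n : ℕ}, (∀ i < n, f i < 32) → ∀ i < n, fn (mkAux f n) i = f i
  | 0, _, i, hi => by omega
  | n + 1, h, i, hi => by
    have h1 : mkAux f n < 2 ^ (5 * n) := mkAux_lt fun j hj => h j (by omega)
    rcases Nat.lt_succ_iff_lt_or_eq.mp hi with hi' | rfl
    · rw [← mkAux_fn (n := n) (fun j hj => h j (by omega)) i hi', fn_eq, fn_eq, mkAux]
      have hk : 2 ^ (5 * n) = 2 ^ (5 * i) * (32 * 2 ^ (5 * (n - i - 1))) := by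
        rw [show (32 : ℕ) = 2 ^ 5 from rfl, ← pow_add, ← pow_add]
        congr 1
        omega
      rw [hk, show f n * (2 ^ (5 * i) * (32 * 2 ^ (5 * (n - i - 1)))) =
        2 ^ (5 * i) * (32 * (f n * 2 ^ (5 * (n - i - 1)))) by ring,
        Nat.add_mul_div_left _ _ (by positivity), Nat.add_mul_mod_self_left]
    · rw [fn_eq, mkAux, Nat.add_mul_div_right _ _ (by positivity), Nat.div_eq_of_lt h1,
        zero_add, Nat.mod_eq_of_lt (h i (by omega))]

theorem fn_mk {f : ℕ → ℕ} (h : ∀ i < 24, f i < 32) {i : ℕ} (hi : i < 24) : fn (mk f) i = f i :=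
  mkAux_fn h i hi

/-- `d` codes `σ`. -/
def Cod (d : ℕ) (σ : Equiv.Perm GolayPt) : Prop := ∀ p, idx (σ p) = fn d (idx p)

theorem Cod.inj {d : ℕ} {σ τ : Equiv.Perm GolayPt} (h : Cod d σ) (h' : Cod d τ) : σ = τ :=
  Equiv.ext fun p => idx_injective ((h p).trans (h' p).symm)

theorem cod_toPerm {d : ℕ} (hd : validPerm d = true) : Cod d (toPerm d) := idx_toPerm hd

/-- The code of a product. -/
def comp (a b : ℕ) : ℕ := mk fun i => fn a (fn b i)

/-- The code of a conjugate; `gi` codes the inverse of `g`. -/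
def conjc (g gi d : ℕ) : ℕ := mk fun i => fn g (fn d (fn gi i))

theorem fn_lt32 (d i : ℕ) : fn d i < 32 := by rw [fn_eq]; exact Nat.mod_lt _ (by norm_num)

theorem Cod.comp {a b : ℕ} {σ τ : Equiv.Perm GolayPt} (ha : Cod a σ) (hb : Cod b τ) :
    Cod (Order.comp a b) (σ * τ) := fun p => by
  rw [Order.comp, fn_mk (fun i _ => fn_lt32 _ _) (idx_lt p), ← hb, ← ha, Equiv.Perm.mul_apply]

theorem Cod.conj {g gi d : ℕ} {γ σ : Equiv.Perm GolayPt} (hg : Cod g γ) (hgi : Cod gi γ⁻¹)
    (hd : Cod d σ) : Cod (conjc g gi d) (γ * σ * γ⁻¹) := fun p => by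
  rw [conjc, fn_mk (fun i _ => fn_lt32 _ _) (idx_lt p), ← hgi, ← hd, ← hg]
  rfl

/-! ### Plans -/

/-- A generator applied by number; `0` stands for no generator. -/
def stepBy (op : ℕ → ℕ → ℕ) (gens : List ℕ) (x i : ℕ) : ℕ :=
  match gens[i]? with
  | none => x
  | some g => op g x

/-- The new members found from a layer. -/
def nextLayer (op : ℕ → ℕ → ℕ) (gens : List ℕ) : List ℕ → List (List ℕ) → List ℕ
  | x :: xs, is :: ps => is.map (stepBy op gens x) ++ nextLayer op gens xs ps
  | [], _ => []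
  | _ :: _, [] => []

/-- All members reached by the plan. -/
def runPlan (op : ℕ → ℕ → ℕ) (gens : List ℕ) : List ℕ → List (List (List ℕ)) → List ℕ
  | cur, [] => cur
  | cur, p :: ps => cur ++ runPlan op gens (nextLayer op gens cur p) ps

theorem mem_run {op : ℕ → ℕ → ℕ} {gens : List ℕ} {P : ℕ → Prop}
    (hop : ∀ g ∈ gens, ∀ x, P x → P (op g x)) : ∀ (ps : List (List (List ℕ))) (cur : List ℕ),
    (∀ x ∈ cur, P x) → ∀ y ∈ runPlan op gens cur ps, P y := by
  have hnext : ∀ (cur : List ℕ) (p : List (List ℕ)), (∀ x ∈ cur, P x) →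
      ∀ y ∈ nextLayer op gens cur p, P y := by
    intro cur
    induction cur with
    | nil => intro p _ y hy; simp [nextLayer] at hy
    | cons x xs ih =>
      intro p hc y hy
      cases p with
      | nil => simp [nextLayer] at hy
      | cons is ps =>
        rw [nextLayer, List.mem_append] at hy
        rcases hy with hy | hy
        · obtain ⟨i, -, rfl⟩ := List.mem_map.mp hy
          unfold stepBy
          cases hg : gens[i]? with
          | none => exact hc x List.mem_cons_self
          | some g => exact hop g (List.mem_of_getElem? hg) x (hc x List.mem_cons_self)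
        · exact ih ps (fun z hz => hc z (List.mem_cons_of_mem _ hz)) y hy
  intro ps
  induction ps with
  | nil => intro cur hc y hy; exact hc y hy
  | cons p ps ih =>
    intro cur hc y hy
    rw [runPlan, List.mem_append] at hy
    rcases hy with hy | hy
    · exact hc y hy
    · exact ih _ (hnext cur p hc) y hy

/-- The images of the base, packed. -/
def key (d : ℕ) : ℕ := GolayClasses.frameKey d

theorem nodup_of_allNew {E : List ℕ} {φ : ℕ → Equiv.Perm GolayPt}
    (hkey : GolayOrbitLists.allNew (E.map key) .nil = true) (hc : ∀ d ∈ E, Cod d (φ d)) :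
    (E.map φ).Nodup := by
  have hnd := (GolayOrbitLists.allNew_spec _ _ hkey).1
  refine (List.nodup_map_iff_inj_on (List.Nodup.of_map _ hnd)).mpr fun a ha b hb h => ?_
  refine List.inj_on_of_nodup_map hnd ha hb ?_
  have hbv : ∀ x ∈ baseIdx, fn a x = fn b x := fun x hx => by
    have hx' : x < 24 := (by decide : ∀ x ∈ baseIdx, x < 24) x hx
    rw [← idx_pt hx', ← hc a ha, ← hc b hb, h]
  simp only [key, GolayClasses.frameKey]
  generalize baseIdx = l at hbv ⊢
  induction l with
  | nil => rfl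
  | cons x l ih =>
    rw [List.foldr_cons, List.foldr_cons, hbv x List.mem_cons_self,
      ih fun y hy => hbv y (List.mem_cons_of_mem _ hy)]

end Cfsg.Agent.J4Type.Order
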