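/-
The order formula for two classes of involutions, with the pairs inside the centraliser (helper3).

* `pairSet z t x` : pairs in the classes of `z` and `t` centralising `x`, with `x` a power of the product
* `ncard_pairSet_congr` : it only depends on the three classes
* `natCard_eq` : `|G| = a(z) |C(t)| + a(t) |C(z)|`
-/
import Cfsg.Agent.EqLemmas
import Cfsg.Agent.S0213

set_option autoImplicit false

namespace Cfsg.Agent.J4Type.Order

variable {G : Type*} [Group G]

/-- Pairs in the classes of `z` and `t` that centralise `x` and have `x` as a power of their product. -/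
def pairSet (z t x : G) : Set (G × G) :=
  {p | IsConj z p.1 ∧ IsConj t p.2 ∧ p.1 * x = x * p.1 ∧ p.2 * x = x * p.2 ∧
    x ∈ Subgroup.zpowers (p.1 * p.2)}

theorem pairSet_congr_left {z z' t t' : G} (x : G) (hz : IsConj z z') (ht : IsConj t t') :
    pairSet z t x = pairSet z' t' x := by
  ext p
  exact ⟨fun h => ⟨hz.symm.trans h.1, ht.symm.trans h.2.1, h.2.2⟩,
    fun h => ⟨hz.trans h.1, ht.trans h.2.1, h.2.2⟩⟩

theorem ncard_pairSet_conj (z t x g : G) :
    (pairSet z t (g * x * g⁻¹)).ncard = (pairSet z t x).ncard := by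
  have hf : Function.Injective (fun p : G × G => (g * p.1 * g⁻¹, g * p.2 * g⁻¹)) := fun p p' h => by
    simp only [Prod.mk.injEq, mul_left_inj, mul_right_inj] at h
    exact Prod.ext h.1 h.2
  rw [← Set.ncard_image_of_injective (pairSet z t x) hf]
  congr 1
  ext ⟨u, v⟩
  have hcls : ∀ a b : G, IsConj a b ↔ IsConj a (g * b * g⁻¹) := fun a b =>
    ⟨fun h => h.trans (isConj_iff.2 ⟨g, rfl⟩), fun h => h.trans (isConj_iff.2 ⟨g, rfl⟩).symm⟩
  have hcomm : ∀ a b : G, a * b = b * a ↔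
      (g * a * g⁻¹) * (g * b * g⁻¹) = (g * b * g⁻¹) * (g * a * g⁻¹) := fun a b => by
    rw [conj_mul, conj_mul, mul_left_inj, mul_right_inj]
  have hzp : ∀ a b : G, x ∈ Subgroup.zpowers (a * b) ↔
      g * x * g⁻¹ ∈ Subgroup.zpowers ((g * a * g⁻¹) * (g * b * g⁻¹)) := fun a b => by
    rw [show (g * a * g⁻¹) * (g * b * g⁻¹) = (MulAut.conj g).toMonoidHom (a * b) by simp [mul_assoc],
      ← MonoidHom.map_zpowers]
    exact (Subgroup.mem_map_iff_mem (f := (MulAut.conj g).toMonoidHom) (MulAut.conj g).injective).symm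
  constructor
  · rintro ⟨hu, hv, cu, cv, hx⟩
    have eu : g * (g⁻¹ * u * g) * g⁻¹ = u := by group
    have ev : g * (g⁻¹ * v * g) * g⁻¹ = v := by group
    refine ⟨(g⁻¹ * u * g, g⁻¹ * v * g), ⟨(hcls z _).2 (by rwa [eu]), (hcls t _).2 (by rwa [ev]),
      (hcomm _ _).2 (by rwa [eu]), (hcomm _ _).2 (by rwa [ev]), (hzp _ _).2 (by rwa [eu, ev])⟩, ?_⟩
    simp only [eu, ev]
  · rintro ⟨⟨a, b⟩, ⟨hu, hv, cu, cv, hx⟩, h⟩
    simp only [Prod.mk.injEq] at h
    obtain ⟨rfl, rfl⟩ := h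
    exact ⟨(hcls z a).1 hu, (hcls t b).1 hv, (hcomm a x).1 cu, (hcomm b x).1 cv, (hzp a b).1 hx⟩

theorem ncard_pairSet_congr {z z' t t' x x' : G} (hz : IsConj z z') (ht : IsConj t t') (hx : IsConj x x') :
    (pairSet z t x).ncard = (pairSet z' t' x').ncard := by
  obtain ⟨g, rfl⟩ := isConj_iff.1 hx
  rw [ncard_pairSet_conj, pairSet_congr_left x hz ht]

/-- A central-in-the-dihedral-group condition is automatic for an involution. -/
theorem comm_of_mem_zpowers {u v x : G} (hu : u * u = 1) (hv : v * v = 1) (hx : x * x = 1)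
    (h : x ∈ Subgroup.zpowers (u * v)) : u * x = x * u ∧ v * x = x * v := by
  obtain ⟨k, rfl⟩ := Subgroup.mem_zpowers_iff.1 h
  have hu' : u⁻¹ = u := inv_eq_of_mul_eq_one_left hu
  have hv' : v⁻¹ = v := inv_eq_of_mul_eq_one_left hv
  have hinv : ((u * v) ^ k)⁻¹ = (u * v) ^ k := inv_eq_of_mul_eq_one_left hx
  have e1 : u * (u * v) ^ k * u⁻¹ = ((u * v) ^ k)⁻¹ := by
    rw [← conj_zpow, ← inv_zpow]
    congr 1
    rw [_root_.mul_inv_rev, hv', ← mul_assoc u u v, hu, one_mul, hu']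
  have e2 : v * (u * v) ^ k * v⁻¹ = ((u * v) ^ k)⁻¹ := by
    rw [← conj_zpow, ← inv_zpow]
    congr 1
    rw [_root_.mul_inv_rev, hu', ← mul_assoc v u v, mul_assoc (v * u) v, hv', hv, mul_one]
  rw [hinv] at e1 e2
  exact ⟨mul_inv_eq_iff_eq_mul.1 e1, mul_inv_eq_iff_eq_mul.1 e2⟩

/-- **The order formula.** -/
theorem natCard_eq [Finite G] {z t : G} (hz : orderOf z = 2) (ht : orderOf t = 2) (hzt : ¬ IsConj z t)
    (hcls : ∀ u, orderOf u = 2 → IsConj z u ∨ IsConj t u) :
    Nat.card G = (pairSet z t z).ncard * Nat.card (Subgroup.centralizer ({t} : Set G)) +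
      (pairSet z t t).ncard * Nat.card (Subgroup.centralizer ({z} : Set G)) := by
  have hsq : ∀ {a b : G}, IsConj a b → orderOf a = 2 → b * b = 1 := fun {a b} h ha => by
    rw [← pow_two, ← orderOf_dvd_iff_pow_eq_one, ← Involution.orderOf_eq_of_isConj h, ha]
  have key : ∀ x : G, orderOf x = 2 →
      Nat.card {p : G × G // IsConj z p.1 ∧ IsConj t p.2 ∧ x ∈ Subgroup.zpowers (p.1 * p.2)} =
        (pairSet z t x).ncard := by
    intro x hx
    rw [← Nat.card_coe_set_eq]
    refine Nat.card_congr (Equiv.subtypeEquivRight fun p => ?_)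
    constructor
    · rintro ⟨h1, h2, h3⟩
      obtain ⟨c1, c2⟩ := comm_of_mem_zpowers (hsq h1 hz) (hsq h2 ht) (hsq (IsConj.refl x) hx) h3
      exact ⟨h1, h2, c1, c2, h3⟩
    · rintro ⟨h1, h2, -, -, h3⟩
      exact ⟨h1, h2, h3⟩
  rw [S0213.result z t hz ht hzt hcls, key z hz, key t ht, mul_comm, mul_comm (Nat.card (Subgroup.centralizer ({z} : Set G)))]

end Cfsg.Agent.J4Type.Order
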