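import Cfsg.Agent.Lib.J4Type.Order.RowT0
import Cfsg.Agent.Lib.J4Type.Order.RowT1
import Cfsg.Agent.Lib.J4Type.Order.RowT2
import Cfsg.Agent.Lib.J4Type.Order.RowT3

/-
Groups of Janko-four type, order formula: the involutions of the stabiliser of a duad in M24 (owner: helper43).

Main result: `checkedT`.
-/

set_option autoImplicit false
set_option maxRecDepth 100000
set_option exponentiation.threshold 4096
open scoped Pointwise
open Cfsg Cfsg.Agent.Golay Cfsg.Agent.J4Type.TwoTen

namespace Cfsg.Agent.J4Type.Order

/-- The bit set of the coordinates of the duads. -/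
def duadBits : ℕ := (List.range 24).foldr (fun i acc => (List.range 24).foldr (fun j acc =>
  (bif i == j then 0 else 2 ^ q (1 <<< i ^^^ 1 <<< j)) ||| acc) acc) 0

/-- A coordinate of a duad. -/
def clsT (c : ℕ) : Bool := duadBits.testBit c

theorem clsT_pairs : ∀ i < 24, ∀ j < 24, i ≠ j → clsT (q (1 <<< i ^^^ 1 <<< j)) = true := by
  decide +kernel

theorem xT_eq : xT = q (1 <<< 23 ^^^ 1 <<< 0) := by decide +kernel

theorem actP_pair {g : Equiv.Perm GolayPt} (hg : g ∈ M24) {i j : ℕ} (hi : i < 24) (hj : j < 24) :
    actP g (q (1 <<< i ^^^ 1 <<< j)) =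
      q (1 <<< idx (g (pt i)) ^^^ 1 <<< idx (g (pt j))) := by
  have hm : (1 <<< i ^^^ 1 <<< j) < 2 ^ 24 := Nat.xor_lt_two_pow
    (by rw [Nat.one_shiftLeft]; exact Nat.pow_lt_pow_right (by omega) hi)
    (by rw [Nat.one_shiftLeft]; exact Nat.pow_lt_pow_right (by omega) hj)
  have hs : ∑ p, word (1 <<< i ^^^ 1 <<< j) p = 0 := by
    have hall : ∀ i < 24, ∀ j < 24, popcount (1 <<< i ^^^ 1 <<< j) % 2 = 0 := by decide +kernel
    rw [sum_word, ZMod.natCast_eq_zero_iff_even, Nat.even_iff]
    exact hall i hi j hj
  have hc := q_maskOf hg (isCode_lift_q hm hs)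
  rw [maskOf_smul_xor, q_xor, Nat.xor_eq_zero_iff] at hc
  show q (maskOf (g • pts (lift (q (1 <<< i ^^^ 1 <<< j))))) = _
  rw [← hc, maskOf_smul_xor]
  congr 1
  have one : ∀ k < 24, maskOf (g • pts (1 <<< k)) = 1 <<< idx (g (pt k)) := by
    intro k hk
    have hp : ∀ k < 24, pts (1 <<< k) = {pt k} := by decide +kernel
    have hp' : ∀ p : GolayPt, pts (1 <<< idx p) = {p} := by decide +kernel
    have hl : ∀ k < 24, (1 : ℕ) <<< k < 2 ^ 24 := by decide +kernel
    rw [hp k hk, Finset.smul_finset_singleton, Equiv.Perm.smul_def, ← hp' (g (pt k)),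
      maskOf_pts (hl _ (idx_lt _))]
  rw [one i hi, one j hj]

theorem clsT_orbit : ∀ g ∈ M24, clsT (actP g covT.x) = true := by
  intro g hg
  show clsT (actP g xT) = true
  rw [xT_eq, actP_pair hg (by norm_num) (by norm_num)]
  exact clsT_pairs _ (idx_lt _) _ (idx_lt _) fun h =>
    absurd (g.injective (idx_injective h)) (by decide +kernel)

theorem covT_order : covT.checkOrder = true := by decide +kernel

theorem covT_cover : covT.checkCover clsT = true := by decide +kernel

theorem checkedT : Checked covT 2872 clsT tabsT where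
  order := covT_order
  covers := covT_cover
  cls_orbit := clsT_orbit
  total := by decide +kernel
  len := rfl
  cen := by
    intro r hr
    simp only [covT, List.mem_cons, List.not_mem_nil, or_false] at hr
    rcases hr with rfl | rfl | rfl | rfl
    · exact rowT0_cen
    · exact rowT1_cen
    · exact rowT2_cen
    · exact rowT3_cen
  orbs := by
    intro e he
    simp only [covT, tabsT, List.zip_cons_cons, List.zip_nil_right, List.mem_cons,
      List.not_mem_nil, or_false] at he
    rcases he with rfl | rfl | rfl | rfl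
    · exact rowT0_orbs
    · exact rowT1_orbs
    · exact rowT2_orbs
    · exact rowT3_orbs
  first := by
    intro r hr
    obtain rfl : rowT0 = r := by simpa [covT] using hr
    decide +kernel

end Cfsg.Agent.J4Type.Order
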