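import Cfsg.Agent.Lib.J4Type.Order.RowS0
import Cfsg.Agent.Lib.J4Type.Order.RowS1
import Cfsg.Agent.Lib.J4Type.Order.RowS2
import Cfsg.Agent.Lib.J4Type.Order.RowS3
import Cfsg.Agent.Lib.J4Type.Order.RowS4
import Cfsg.Agent.Lib.J4Type.Order.RowS5
import Cfsg.Agent.Lib.J4Type.Order.RowS6
import Cfsg.Agent.Lib.J4Type.Order.InvT

/-
Groups of Janko-four type, order formula: the involutions of the stabiliser of a sextet in M24 (owner: helper43).

Main result: `checkedS`.
-/

set_option autoImplicit false
set_option maxRecDepth 100000
set_option exponentiation.threshold 4096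
open scoped Pointwise
open Cfsg Cfsg.Agent.Golay Cfsg.Agent.J4Type.TwoTen

namespace Cfsg.Agent.J4Type.Order

/-- A non-zero coordinate that is none of a duad. -/
def clsS (c : ℕ) : Bool := c != 0 && !clsT c

theorem duad_cases : allBits (fun c => !clsT c || (List.range 24).any fun i =>
    (List.range 24).any fun j => i != j && q (1 <<< i ^^^ 1 <<< j) == c) 11 0 = true := by
  decide +kernel

theorem xS_facts : clsT xS = false ∧ xS ≠ 0 ∧ xS < 2048 ∧ q 0 = 0 := by decide +kernel

theorem clsS_orbit : ∀ g ∈ M24, clsS (actP g covS.x) = true := by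
  intro g hg
  show clsS (actP g xS) = true
  set c := actP g xS with hc
  have hx := xS_facts.2.2.1
  have hback : actP g⁻¹ c = xS := by
    rw [hc, ← actP_mul (inv_mem hg), inv_mul_cancel, actP_one hx]
  simp only [clsS, Bool.and_eq_true, bne_iff_ne, ne_eq, Bool.not_eq_true']
  refine ⟨fun h0 => xS_facts.2.1 ?_, Bool.eq_false_iff.2 fun hd => ?_⟩
  · rw [← hback, h0]
    have := actP_xor g⁻¹ 0 0
    simpa using this
  · have h := forall_lt_two_pow duad_cases (k := 11) (actP_lt' g xS)
    simp only [← hc, hd, Bool.not_true, Bool.false_or, List.any_eq_true, List.mem_range,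
      Bool.and_eq_true, bne_iff_ne, ne_eq, beq_iff_eq] at h
    obtain ⟨i, hi, j, hj, hij, e⟩ := h
    rw [← e, actP_pair (inv_mem hg) hi hj] at hback
    have hf := clsT_pairs _ (idx_lt (g⁻¹ (pt i))) _ (idx_lt (g⁻¹ (pt j))) fun h =>
      hij (by simpa [idx_pt hi, idx_pt hj] using congrArg idx (g⁻¹.injective (idx_injective h)))
    rw [hback, xS_facts.1] at hf
    exact Bool.false_ne_true hf

theorem covS_order : covS.checkOrder = true := by decide +kernel

theorem covS_cover : covS.checkCover clsS = true := by decide +kernel

theorem checkedS : Checked covS 1504 clsS tabsS where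
  order := covS_order
  covers := covS_cover
  cls_orbit := clsS_orbit
  total := by decide +kernel
  len := rfl
  cen := by
    intro r hr
    simp only [covS, List.mem_cons, List.not_mem_nil, or_false] at hr
    rcases hr with rfl | rfl | rfl | rfl | rfl | rfl | rfl
    · exact rowS0_cen
    · exact rowS1_cen
    · exact rowS2_cen
    · exact rowS3_cen
    · exact rowS4_cen
    · exact rowS5_cen
    · exact rowS6_cen
  orbs := by
    intro e he
    simp only [covS, tabsS, List.zip_cons_cons, List.zip_nil_right, List.mem_cons,
      List.not_mem_nil, or_false] at he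
    rcases he with rfl | rfl | rfl | rfl | rfl | rfl | rfl
    · exact rowS0_orbs
    · exact rowS1_orbs
    · exact rowS2_orbs
    · exact rowS3_orbs
    · exact rowS4_orbs
    · exact rowS5_orbs
    · exact rowS6_orbs
  first := by
    intro r hr
    obtain rfl : rowS0 = r := by simpa [covS] using hr
    decide +kernel

end Cfsg.Agent.J4Type.Order
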