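/-
Two involutions of the centraliser with the central involution in their dihedral group and no common hexad (helper3).

* `OuterFree`, `CommonHexad`, `NoCommonFact` : the vocabulary and the finite fact on the duad stabiliser
* `Setting.isConj_of_no_common` : such involutions are conjugate, given the two fusion facts
-/
import Cfsg.Agent.Lib.J4Type.OctTwo
import Cfsg.Agent.Lib.J4Type.Setup

set_option autoImplicit false
set_option linter.style.haveILetI false

open scoped Pointwise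
open Cfsg Subgroup

namespace Cfsg.Agent.J4Type.Order

open Cfsg.Agent.Golay

/-- An outer element of the duad stabiliser without fixed points. -/
def OuterFree (p : Equiv.Perm GolayPt) : Prop := p pA ≠ pA ∧ ∀ x, p x ≠ x

/-- A hexad fixed by both. -/
def CommonHexad (p q : Equiv.Perm GolayPt) : Prop := ∃ o, HexOct o ∧ p • o = o ∧ q • o = o

/-- An inner and an outer involution without common hexad: the fifth power of their product repairs it. -/
def Repairs (p q : Equiv.Perm GolayPt) : Prop :=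
  p pA = pA ∧ OuterFree q ∧ (p * q) ^ 10 = 1 ∧ CommonHexad p (p * (p * q) ^ 5)

/-- The finite fact. -/
def NoCommonFact : Prop :=
  ∀ p q : Equiv.Perm GolayPt, p ∈ pairStab → q ∈ pairStab → p * p = 1 → q * q = 1 → p ≠ 1 → q ≠ 1 →
    ¬ CommonHexad p q → (OuterFree p ∧ OuterFree q) ∨ Repairs p q ∨ Repairs q p

theorem OuterFree.conj {q g : Equiv.Perm GolayPt} (hq : OuterFree q) (hg : g ∈ pairStab) (hqP : q ∈ pairStab) :
    OuterFree (g * q * g⁻¹) := by
  obtain ⟨h1, hx⟩ := hq
  refine ⟨fun h => h1 ?_, fun x h => hx (g⁻¹ x) (g.injective (by simpa using h))⟩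
  have h' : q (g⁻¹ pA) = g⁻¹ pA := g.injective (by simpa using h)
  rcases (mem_pairStab.1 (inv_mem hg)).2 with ⟨e, -⟩ | ⟨e, -⟩ <;> rw [e] at h'
  · exact h'
  · rcases (mem_pairStab.1 hqP).2 with ⟨a, -⟩ | ⟨-, b⟩
    · exact a
    · exact absurd (b.symm.trans h') pA_ne_pB

theorem exists_hexad_of_involution {q : Equiv.Perm GolayPt} (hq : q ∈ pairStab) (h2 : q * q = 1) :
    ∃ o, HexOct o ∧ q • o = o := by
  have hS : IsPGroup 2 ↥(Subgroup.zpowers q) := by
    rintro ⟨_, i, rfl⟩
    exact ⟨1, Subtype.ext (by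
      show (q ^ i) ^ (2 ^ 1) = 1
      rw [pow_one, ← zpow_natCast, ← _root_.zpow_mul, mul_comm, _root_.zpow_mul, zpow_natCast, pow_two, h2,
        _root_.one_zpow])⟩
  obtain ⟨o, ho, hle⟩ := HexOct.exists_le_stabO hS (Subgroup.zpowers_le.2 hq)
  exact ⟨o, ho, (hle (Subgroup.mem_zpowers q)).2⟩

end Cfsg.Agent.J4Type.Order

namespace Cfsg.Agent.J4Type.Setting

open Cfsg.Agent.Golay Cfsg.Agent.J4Type.Order

variable {G : Type*} [Group G] {z : G} {P : Subgroup G} (S : Setting z P)

/-- A dihedral trick: `u (u v) ^ 5` is a conjugate of `v`. -/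
theorem isConj_five {u v : G} (hu : u * u = 1) (hv : v * v = 1) : IsConj v (u * (u * v) ^ 5) := by
  refine isConj_iff.2 ⟨(v * u) ^ 2, ?_⟩
  have hu' : u⁻¹ = u := inv_eq_of_mul_eq_one_left hu
  have hv' : v⁻¹ = v := inv_eq_of_mul_eq_one_left hv
  simp only [pow_succ, pow_zero, one_mul, _root_.mul_inv_rev, hu', hv', ← mul_assoc, hu]

include S in
/-- **Involutions without common hexad are conjugate.** -/
theorem isConj_of_no_common (hF : NoCommonFact)
    (hi : ∀ u v : ↥(Cz z), orderOf u = 2 → orderOf v = 2 → OuterFree (S.κ u) → OuterFree (S.κ v) →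
      IsConj (u : G) (v : G))
    (hii : ∀ u v : ↥(Cz z), orderOf u = 2 → orderOf v = 2 → S.κ u ≠ 1 → S.κ u pA = pA → OuterFree (S.κ v) →
      S.κ u * S.κ v = S.κ v * S.κ u → CommonHexad (S.κ u) (S.κ v) →
      z ∈ Subgroup.zpowers ((u : G) * (v : G)) → IsConj (u : G) (v : G))
    {u v : ↥(Cz z)} (hu : orderOf u = 2) (hv : orderOf v = 2) (hz : z ∈ Subgroup.zpowers ((u : G) * (v : G)))
    (hno : ¬ CommonHexad (S.κ u) (S.κ v)) : IsConj (u : G) (v : G) := by
  have hsq : ∀ {w : ↥(Cz z)}, orderOf w = 2 → w * w = 1 := fun {w} hw => by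
    rw [← pow_two, ← hw, pow_orderOf_eq_one]
  have hksq : ∀ {w : ↥(Cz z)}, orderOf w = 2 → S.κ w * S.κ w = 1 := fun hw => by
    rw [← map_mul, hsq hw, map_one]
  have hmem : ∀ w : ↥(Cz z), S.κ w ∈ pairStab := fun w => S.κ_range ▸ ⟨w, rfl⟩
  -- the repair
  have key : ∀ u v : ↥(Cz z), orderOf u = 2 → orderOf v = 2 → S.κ u ≠ 1 →
      z ∈ Subgroup.zpowers ((u : G) * (v : G)) → Repairs (S.κ u) (S.κ v) → IsConj (u : G) (v : G) := by
    rintro u v hu hv hu1 hz ⟨hin, hout, h10, hcom⟩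
    set w : ↥(Cz z) := u * (u * v) ^ 5 with hw
    have hvw : IsConj v w := isConj_five (hsq hu) (hsq hv)
    obtain ⟨g, hg⟩ := isConj_iff.1 hvw
    have hκw : S.κ w = S.κ u * (S.κ u * S.κ v) ^ 5 := by rw [hw, map_mul, map_pow, map_mul]
    have hwo : OuterFree (S.κ w) := by
      rw [← hg, map_mul, map_mul, map_inv]
      exact hout.conj (hmem g) (hmem v)
    have hw2 : orderOf w = 2 := by
      rw [← hg, show g * v * g⁻¹ = (MulAut.conj g).toMonoidHom v from rfl,
        orderOf_injective _ (MulAut.conj g).injective, hv]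
    have hcomm : S.κ u * S.κ w = S.κ w * S.κ u := by
      have h1 := hksq hu
      have h2 : S.κ w * S.κ w = 1 := hksq hw2
      have hr : (S.κ u * S.κ w) * (S.κ u * S.κ w) = 1 := by
        rw [hκw, ← mul_assoc (S.κ u) (S.κ u), h1, one_mul, ← pow_add, h10]
      calc S.κ u * S.κ w
          = S.κ u * ((S.κ u * S.κ w) * (S.κ u * S.κ w)) * S.κ w := by rw [hr, mul_one]
        _ = (S.κ u * S.κ u) * (S.κ w * S.κ u) * (S.κ w * S.κ w) := by simp only [mul_assoc]
        _ = S.κ w * S.κ u := by rw [h1, h2, one_mul, mul_one]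
    have hzw : z ∈ Subgroup.zpowers ((u : G) * (w : G)) := by
      have e : (u : G) * (w : G) = ((u : G) * (v : G)) ^ 5 := by
        rw [hw, Subgroup.coe_mul, SubgroupClass.coe_pow, Subgroup.coe_mul, ← mul_assoc,
          show (u : G) * (u : G) = 1 from congrArg Subtype.val (hsq hu), one_mul]
      obtain ⟨k, hk⟩ := Subgroup.mem_zpowers_iff.1 hz
      refine Subgroup.mem_zpowers_iff.2 ⟨k, ?_⟩
      rw [e, ← zpow_natCast, ← _root_.zpow_mul, mul_comm, _root_.zpow_mul, hk, zpow_natCast]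
      have hz2 : z ^ 2 = 1 := by rw [← S.orderOf_z, pow_orderOf_eq_one]
      rw [pow_succ, show 4 = 2 * 2 from rfl, pow_mul, hz2, one_pow, one_mul]
    have h := hii u w hu hw2 hu1 hin hwo hcomm (by rw [hκw]; exact hcom) hzw
    exact h.trans (isConj_iff.2 ⟨(g : G), congrArg Subtype.val hg⟩).symm
  -- both images are involutions
  have hne : ∀ {w w' : ↥(Cz z)}, orderOf w' = 2 → ¬ CommonHexad (S.κ w) (S.κ w') → S.κ w ≠ 1 := by
    intro w w' hw' hno h1
    obtain ⟨o, ho, h⟩ := exists_hexad_of_involution (hmem w') (hksq hw')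
    exact hno ⟨o, ho, by rw [h1, one_smul], h⟩
  have hno' : ¬ CommonHexad (S.κ v) (S.κ u) := fun ⟨o, ho, h1, h2⟩ => hno ⟨o, ho, h2, h1⟩
  rcases hF _ _ (hmem u) (hmem v) (hksq hu) (hksq hv) (hne hv hno) (hne hu hno') hno with h | h | h
  · exact hi u v hu hv h.1 h.2
  · exact key u v hu hv (hne hv hno) hz h
  · refine (key v u hv hu (hne hu hno') ?_ h).symm
    have e : ((v : G) * (u : G)) = ((u : G) * (v : G))⁻¹ := by
      rw [_root_.mul_inv_rev, inv_eq_of_mul_eq_one_left (show (u : G) * u = 1 from congrArg Subtype.val (hsq hu)),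
        inv_eq_of_mul_eq_one_left (show (v : G) * v = 1 from congrArg Subtype.val (hsq hv))]
    rwa [e, Subgroup.zpowers_inv]

end Cfsg.Agent.J4Type.Setting
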