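/-
Double counting of pairs in the centraliser by their common hexads (helper3).

* `hexOcts`, `card_hexOcts` : the 77 hexads, one orbit of the duad stabiliser
* `Setting.fixCount`, `Setting.fixCount_pos_iff` : the hexads fixed by both images
* `Setting.sum_fixCount_mul` : `Σ f W` over pairs with `f ≥ 1` is 77 times the sum inside one hexad stabiliser
-/
import Cfsg.Agent.Lib.J4Type.Order.NoCommon
import Cfsg.Agent.Lib.J4Type.VClasses

set_option autoImplicit false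
set_option linter.style.haveILetI false

open scoped Pointwise
open Cfsg Subgroup

namespace Cfsg.Agent.J4Type.Order

open Cfsg.Agent.Golay Cfsg.Agent.GolayOrbits

open Classical in
/-- The hexads. -/
noncomputable def hexOcts : Finset (Finset GolayPt) := Finset.univ.filter HexOct

theorem mem_hexOcts {o : Finset GolayPt} : o ∈ hexOcts ↔ HexOct o := by
  simp [hexOcts]

theorem exists_smul_hexOct {o o' : Finset GolayPt} (ho : HexOct o) (ho' : HexOct o') :
    ∃ g ∈ pairStab, g • o = o' := by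
  obtain ⟨g, hg, hgo, hga, hgb⟩ := exists_map_octad_pair_in ho.mem ho.a ho.b pA_ne_pB
  obtain ⟨g', hg', hgo', hga', hgb'⟩ := exists_map_octad_pair_in ho'.mem ho'.a ho'.b pA_ne_pB
  refine ⟨g' * g⁻¹, mem_pairStab.2 ⟨mul_mem hg' (inv_mem hg), Or.inl ⟨?_, ?_⟩⟩, ?_⟩
  · rw [Equiv.Perm.mul_apply]
    conv_lhs => rw [← hga, Equiv.Perm.inv_def, Equiv.symm_apply_apply, hga']
  · rw [Equiv.Perm.mul_apply]
    conv_lhs => rw [← hgb, Equiv.Perm.inv_def, Equiv.symm_apply_apply, hgb']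
  · rw [mul_smul, ← hgo, inv_smul_smul, hgo']

/-- There are 77 hexads. -/
theorem card_hexOcts : hexOcts.card = 77 := by
  classical
  obtain ⟨o, ho⟩ := HexOct.exists_hexOct
  rw [← ho.index_stabO, ← Nat.card_eq_finsetCard, Subgroup.index_eq_card]
  symm
  refine Nat.card_eq_of_bijective
    (fun w => ⟨((w.out : ↥pairStab) : Equiv.Perm GolayPt) • o, mem_hexOcts.2 (ho.smul w.out.2)⟩) ⟨?_, ?_⟩
  · intro a b h
    rw [← QuotientGroup.out_eq' a, ← QuotientGroup.out_eq' b]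
    have h' : ((a.out : ↥pairStab) : Equiv.Perm GolayPt) • o =
        ((b.out : ↥pairStab) : Equiv.Perm GolayPt) • o := congrArg Subtype.val h
    refine QuotientGroup.eq.mpr (Subgroup.mem_subgroupOf.mpr (Subgroup.mem_inf.2 ⟨SetLike.coe_mem _, ?_⟩))
    show (((a.out : ↥pairStab) : Equiv.Perm GolayPt)⁻¹ * (b.out : ↥pairStab)) • o = o
    rw [mul_smul, ← h', inv_smul_smul]
  · rintro ⟨o', ho'⟩
    obtain ⟨g, hg, rfl⟩ := exists_smul_hexOct ho (mem_hexOcts.1 ho')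
    refine ⟨QuotientGroup.mk ⟨g, hg⟩, Subtype.ext ?_⟩
    obtain ⟨⟨k, hk⟩, he⟩ := QuotientGroup.mk_out_eq_mul ((stabO o).subgroupOf pairStab) ⟨g, hg⟩
    show ((Quotient.out _ : ↥pairStab) : Equiv.Perm GolayPt) • o = g • o
    rw [he, Subgroup.coe_mul, mul_smul]
    congr 1
    exact (Subgroup.mem_subgroupOf.1 hk).2

end Cfsg.Agent.J4Type.Order

namespace Cfsg.Agent.J4Type.Setting

open Cfsg.Agent.Golay Cfsg.Agent.J4Type.Order

variable {G : Type*} [Group G] {z : G} {P : Subgroup G} (S : Setting z P)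

open Classical in
/-- The number of hexads fixed by both images. -/
noncomputable def fixCount (u v : ↥(Cz z)) : ℕ :=
  (hexOcts.filter fun o => S.κ u • o = o ∧ S.κ v • o = o).card

theorem fixCount_pos_iff (u v : ↥(Cz z)) : 0 < S.fixCount u v ↔ CommonHexad (S.κ u) (S.κ v) := by
  classical
  rw [fixCount, Finset.card_pos]
  constructor
  · rintro ⟨o, h⟩
    simp only [Finset.mem_filter, mem_hexOcts] at h
    exact ⟨o, h.1, h.2.1, h.2.2⟩
  · rintro ⟨o, ho, h1, h2⟩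
    exact ⟨o, by simp [mem_hexOcts, ho, h1, h2]⟩

theorem fixCount_le (u v : ↥(Cz z)) : S.fixCount u v ≤ 77 :=
  card_hexOcts ▸ Finset.card_filter_le _ _

theorem fixCount_conj (g u v : ↥(Cz z)) : S.fixCount (g * u * g⁻¹) (g * v * g⁻¹) = S.fixCount u v := by
  classical
  have hg : S.κ g ∈ pairStab := S.κ_range ▸ ⟨g, rfl⟩
  unfold fixCount
  refine Finset.card_bij (fun o _ => (S.κ g)⁻¹ • o) ?_ ?_ ?_
  · intro o ho
    simp only [Finset.mem_filter, mem_hexOcts, map_mul, map_inv, mul_smul] at ho ⊢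
    exact ⟨ho.1.smul (inv_mem hg), eq_inv_smul_iff.2 ho.2.1, eq_inv_smul_iff.2 ho.2.2⟩
  · intro a _ b _ e
    exact smul_left_cancel _ e
  · intro o ho
    simp only [Finset.mem_filter, mem_hexOcts] at ho
    refine ⟨S.κ g • o, ?_, inv_smul_smul _ _⟩
    simp only [Finset.mem_filter, mem_hexOcts, map_mul, map_inv, mul_smul, inv_smul_smul]
    exact ⟨ho.1.smul hg, by rw [ho.2.1], by rw [ho.2.2]⟩

open Classical in
/-- **Weighted pairs with a common hexad, counted in one hexad stabiliser.** -/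
theorem sum_fixCount_mul {o : Finset GolayPt} (ho : HexOct o) (s : Finset (↥(Cz z) × ↥(Cz z)))
    (hs : ∀ g : ↥(Cz z), ∀ p ∈ s, (g * p.1 * g⁻¹, g * p.2 * g⁻¹) ∈ s)
    (W : ↥(Cz z) → ↥(Cz z) → ℕ)
    (hW : ∀ g : ↥(Cz z), ∀ p ∈ s, W (g * p.1 * g⁻¹) (g * p.2 * g⁻¹) = W p.1 p.2) :
    ∑ p ∈ s.filter (fun p => 0 < S.fixCount p.1 p.2), S.fixCount p.1 p.2 * W p.1 p.2 =
      77 * ∑ p ∈ s.filter (fun p => S.κ p.1 ∈ stabO o ∧ S.κ p.2 ∈ stabO o), W p.1 p.2 := by
  have hmem : ∀ w : ↥(Cz z), S.κ w ∈ pairStab := fun w => S.κ_range ▸ ⟨w, rfl⟩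
  have hstab : ∀ (w : ↥(Cz z)) (o' : Finset GolayPt), S.κ w ∈ stabO o' ↔ S.κ w • o' = o' :=
    fun w o' => ⟨fun h => h.2, fun h => ⟨hmem w, h⟩⟩
  rw [Finset.sum_filter_of_ne (fun p _ h => Nat.pos_of_ne_zero fun h0 => h (by rw [h0, zero_mul]))]
  have hconst : ∀ o' ∈ hexOcts, ∑ p ∈ s.filter (fun p => S.κ p.1 • o' = o' ∧ S.κ p.2 • o' = o'),
      W p.1 p.2 = ∑ p ∈ s.filter (fun p => S.κ p.1 ∈ stabO o ∧ S.κ p.2 ∈ stabO o), W p.1 p.2 := by
    intro o' ho'
    obtain ⟨g, hg, rfl⟩ := exists_smul_hexOct ho (mem_hexOcts.1 ho')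
    obtain ⟨h, rfl⟩ : g ∈ S.κ.range := S.κ_range ▸ hg
    symm
    refine Finset.sum_bij (fun p _ => (h * p.1 * h⁻¹, h * p.2 * h⁻¹)) ?_ ?_ ?_ ?_
    · intro p hp
      simp only [Finset.mem_filter, hstab] at hp ⊢
      refine ⟨hs h p hp.1, ?_, ?_⟩ <;>
        simp only [map_mul, map_inv, mul_smul, inv_smul_smul] <;> simp only [hp.2.1, hp.2.2]
    · intro a _ b _ e
      simp only [Prod.mk.injEq, mul_left_inj, mul_right_inj] at e
      exact Prod.ext e.1 e.2
    · intro q hq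
      simp only [Finset.mem_filter] at hq
      refine ⟨(h⁻¹ * q.1 * h, h⁻¹ * q.2 * h), ?_, ?_⟩
      · simp only [Finset.mem_filter, hstab]
        refine ⟨?_, ?_, ?_⟩
        · simpa using hs h⁻¹ q hq.1
        · rw [map_mul, map_mul, map_inv, mul_smul, mul_smul, inv_smul_eq_iff, hq.2.1]
        · rw [map_mul, map_mul, map_inv, mul_smul, mul_smul, inv_smul_eq_iff, hq.2.2]
      · simp [mul_assoc]
    · intro p hp
      simp only [Finset.mem_filter] at hp
      exact (hW h p hp.1).symm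
  calc ∑ p ∈ s, S.fixCount p.1 p.2 * W p.1 p.2
      = ∑ p ∈ s, ∑ o' ∈ hexOcts, if S.κ p.1 • o' = o' ∧ S.κ p.2 • o' = o' then W p.1 p.2 else 0 := by
        refine Finset.sum_congr rfl fun p _ => ?_
        rw [← Finset.sum_filter, Finset.sum_const, smul_eq_mul, fixCount]
    _ = ∑ o' ∈ hexOcts, ∑ p ∈ s.filter (fun p => S.κ p.1 • o' = o' ∧ S.κ p.2 • o' = o'), W p.1 p.2 := by
        rw [Finset.sum_comm]
        exact Finset.sum_congr rfl fun o' _ => (Finset.sum_filter _ _).symm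
    _ = 77 * ∑ p ∈ s.filter (fun p => S.κ p.1 ∈ stabO o ∧ S.κ p.2 ∈ stabO o), W p.1 p.2 := by
        rw [Finset.sum_congr rfl hconst, Finset.sum_const, card_hexOcts, smul_eq_mul]

end Cfsg.Agent.J4Type.Setting
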