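/-
The map onto the duad stabiliser on the centraliser of the sextet element in `2^11 : M24` (owner: helper81).

* `exists_kappa` : after conjugation in the duad stabiliser it is `phiCode` on `V` and fixes an anchor on the
  complement; the centraliser in the normaliser of `V` is the preimage of the stabiliser of the octad
* `exists_theta` : the same for the homomorphism on the centraliser in the normaliser, with the hexad counts
-/
import Cfsg.Agent.Lib.J4Type.Order.KappaLinear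
import Cfsg.Agent.Lib.J4Type.Order.Weight
import Cfsg.Agent.Lib.J4Type.CentT

set_option autoImplicit false
set_option maxRecDepth 100000
set_option linter.unusedSectionVars false
open scoped Pointwise
open Cfsg Cfsg.Agent.Golay
open Cfsg.Agent.M24Sylow hiding word

namespace Cfsg.Agent.J4Type.Order

open KappaTab
open Cfsg.Agent.J4Type.TwoTen (q act lift oM oct rList rcode rcode_check rList_lt actP Ctx)

variable {G : Type*} [Group G] [Finite G] (C : Ctx G) {P : Subgroup G} (S : Setting (C.vv xsC) P)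

local notation "NV" => Subgroup.normalizer (C.D.V : Set G)

theorem vv_mem_Cz (a : ℕ) : C.vv a ∈ Cz (C.vv xsC) :=
  mem_Cz.2 (C.D.comm (C.vv_mem a) (C.vv_mem _))

theorem el_mem_Cz_iff (σ : ↥M24) : C.D.el σ ∈ Cz (C.vv xsC) ↔ Fixes σ := by
  rw [mem_Cz, ← mul_inv_eq_iff_eq_mul, C.conj_vv]
  exact ⟨fun h => C.vv_inj (TwoTen.actP_lt _ _) (by decide +kernel) h, fun h => congrArg C.vv h⟩

/-- The stabiliser of the sextet element. -/
noncomputable def stx : Subgroup ↥M24 := (Cz (C.vv xsC)).comap (MonoidHom.mk' C.D.el C.D.el_mul)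

/-- The complement, inside the centraliser. -/
noncomputable def elC : ↥(stx C) →* ↥(Cz (C.vv xsC)) :=
  MonoidHom.mk' (fun σ => ⟨C.D.el σ, σ.2⟩) fun σ τ => Subtype.ext (C.D.el_mul σ τ)

theorem mem_stx {σ : ↥M24} : σ ∈ stx C ↔ Fixes σ := el_mem_Cz_iff C σ

theorem m24_stx {d : ℕ} (hd : d ∈ [sCode, cCode] ++ kerCodes ++ swapCodes) : m24 d ∈ stx C := by
  have hmem : d ∈ [k0Code, sCode, cCode, rsCode, rcCode] ++ kerCodes ++ swapCodes := by
    simp only [List.mem_append, List.mem_cons, List.not_mem_nil, or_false] at hd ⊢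
    tauto
  rw [mem_stx, Fixes, m24_val (isAut_code hmem), TwoTen.actP_toPerm (valid_code hmem)]
  simpa [act] using List.all_eq_true.1 stab_fix d hd

theorem gEl_stx (w : Bool) : gEl w ∈ stx C := by
  cases w <;> exact m24_stx C (by simp)

theorem kerEl_stx {j : ℕ} (hj : j < 192) : kerEl j ∈ stx C :=
  m24_stx C (List.mem_append_left _ (List.mem_append_right _ (ker_mem hj)))

theorem swEl_stx {j : ℕ} (hj : j < 5) : swEl j ∈ stx C :=
  m24_stx C (List.mem_append_right _ (swap_mem j hj))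

/-- Conjugating an element of `V` by one of the complement. -/
theorem conj_vC (σ : ↥(stx C)) (a : ℕ) :
    elC C σ * ⟨C.vv a, vv_mem_Cz C a⟩ * (elC C σ)⁻¹ =
      ⟨C.vv (actP ((σ : ↥M24) : Equiv.Perm GolayPt) a), vv_mem_Cz C _⟩ :=
  Subtype.ext (C.conj_vv _ a)

include S in
/-- Some conjugate of the map sends the normaliser to the stabiliser of the standard octad. -/
theorem exists_base : ∃ g ∈ pairStab,
    (∀ h : ↥(Cz (C.vv xsC)), (h : G) ∈ NV ↔ g * S.κ h * g⁻¹ ∈ stabO o0) ∧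
    (∀ h : ↥(Cz (C.vv xsC)), (h : G) ∈ C.D.V → g * S.κ h * g⁻¹ ∈ octadFix o0) ∧
    ∀ a ∈ octadFix o0, ∃ h : ↥(Cz (C.vv xsC)), (h : G) ∈ C.D.V ∧ g * S.κ h * g⁻¹ = a := by
  obtain ⟨hW, hWc⟩ := S.isElementary_Vo hexOct_o0
  obtain ⟨k, hk, hmap⟩ := S.conj_le_Cz C.D.elem C.D.card
    (fun v hv => mem_Cz.2 (C.D.comm hv (C.vv_mem _))) hW hWc (S.Vg_le_Cz hexOct_o0)
  let k' : ↥(Cz (C.vv xsC)) := ⟨k, hk⟩
  have hiff : ∀ x : G, k * x * k⁻¹ ∈ S.Vg hexOct_o0 ↔ x ∈ C.D.V := fun x => by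
    show k * x * k⁻¹ ∈ (S.Vo hexOct_o0).map (Cz (C.vv xsC)).subtype ↔ _
    rw [← hmap]
    exact Subgroup.mem_map_iff_mem (f := (MulAut.conj k).toMonoidHom) (MulAut.conj k).injective
  refine ⟨S.κ k', S.κ_mem k', fun h => ?_, fun h hh => ?_, fun a ha => ?_⟩
  · rw [← map_inv, ← map_mul, ← map_mul, ← S.mem_normalizer_iff_κ hexOct_o0]
    simp only [Subgroup.coe_mul, InvMemClass.coe_inv, Subgroup.mem_normalizer_iff]
    constructor
    · intro hn y
      obtain ⟨x, rfl⟩ : ∃ x, k * x * k⁻¹ = y := ⟨k⁻¹ * y * k, by group⟩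
      rw [show k * (h : G) * k⁻¹ * (k * x * k⁻¹) * (k * (h : G) * k⁻¹)⁻¹ = k * (h * x * (h : G)⁻¹) * k⁻¹ by group]
      exact (hiff x).trans ((hn x).trans (hiff _).symm)
    · intro hn x
      have h1 := hn (k * x * k⁻¹)
      rw [show k * (h : G) * k⁻¹ * (k * x * k⁻¹) * (k * (h : G) * k⁻¹)⁻¹ = k * (h * x * (h : G)⁻¹) * k⁻¹ by group] at h1
      exact (hiff x).symm.trans (h1.trans (hiff _))
  · obtain ⟨y, hy, hye⟩ := S.exists_of_mem_Vg hexOct_o0 ((hiff h).2 hh)
    have hye' : y = k' * h * k'⁻¹ := Subtype.ext hye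
    rw [← map_inv, ← map_mul, ← map_mul, ← hye']
    exact ((S.mem_Vo hexOct_o0).1 hy).1.1
  · obtain ⟨y, hy, hya⟩ := S.exists_mem_Vo hexOct_o0 ha
    refine ⟨k'⁻¹ * y * k', (hiff _).1 ?_, ?_⟩
    · rw [show k * ((k'⁻¹ * y * k' : ↥(Cz (C.vv xsC))) : G) * k⁻¹ = (y : G) by
        simp only [Subgroup.coe_mul, InvMemClass.coe_inv, k']; group]
      exact ⟨y, hy, rfl⟩
    · rw [← map_inv, ← map_mul, ← map_mul, show k' * (k'⁻¹ * y * k') * k'⁻¹ = y by group, hya]

theorem actP_gEl {a : ℕ} (ha : a < 2048) :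
    actP ((gEl false : ↥M24) : Equiv.Perm GolayPt) a = encAux rowsS a ∧
      actP ((gEl true : ↥M24) : Equiv.Perm GolayPt) a = encAux rowsC a := by
  obtain ⟨h1, h2, -, -⟩ := rows_eq ha
  constructor
  · rw [show gEl false = m24 sCode from rfl, m24_val (isAut_code (by simp)),
      TwoTen.actP_toPerm (valid_code (by simp)), h1]
  · rw [show gEl true = m24 cCode from rfl, m24_val (isAut_code (by simp)),
      TwoTen.actP_toPerm (valid_code (by simp)), h2]

/-- A map sending `V` and the normaliser as required can be straightened on `V`. -/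
theorem exists_straight (θ : ↥(Cz (C.vv xsC)) →* Equiv.Perm GolayPt)
    (hN : ∀ h : ↥(Cz (C.vv xsC)), (h : G) ∈ NV ↔ θ h ∈ stabO o0)
    (hV : ∀ h : ↥(Cz (C.vv xsC)), (h : G) ∈ C.D.V → θ h ∈ octadFix o0)
    (hsurj : ∀ a ∈ octadFix o0, ∃ h : ↥(Cz (C.vv xsC)), (h : G) ∈ C.D.V ∧ θ h = a) :
    ∃ g ∈ stabO o0, ∀ a < 2048, g⁻¹ * θ ⟨C.vv a, vv_mem_Cz C a⟩ * g = Ael (phiIdx a) := by
  have hex : ∀ a, ∃ x < 16, Ael x = θ ⟨C.vv a, vv_mem_Cz C a⟩ := fun a => Ael_surj (hV _ (C.vv_mem a))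
  choose L hL hLe using hex
  have hact : ∀ (w : Bool), ∃ m ∈ gaList, ∀ a < 2048,
      L (actP ((gEl w : ↥M24) : Equiv.Perm GolayPt) a) = app4 m (L a) := by
    intro w
    obtain ⟨m, hm, hma⟩ := ga_all ((hN (elC C ⟨gEl w, gEl_stx C w⟩)).1 (C.D.el_norm _))
    refine ⟨m, hm, fun a _ => Ael_inj (hL _) (app4_lt _) ?_⟩
    rw [← hma _ (hL a), hLe, hLe, ← map_inv, ← map_mul, ← map_mul, conj_vC C ⟨gEl w, gEl_stx C w⟩ a]
  obtain ⟨gS, hgS, hS⟩ := hact false
  obtain ⟨gC, hgC, hC⟩ := hact true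
  obtain ⟨g, hg, hga⟩ := straighten L (fun a _ => hL a) (fun a _ b _ => by
      refine Ael_inj (hL _) (Nat.xor_lt_two_pow (n := 4) (hL a) (hL b)) ?_
      rw [Ael_xor (hL a) (hL b), hLe, hLe, hLe, ← map_mul]
      exact congrArg θ (Subtype.ext (C.vv_xor a b)))
    (fun x hx => by
      obtain ⟨h, hh, hhe⟩ := hsurj _ (Ael_mem hx)
      obtain ⟨c, hc, hce⟩ := C.vv_surj hh
      refine ⟨c, hc, Ael_inj (hL c) hx ?_⟩
      rw [hLe, ← hhe]
      exact congrArg θ (Subtype.ext hce))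
    hgS hgC (fun a ha => by rw [← (actP_gEl ha).1]; exact hS a ha)
    (fun a ha => by rw [← (actP_gEl ha).2]; exact hC a ha)
  exact ⟨g, hg, fun a ha => by rw [← hLe]; exact hga a ha⟩

theorem sameC_of_eq {L : List ℕ} (hL : ∀ d ∈ L, validPerm d = true) (h : toPL L = 1) : sameC L [] = true := by
  refine List.all_eq_true.2 fun i hi => beq_iff_eq.2 ?_
  rw [List.mem_range] at hi
  have h1 := idx_toPL L hL (pt i)
  rw [h, Equiv.Perm.one_apply, idx_pt hi] at h1
  simpa [runC] using h1.symm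

theorem letters_valid {a b : ℕ} (ha : a < 16) (hb : b < 16) (w : Bool) :
    ∀ d ∈ letters a b w, validPerm d = true := by
  cases w <;> simp [letters, aCode_valid ha, aCode_valid hb, valid_code (d := rsCode) (by simp),
    valid_code (d := rcCode) (by simp)]

/-- A straightened map fixes an anchor on the complement, after conjugating by an element of the fixed group. -/
theorem exists_anchor (θ : ↥(Cz (C.vv xsC)) →* Equiv.Perm GolayPt)
    (hN : ∀ h : ↥(Cz (C.vv xsC)), (h : G) ∈ NV ↔ θ h ∈ stabO o0)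
    (hV : ∀ a < 2048, θ ⟨C.vv a, vv_mem_Cz C a⟩ = Ael (phiIdx a)) :
    ∃ c < 16, ∃ i : Bool, ∀ σ : ↥(stx C), AnchorFix i (Ael c * θ (elC C σ) * Ael c) := by
  set T := θ.comp (elC C) with hT
  have hTM : ∀ σ, T σ ∈ M24 := fun σ => pairStab_le_M24 ((hN _).1 (C.D.el_norm _)).1
  have hconj : ∀ (σ : ↥(stx C)) {a : ℕ}, a < 2048 →
      T σ * Ael (phiIdx a) * (T σ)⁻¹ = Ael (phiIdx (actP ((σ : ↥M24) : Equiv.Perm GolayPt) a)) := by
    intro σ a ha
    rw [← hV a ha, ← hV _ (TwoTen.actP_lt _ _), ← conj_vC C σ a, map_mul, map_mul, map_inv]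
    rfl
  have hpre : ∀ x < 16, encAux pre4 x < 2048 ∧ phiIdx (encAux pre4 x) = x := fun x hx =>
    ⟨encAux_lt11 rows_lt.2.2.1 x, by simpa using List.all_eq_true.1 pre_ok x (List.mem_range.2 hx)⟩
  -- the elements fixing the tetrads
  have hker : ∀ j (hj : j < 192), T ⟨kerEl j, kerEl_stx C hj⟩ ∈ octadFix o0 := by
    intro j hj
    set σ : ↥(stx C) := ⟨kerEl j, kerEl_stx C hj⟩ with hσ
    let Pc : ℕ → Prop := fun b => b < 2048 ∧ Commute (T σ) (Ael (phiIdx b))
    have h0 : Pc 0 := ⟨by norm_num, by rw [show phiIdx 0 = 0 from encAux_zero _, Ael_zero]; exact Commute.one_right _⟩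
    have hx : ∀ a b, Pc a → Pc b → Pc (a ^^^ b) := fun a b ha hb =>
      ⟨Nat.xor_lt_two_pow (n := 11) ha.1 hb.1, by
        rw [phiIdx_xor, Ael_xor (phiIdx_lt a) (phiIdx_lt b)]; exact ha.2.mul_right hb.2⟩
    have hp : ∀ r ∈ twoPows, Pc r := by
      intro r hr
      obtain ⟨i, hi, rfl⟩ : ∃ i < 11, 2 ^ i = r := by
        revert r; decide +kernel
      have hlt : 2 ^ i < 2048 := lt_of_lt_of_le (Nat.pow_lt_pow_right (by norm_num) hi) (by norm_num)
      refine ⟨hlt, mul_inv_eq_iff_eq_mul.1 ?_⟩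
      rw [hconj σ hlt, show ((σ : ↥M24) : Equiv.Perm GolayPt) = toPerm (kerCodes.getD j 0) from kerEl_val hj,
        TwoTen.actP_toPerm (valid_code (List.mem_append_left _ (List.mem_append_right _ (ker_mem hj))))]
      have h := List.all_eq_true.1 (List.all_eq_true.1 ker_phi _ (ker_mem hj)) i (List.mem_range.2 hi)
      rw [beq_iff_eq.1 h]
    refine acts_comm (hTM σ) fun x hx' => ?_
    have := encAux_mem h0 hx twoPows hp (encAux pre4 x)
    rw [show encAux twoPows (encAux pre4 x) = encAux pre4 x by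
      simpa using forall_lt_two_pow twoPows_span (k := 11) (i := encAux pre4 x) (hpre x hx').1] at this
    rw [← (hpre x hx').2]
    exact this.2.eq
  have hkap : kapIdx < 192 := by decide +kernel
  set κ3 : ↥(stx C) := ⟨kerEl kapIdx, kerEl_stx C hkap⟩ with hκ3
  have hcodes : ∀ j < 192, validPerm (kerCodes.getD j 0) = true := fun j hj =>
    valid_code (List.mem_append_left _ (List.mem_append_right _ (ker_mem hj)))
  have hkap3 : κ3 * κ3 * κ3 = 1 := by
    refine Subtype.ext (Subtype.ext ?_)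
    show ((kerEl kapIdx * kerEl kapIdx * kerEl kapIdx : ↥M24) : Equiv.Perm GolayPt) = 1
    rw [Subgroup.coe_mul, Subgroup.coe_mul, kerEl_val hkap]
    have h := toPL_congr (L := [kapCode, kapCode, kapCode]) (L' := [])
      (fun d hd => by
        simp only [List.mem_cons, List.not_mem_nil, or_false] at hd
        rcases hd with rfl | rfl | rfl <;> exact hcodes _ hkap) (by simp) ker_wit.2.1
    simpa [toPL, kapCode, mul_assoc] using h
  have hTκ : T κ3 = 1 := by
    obtain ⟨x, hx, hxe⟩ := Ael_surj (hker kapIdx hkap)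
    have h := congrArg T hkap3
    rw [map_mul, map_mul, map_one, ← hxe, Ael_sq hx, one_mul] at h
    rw [← hxe, h]
  have hK : ∀ j (hj : j < 192), T ⟨kerEl j, kerEl_stx C hj⟩ = 1 := by
    intro j hj
    have hl : ∀ j < 192, (kerWit.getD j (0, 0)).2 < 192 := by decide +kernel
    have hw := List.all_eq_true.1 ker_wit.2.2 j (List.mem_range.2 hj)
    have e := toPL_congr (fun d hd => by
        simp only [List.mem_cons, List.not_mem_nil, or_false] at hd
        rcases hd with rfl | rfl | rfl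
        exacts [hcodes _ hj, hcodes _ (hl j hj), hcodes _ hkap])
      (by
        intro d hd
        simp only [List.mem_append, List.mem_replicate, List.mem_cons, List.not_mem_nil, or_false] at hd
        rcases hd with ⟨-, rfl⟩ | rfl | rfl <;> first | exact hcodes _ hkap | exact hcodes _ (hl j hj)) hw
    have hstx : (⟨kerEl j, kerEl_stx C hj⟩ : ↥(stx C)) * ⟨kerEl _, kerEl_stx C (hl j hj)⟩ * κ3 =
        κ3 ^ (kerWit.getD j (0, 0)).1 * (κ3 * ⟨kerEl _, kerEl_stx C (hl j hj)⟩) := by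
      refine Subtype.ext (Subtype.ext ?_)
      simp only [Subgroup.coe_mul, SubmonoidClass.coe_pow, hκ3, kerEl_val hj, kerEl_val (hl j hj), kerEl_val hkap]
      simpa [toPL, List.prod_replicate, kapCode, mul_assoc] using e
    have h := congrArg T hstx
    rw [map_mul, map_mul, map_mul, map_mul, map_pow, hTκ, one_pow, mul_one, one_mul, one_mul] at h
    exact mul_eq_right.1 h
  -- the two letters
  have hgen : ∀ w : Bool, ∃ x < 16, T ⟨gEl w, gEl_stx C w⟩ = Ael x * toPerm (bif w then rcCode else rsCode) := by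
    intro w
    set r := toPerm (bif w then rcCode else rsCode) with hr
    have hrM : r ∈ M24 := by cases w <;> exact toPerm_mem_M24 (isAut_code (by simp))
    have hmem : T ⟨gEl w, gEl_stx C w⟩ * r⁻¹ ∈ octadFix o0 := by
      refine acts_comm (mul_mem (hTM _) (inv_mem hrM)) fun x hx => ?_
      have hm : ∃ m, Acts r m ∧
          ∀ a < 2048, phiIdx (actP ((gEl w : ↥M24) : Equiv.Perm GolayPt) a) = app4 m (phiIdx a) := by
        cases w
        · exact ⟨mS, rs_acts.1, fun a ha => by rw [(actP_gEl ha).1]; exact (rows_eq ha).2.2.1⟩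
        · exact ⟨mC, rs_acts.2, fun a ha => by rw [(actP_gEl ha).2]; exact (rows_eq ha).2.2.2⟩
      obtain ⟨m, hma, hmp⟩ := hm
      obtain ⟨y, hy, hyx⟩ : ∃ y < 16, app4 m y = x := by
        have hinj : Function.Injective fun y : Fin 16 => (⟨app4 m y, app4_lt _⟩ : Fin 16) := by
          intro a b h
          have h' := hma a a.isLt
          rw [show app4 m a = app4 m b from congrArg Fin.val h, ← hma b b.isLt] at h'
          exact Fin.ext (Ael_inj a.isLt b.isLt (mul_left_cancel (mul_right_cancel h')))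
        obtain ⟨y, hy⟩ := (Finite.injective_iff_surjective.1 hinj) ⟨x, hx⟩
        exact ⟨y, y.isLt, congrArg Fin.val hy⟩
      have h1 := hconj ⟨gEl w, gEl_stx C w⟩ (hpre y hy).1
      rw [hmp _ (hpre y hy).1, (hpre y hy).2, hyx] at h1
      have h2 := hma y hy
      rw [hyx] at h2
      calc T ⟨gEl w, gEl_stx C w⟩ * r⁻¹ * Ael x
          = T ⟨gEl w, gEl_stx C w⟩ * r⁻¹ * (r * Ael y * r⁻¹) := by rw [h2]
        _ = (T ⟨gEl w, gEl_stx C w⟩ * Ael y * (T ⟨gEl w, gEl_stx C w⟩)⁻¹) *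
            (T ⟨gEl w, gEl_stx C w⟩ * r⁻¹) := by group
        _ = Ael x * (T ⟨gEl w, gEl_stx C w⟩ * r⁻¹) := by rw [h1]
    obtain ⟨x, hx, hxe⟩ := Ael_surj hmem
    exact ⟨x, hx, by rw [hxe, inv_mul_cancel_right]⟩
  obtain ⟨a, ha, hTa⟩ := hgen false
  obtain ⟨b, hb, hTb⟩ := hgen true
  have hlet : ∀ w : Bool, T ⟨gEl w, gEl_stx C w⟩ = toPL (letters a b w) := by
    intro w
    cases w
    · rw [hTa, letters, toPL_pair, toPerm_aCode ha]; rfl
    · rw [hTb, letters, toPL_pair, toPerm_aCode hb]; rfl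
  have hword : ∀ l : List Bool, ∃ h : (l.map gEl).prod ∈ stx C, T ⟨_, h⟩ = toPL (l.flatMap (letters a b)) := by
    intro l
    induction l with
    | nil => exact ⟨one_mem _, by rw [List.flatMap_nil, toPL_nil]; exact map_one T⟩
    | cons w l ih =>
      obtain ⟨hl, he⟩ := ih
      refine ⟨by rw [List.map_cons, List.prod_cons]; exact mul_mem (gEl_stx C w) hl, ?_⟩
      rw [List.flatMap_cons, toPL_append, ← hlet, ← he, ← map_mul]
      exact congrArg T (Subtype.ext (by simp))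
  have hrels : (relWords.all fun w => sameC (w.flatMap (letters a b)) []) = true := by
    refine List.all_eq_true.2 fun l hl => ?_
    obtain ⟨j, hj, rfl⟩ := List.mem_iff_getElem.1 hl
    have hj6 : j < 6 := lt_of_lt_of_eq hj (by decide +kernel)
    refine sameC_of_eq (fun d hd => ?_) ?_
    · obtain ⟨w, -, hw⟩ := List.mem_flatMap.1 hd
      exact letters_valid ha hb w d hw
    · obtain ⟨hmem, he⟩ := hword relWords[j]
      refine he.symm.trans ?_
      obtain ⟨hrw, hlt⟩ := rel_word hj6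
      rw [List.getD_eq_getElem _ _ hj] at hrw
      exact (congrArg T (Subtype.ext hrw)).trans (hK _ hlt)
  have hp := List.all_eq_true.1 (List.all_eq_true.1 pairs_ok a (List.mem_range.2 ha)) b (List.mem_range.2 hb)
  simp only [hrels, Bool.not_true, Bool.false_or, List.any_eq_true, List.mem_range, Bool.or_eq_true] at hp
  obtain ⟨c, hc, hci⟩ := hp
  obtain ⟨i, hi⟩ : ∃ i, anchorOk a b c i = true := by
    rcases hci with h | h
    exacts [⟨_, h⟩, ⟨_, h⟩]
  refine ⟨c, hc, i, fun σ => ?_⟩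
  have hgenA : ∀ w : Bool, AnchorFix i (Ael c * T ⟨gEl w, gEl_stx C w⟩ * Ael c) := by
    intro w
    have hval : ∀ d ∈ [aCode c] ++ letters a b w ++ [aCode c], validPerm d = true := by
      intro d hd
      simp only [List.mem_append, List.mem_singleton] at hd
      rcases hd with (rfl | hd) | rfl
      exacts [aCode_valid hc, letters_valid ha hb w d hd, aCode_valid hc]
    have heq : toPL ([aCode c] ++ letters a b w ++ [aCode c]) = Ael c * T ⟨gEl w, gEl_stx C w⟩ * Ael c := by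
      rw [toPL_append, toPL_append, toPL_single, toPerm_aCode hc, hlet]
    have hw := List.all_eq_true.1 hi w (by cases w <;> simp)
    rw [← heq]
    cases i
    · rw [cond_false, beq_iff_eq] at hw
      show toPL _ (pt anchorIdx) = pt anchorIdx
      refine idx_injective ?_
      rw [idx_toPL _ hval, idx_pt (by decide), hw]
    · rw [cond_true, beq_iff_eq] at hw
      show toPL _ • pts anchorMask = pts anchorMask
      rw [toPL_smul _ hval, hw]
  have hone : AnchorFix i (1 : Equiv.Perm GolayPt) := by cases i <;> simp [AnchorFix]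
  have hmulA : ∀ x y : Equiv.Perm GolayPt, AnchorFix i x → AnchorFix i y → AnchorFix i (x * y) := by
    intro x y hx hy
    cases i <;> simp only [AnchorFix, Bool.false_eq_true, if_false, if_true] at hx hy ⊢
    · rw [Equiv.Perm.mul_apply, hy, hx]
    · rw [mul_smul, hy, hx]
  let R : ↥M24 → Prop := fun τ => ∃ h : τ ∈ stx C, AnchorFix i (Ael c * T ⟨τ, h⟩ * Ael c)
  have h1 : R 1 := ⟨one_mem _, by rw [show T ⟨1, one_mem _⟩ = 1 from map_one T, mul_one, Ael_sq hc]; exact hone⟩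
  have hmul : ∀ x y, R x → R y → R (x * y) := by
    rintro x y ⟨hx, hxa⟩ ⟨hy, hya⟩
    refine ⟨mul_mem hx hy, ?_⟩
    have e : Ael c * T ⟨x * y, mul_mem hx hy⟩ * Ael c =
        (Ael c * T ⟨x, hx⟩ * Ael c) * (Ael c * T ⟨y, hy⟩ * Ael c) := by
      rw [show (⟨x * y, mul_mem hx hy⟩ : ↥(stx C)) = ⟨x, hx⟩ * ⟨y, hy⟩ from rfl, map_mul]
      calc Ael c * (T ⟨x, hx⟩ * T ⟨y, hy⟩) * Ael c
          = Ael c * T ⟨x, hx⟩ * 1 * (T ⟨y, hy⟩ * Ael c) := by group
        _ = _ := by rw [← Ael_sq hc]; group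
    rw [e]
    exact hmulA _ _ hxa hya
  have hKR : ∀ j < 192, R (kerEl j) := fun j hj =>
    ⟨kerEl_stx C hj, by rw [hK j hj, mul_one, Ael_sq hc]; exact hone⟩
  have hwR : ∀ l : List Bool, R ((l.map gEl).prod) := by
    intro l
    induction l with
    | nil => exact h1
    | cons w l ih =>
      rw [List.map_cons, List.prod_cons]
      exact hmul _ _ ⟨gEl_stx C w, hgenA w⟩ ih
  have hS : ∀ j < 5, R (swEl j) := fun j hj => by
    rw [(swap_word hj).1]
    exact hmul _ _ (hwR _) (hKR _ (swap_word hj).2)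
  obtain ⟨h, hh⟩ := stab_induction C R h1 hmul hKR hS ((mem_stx C).1 σ.2)
  exact hh

include S in
/-- **The map onto the duad stabiliser, identified.** -/
theorem exists_kappa : ∃ g ∈ pairStab, ∃ i : Bool,
    (∀ h : ↥(Cz (C.vv xsC)), (h : G) ∈ NV ↔ g * S.κ h * g⁻¹ ∈ stabO o0) ∧
    (∀ a < 2048, ∀ h : ↥(Cz (C.vv xsC)), (h : G) = C.vv a → g * S.κ h * g⁻¹ = toPerm (phiCode a)) ∧
    ∀ σ : ↥M24, actP (σ : Equiv.Perm GolayPt) xsC = xsC → ∀ h : ↥(Cz (C.vv xsC)), (h : G) = C.D.el σ →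
      AnchorFix i (g * S.κ h * g⁻¹) := by
  obtain ⟨g0, hg0, hN0, hV0, hsurj0⟩ := exists_base C S
  let θ0 : ↥(Cz (C.vv xsC)) →* Equiv.Perm GolayPt := (MulAut.conj g0).toMonoidHom.comp S.κ
  obtain ⟨g1, hg1, hstr⟩ := exists_straight C θ0 hN0 hV0 hsurj0
  let θ1 : ↥(Cz (C.vv xsC)) →* Equiv.Perm GolayPt := (MulAut.conj g1⁻¹).toMonoidHom.comp θ0
  have hconj : ∀ {u x : Equiv.Perm GolayPt}, u ∈ stabO o0 → (u * x * u⁻¹ ∈ stabO o0 ↔ x ∈ stabO o0) :=
    fun {u x} hu => by rw [Subgroup.mul_mem_cancel_right _ (inv_mem hu), Subgroup.mul_mem_cancel_left _ hu]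
  have hN1 : ∀ h : ↥(Cz (C.vv xsC)), (h : G) ∈ NV ↔ θ1 h ∈ stabO o0 := fun h =>
    (hN0 h).trans (hconj (inv_mem hg1)).symm
  have hV1 : ∀ a < 2048, θ1 ⟨C.vv a, vv_mem_Cz C a⟩ = Ael (phiIdx a) := fun a ha => by
    show g1⁻¹ * θ0 _ * g1⁻¹⁻¹ = _
    rw [inv_inv]
    exact hstr a ha
  obtain ⟨c, hc, i, hanch⟩ := exists_anchor C θ1 hN1 hV1
  have hcS : Ael c ∈ stabO o0 := stab0_le_stabO o0 (hexOct_o0.fix_le_stab0 (Ael_mem hc))
  refine ⟨Ael c * g1⁻¹ * g0, mul_mem (mul_mem hcS.1 (inv_mem hg1.1)) hg0, i, fun h => ?_, fun a ha h hh => ?_,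
    fun σ hσ h hh => ?_⟩
  · rw [hN1, show Ael c * g1⁻¹ * g0 * S.κ h * (Ael c * g1⁻¹ * g0)⁻¹ = Ael c * θ1 h * (Ael c)⁻¹ by
      show _ = Ael c * (g1⁻¹ * (g0 * S.κ h * g0⁻¹) * g1⁻¹⁻¹) * (Ael c)⁻¹
      group]
    exact (hconj hcS).symm
  · rw [show Ael c * g1⁻¹ * g0 * S.κ h * (Ael c * g1⁻¹ * g0)⁻¹ = Ael c * θ1 h * (Ael c)⁻¹ by
      show _ = Ael c * (g1⁻¹ * (g0 * S.κ h * g0⁻¹) * g1⁻¹⁻¹) * (Ael c)⁻¹
      group, show h = ⟨C.vv a, vv_mem_Cz C a⟩ from Subtype.ext hh, hV1 a ha,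
      Ael_comm (Ael_mem hc) (phiIdx_lt a), mul_inv_cancel_right, toPerm_phi]
  · rw [show Ael c * g1⁻¹ * g0 * S.κ h * (Ael c * g1⁻¹ * g0)⁻¹ = Ael c * θ1 h * (Ael c)⁻¹ by
      show _ = Ael c * (g1⁻¹ * (g0 * S.κ h * g0⁻¹) * g1⁻¹⁻¹) * (Ael c)⁻¹
      group, show h = elC C ⟨σ, (mem_stx C).2 hσ⟩ from Subtype.ext hh, Ael_inv hc]
    exact hanch _

include S in
/-- **The identification on the centraliser in the normaliser**, with the counts of common hexads. -/
theorem exists_theta : ∃ (θ : ↥(Cz (C.vv xsC)) →* Equiv.Perm GolayPt) (i : Bool) (o : Finset GolayPt),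
    HexOct o ∧ (∀ h, θ h ∈ pairStab) ∧
    (∀ h : ↥(Cz (C.vv xsC)), (h : G) ∈ NV ↔ S.κ h ∈ stabO o) ∧
    (∀ h : ↥(Cz (C.vv xsC)), (h : G) ∈ NV ↔ θ h ∈ stabO o0) ∧
    (∀ x ∈ stabO o0, ∃ h : ↥(Cz (C.vv xsC)), (h : G) ∈ NV ∧ θ h = x) ∧
    (∀ u v, (hexOcts.filter fun w => θ u • w = w ∧ θ v • w = w).card = S.fixCount u v) ∧
    (∀ h, (θ h pA = pA ↔ S.κ h pA = pA) ∧ ((∃ x, θ h x = x) ↔ ∃ x, S.κ h x = x)) ∧
    (∀ a < 2048, ∀ h : ↥(Cz (C.vv xsC)), (h : G) = C.vv a → θ h = toPerm (phiCode a)) ∧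
    ∀ σ : ↥M24, actP (σ : Equiv.Perm GolayPt) xsC = xsC → ∀ h : ↥(Cz (C.vv xsC)), (h : G) = C.D.el σ →
      AnchorFix i (θ h) := by
  classical
  obtain ⟨g, hg, i, hN, hV, hA⟩ := exists_kappa C S
  have hmem : ∀ h, S.κ h ∈ pairStab := S.κ_mem
  refine ⟨(MulAut.conj g).toMonoidHom.comp S.κ, i, g⁻¹ • o0, hexOct_o0.smul (inv_mem hg),
    fun h => mul_mem (mul_mem hg (hmem h)) (inv_mem hg), fun h => (hN h).trans ?_, hN, fun x hx => ?_, fun u v => ?_,
    fun h => ⟨?_, ?_⟩, hV, hA⟩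
  · constructor
    · intro h1
      refine ⟨hmem h, ?_⟩
      show S.κ h • (g⁻¹ • o0) = g⁻¹ • o0
      have := h1.2
      change (g * S.κ h * g⁻¹) • o0 = o0 at this
      rw [mul_smul, mul_smul, ← eq_inv_smul_iff] at this
      exact this
    · rintro ⟨-, h1⟩
      refine ⟨show g * S.κ h * g⁻¹ ∈ pairStab from mul_mem (mul_mem hg (hmem h)) (inv_mem hg), ?_⟩
      show (g * S.κ h * g⁻¹) • o0 = o0
      rw [mul_smul, mul_smul, show S.κ h • (g⁻¹ • o0) = g⁻¹ • o0 from h1, smul_inv_smul]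
  · obtain ⟨h, hh⟩ : g⁻¹ * x * g ∈ S.κ.range := by
      rw [S.κ_range]
      exact mul_mem (mul_mem (inv_mem hg) hx.1) hg
    have he : g * S.κ h * g⁻¹ = x := by rw [hh]; group
    exact ⟨h, (hN h).2 (by rw [he]; exact hx), he⟩
  · unfold Setting.fixCount
    refine Finset.card_bij (fun w _ => g⁻¹ • w) ?_ ?_ ?_
    · intro w hw
      simp only [Finset.mem_filter, mem_hexOcts, MonoidHom.coe_comp, Function.comp_apply,
        MulEquiv.coe_toMonoidHom, MulAut.conj_apply, mul_smul] at hw ⊢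
      exact ⟨hw.1.smul (inv_mem hg), eq_inv_smul_iff.2 hw.2.1, eq_inv_smul_iff.2 hw.2.2⟩
    · intro a _ b _ e
      exact smul_left_cancel _ e
    · intro w hw
      simp only [Finset.mem_filter, mem_hexOcts] at hw
      refine ⟨g • w, ?_, inv_smul_smul _ _⟩
      simp only [Finset.mem_filter, mem_hexOcts, MonoidHom.coe_comp, Function.comp_apply,
        MulEquiv.coe_toMonoidHom, MulAut.conj_apply, mul_smul, inv_smul_smul]
      exact ⟨hw.1.smul hg, by rw [hw.2.1], by rw [hw.2.2]⟩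
  · show (g * S.κ h * g⁻¹) pA = pA ↔ _
    rw [← mem_M22_iff (mul_mem (mul_mem hg (hmem h)) (inv_mem hg)), ← mem_M22_iff (hmem h)]
    refine ⟨fun h1 => ?_, conj_mem_M22 hg⟩
    simpa [mul_assoc] using conj_mem_M22 (inv_mem hg) h1
  · constructor
    · rintro ⟨x, hx⟩
      refine ⟨g⁻¹ x, g.injective ?_⟩
      simpa using hx
    · rintro ⟨x, hx⟩
      exact ⟨g x, by simp [hx]⟩

end Cfsg.Agent.J4Type.Order
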