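/-
Data for the identification of the map onto the duad stabiliser on the centraliser in `2^11 : M24` of a sextet
element (owner: helper81).

* `xsC`, `o0` : the sextet element (of the tetrad `0xf`) and the standard octad through the deleted points
* `phiIdx`, `phiCode` : the fixed linear map from `V` onto the elements fixing `o0` pointwise
* `AnchorFix` : fixing an outside point (`false`) or a hexad meeting `o0` in the deleted points only (`true`)
-/
import Cfsg.Agent.Lib.J4Type.TwoTenModel
import Cfsg.Agent.Lib.J4Type.OctFacts

set_option autoImplicit false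
open scoped Pointwise
open Cfsg Cfsg.Agent.Golay
open Cfsg.Agent.M24Sylow hiding word

namespace Cfsg.Agent.J4Type.Order

open Cfsg.Agent.J4Type.TwoTen (q oM oct rList rcode rList_lt rcode_check)

/-- The coordinates of the class of the tetrad on the first four points. -/
def xsC : ℕ := 834

theorem xsC_eq : xsC = q 0xf := by decide +kernel

/-- The standard octad. -/
noncomputable abbrev o0 : Finset GolayPt := oct

theorem hexOct_o0 : HexOct o0 :=
  ⟨TwoTen.oct_mem, mem_pts.2 (by decide +kernel), mem_pts.2 (by decide +kernel)⟩

/-- The images of the basis. -/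
def phiRows : List ℕ := [1, 4, 0, 7, 7, 0, 4, 7, 4, 4, 13]

/-- The number below 16 of the image of an element of `V`. -/
def phiIdx (a : ℕ) : ℕ := encAux phiRows a

/-- The permutation code of the image of an element of `V`. -/
def phiCode (a : ℕ) : ℕ := M24Sylow.perm (rcode (phiIdx a))

theorem phiIdx_xor (a b : ℕ) : phiIdx (a ^^^ b) = phiIdx a ^^^ phiIdx b := encAux_xor _ _ _

theorem phiIdx_lt (a : ℕ) : phiIdx a < 16 := encAux_lt _ 4 (by decide +kernel) a

theorem phiCode_valid (a : ℕ) : validPerm (phiCode a) = true :=
  perm_valid (rList_lt (rcode_check.1 _ (phiIdx_lt a)))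

theorem toPerm_phiCode (a : ℕ) :
    toPerm (phiCode a) = ((elt (rcode (phiIdx a)) : ↥M24) : Equiv.Perm GolayPt) :=
  (elt_val (rList_lt (rcode_check.1 _ (phiIdx_lt a)))).symm

/-- The index of the outside point. -/
def anchorIdx : ℕ := 4

/-- The mask of the disjoint hexad with the deleted points. -/
def anchorMask : ℕ := 0x81b301

/-- Fixing the anchor. -/
def AnchorFix (i : Bool) (g : Equiv.Perm GolayPt) : Prop :=
  if i then g • pts anchorMask = pts anchorMask else g (pt anchorIdx) = pt anchorIdx

theorem anchor_facts : (oM.testBit anchorIdx = false) ∧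
    (isCode anchorMask && popcount anchorMask == 8) = true ∧
    anchorMask &&& oM = 1 <<< 23 ||| 1 := by decide +kernel

theorem hexOct_anchor : HexOct (pts anchorMask) :=
  ⟨pts_mem_octads anchor_facts.2.1, mem_pts.2 (by decide +kernel), mem_pts.2 (by decide +kernel)⟩

end Cfsg.Agent.J4Type.Order
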