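/-
The finite checks for the identification of the map onto the duad stabiliser (owner: helper81).

* `six_spec` : the six tetrads; `kernel` / word checks for the sextet stabiliser
* `closure_ok` : an element outside the kernel of `phiIdx` generates `V` under two elements of the stabiliser
* `maps_ok` : the equivariant linear bijections are induced by the octad stabiliser
* `pairs_ok` : the lifts of the two generators fix an anchor after conjugation
-/
import Cfsg.Agent.Lib.J4Type.Order.KappaData
import Cfsg.Agent.Lib.J4Type.Order.KappaTab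

set_option autoImplicit false
set_option maxRecDepth 100000
set_option exponentiation.threshold 70000
open Cfsg Cfsg.Agent.Golay
open Cfsg.Agent.M24Sylow hiding word

namespace Cfsg.Agent.J4Type.Order

open KappaTab
open Cfsg.Agent.J4Type.TwoTen (q act lift oM rcode)

/-- The image of a point under the product of a list of codes. -/
def runC (L : List ℕ) (i : ℕ) : ℕ := L.foldr (fun d j => fn d j) i

/-- Two products agree on the points. -/
def sameC (L L' : List ℕ) : Bool := (List.range 24).all fun i => runC L i == runC L' i

/-- The image of a mask under the product of a list of codes. -/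
def runMask (L : List ℕ) (m : ℕ) : ℕ := L.foldr (fun d j => imgMask d j) m

/-- The code of the `x`th element fixing the octad pointwise. -/
def aCode (x : ℕ) : ℕ := M24Sylow.perm (rcode x)

/-- A linear map of the space of dimension 4 from its code. -/
def app4 (m x : ℕ) : ℕ := encAux [m % 16, m / 16 % 16, m / 256 % 16, m / 4096 % 16] x

/-- The value of the form. -/
def om (x y : ℕ) : Bool := omega.testBit (16 * x + y)

/-- The composite. -/
def comp4 (m n : ℕ) : ℕ :=
  app4 m (n % 16) + 16 * app4 m (n / 16 % 16) + 256 * app4 m (n / 256 % 16) +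
    4096 * app4 m (n / 4096 % 16)

/-- The members of `gaList` as one number. -/
def gaBits : ℕ := gaList.foldl (fun acc m => acc ||| 1 <<< m) 0

theorem foldl_bits (l : List ℕ) : ∀ acc i : ℕ,
    (l.foldl (fun acc m => acc ||| 1 <<< m) acc).testBit i = true ↔ acc.testBit i = true ∨ i ∈ l := by
  induction l with
  | nil => simp
  | cons m l ih =>
    intro acc i
    rw [List.foldl_cons, ih, Nat.testBit_or, Nat.one_shiftLeft, Nat.testBit_two_pow, List.mem_cons]
    simp only [Bool.or_eq_true, decide_eq_true_eq]
    tauto

theorem mem_gaList {m : ℕ} (h : gaBits.testBit m = true) : m ∈ gaList := by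
  rcases (foldl_bits gaList 0 m).1 h with h' | h'
  · simp at h'
  · exact h'

/-- The distinguished element of order three. -/
def kapCode : ℕ := kerCodes.getD kapIdx 0

theorem codes_aut : (([k0Code, sCode, cCode, rsCode, rcCode] ++ kerCodes ++ swapCodes).all fun d => isAut d) = true := by
  decide +kernel

theorem six_code : ((sixMasks.length == 6) && sixMasks.all (fun m => q m == xsC && popcount m == 4 && decide (m < 2 ^ 24)) &&
    (List.range 6).all (fun i => sixMasks.any (fun m => imgMask k0Code (sextet0.getD i 0) == m))) = true := by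
  decide +kernel

theorem six_all : allBits (fun x => !(popcount (enc x ^^^ 0xf) == 4) ||
    sixMasks.any (fun t => t == enc x ^^^ 0xf)) 12 0 = true := by
  decide +kernel

theorem k0_sextet : ((List.range 6).all (fun i => sixMasks.contains (imgMask k0Code (sextet0.getD i 0))) &&
    sixMasks.all (fun m => (List.range 6).any fun i => imgMask k0Code (sextet0.getD i 0) == m)) = true := by
  decide +kernel

theorem k0_ker : ((List.range 192).all (fun j => sameC [kerCodes.getD j 0, k0Code] [k0Code, sextetKernel.getD j 0]) &&
    (List.range 5).all (fun j => sameC [swapCodes.getD j 0, k0Code] [k0Code, sextetSwaps.getD j 0])) = true := by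
  decide +kernel

theorem stab_fix : ([sCode, cCode] ++ kerCodes ++ swapCodes).all (fun d => q (imgMask d (lift xsC)) == xsC) = true := by
  decide +kernel

theorem rows_ok : allBits (fun a => act sCode a == encAux rowsS a && act cCode a == encAux rowsC a &&
    phiIdx (encAux rowsS a) == app4 mS (phiIdx a) && phiIdx (encAux rowsC a) == app4 mC (phiIdx a)) 11 0 = true := by
  decide +kernel

theorem ker_phi : kerCodes.all (fun d => (List.range 11).all fun j => phiIdx (act d (2 ^ j)) == phiIdx (2 ^ j)) = true := by
  decide +kernel

/-- The preimages of the basis under `phiIdx`. -/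
def pre4 : List ℕ := [1, 11, 2, 1027]

theorem pre_ok : (List.range 16).all (fun x => phiIdx (encAux pre4 x) == x) = true := by decide +kernel

/-- Reduce a vector by a list of vectors. -/
def red : List ℕ → ℕ → ℕ
  | [], v => v
  | b :: bs, v => red bs (bif Nat.blt (v ^^^ b) v then v ^^^ b else v)

/-- Insert in descending order. -/
def ins (v : ℕ) : List ℕ → List ℕ
  | [] => [v]
  | b :: bs => bif Nat.blt b v then v :: b :: bs else b :: ins v bs

/-- The closure under the two elements. -/
def clo : ℕ → List ℕ → List ℕ → List ℕ
  | 0, b, _ => b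
  | _ + 1, b, [] => b
  | k + 1, b, v :: vs =>
    bif red b v == 0 then clo k b vs
    else clo k (ins (red b v) b) (encAux rowsS (red b v) :: encAux rowsC (red b v) :: vs)

theorem red_mem {P : ℕ → Prop} (hx : ∀ a b, P a → P b → P (a ^^^ b)) :
    ∀ (b : List ℕ) (v : ℕ), (∀ a ∈ b, P a) → P v → P (red b v)
  | [], v, _, hv => hv
  | c :: bs, v, hb, hv => by
    refine red_mem hx bs _ (fun a ha => hb a (List.mem_cons_of_mem _ ha)) ?_
    cases Nat.blt (v ^^^ c) v
    · exact hv
    · exact hx v c hv (hb c List.mem_cons_self)

theorem red_back {P : ℕ → Prop} (hx : ∀ a b, P a → P b → P (a ^^^ b)) :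
    ∀ (b : List ℕ) (v : ℕ), (∀ a ∈ b, P a) → P (red b v) → P v
  | [], v, _, hv => hv
  | c :: bs, v, hb, hv => by
    have h := red_back hx bs _ (fun a ha => hb a (List.mem_cons_of_mem _ ha)) hv
    cases hc : Nat.blt (v ^^^ c) v <;> rw [hc] at h
    · exact h
    · have := hx _ _ h (hb c List.mem_cons_self)
      simpa [Nat.xor_assoc, Nat.xor_self] using this

theorem mem_ins {v x : ℕ} : ∀ {b : List ℕ}, x ∈ ins v b → x = v ∨ x ∈ b
  | [], h => by simpa [ins] using h
  | c :: bs, h => by
    rw [ins] at h
    cases hc : Nat.blt c v <;> rw [hc] at h <;> simp only [cond_true, cond_false, List.mem_cons] at h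
    · rcases h with h | h
      · exact Or.inr (List.mem_cons.2 (Or.inl h))
      · rcases mem_ins h with h | h
        · exact Or.inl h
        · exact Or.inr (List.mem_cons_of_mem _ h)
    · rcases h with h | h
      · exact Or.inl h
      · exact Or.inr (List.mem_cons.2 h)

theorem clo_mem {P : ℕ → Prop} (hx : ∀ a b, P a → P b → P (a ^^^ b))
    (hS : ∀ a, P a → P (encAux rowsS a)) (hC : ∀ a, P a → P (encAux rowsC a)) :
    ∀ (k : ℕ) (b vs : List ℕ), (∀ a ∈ b, P a) → (∀ a ∈ vs, P a) → ∀ a ∈ clo k b vs, P a
  | 0, b, _, hb, _ => hb
  | _ + 1, b, [], hb, _ => hb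
  | k + 1, b, v :: vs, hb, hv => by
    have hr := red_mem hx b v hb (hv v List.mem_cons_self)
    rw [clo]
    cases hc : (red b v == 0) <;> simp only [cond_true, cond_false]
    · refine clo_mem hx hS hC k _ _ (fun a ha => ?_) fun a ha => ?_
      · rcases mem_ins ha with rfl | ha
        · exact hr
        · exact hb a ha
      · rcases List.mem_cons.1 ha with rfl | ha
        · exact hS _ hr
        rcases List.mem_cons.1 ha with rfl | ha
        · exact hC _ hr
        · exact hv a (List.mem_cons_of_mem _ ha)
    · exact clo_mem hx hS hC k b vs hb fun a ha => hv a (List.mem_cons_of_mem _ ha)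

/-- The image under a word in the two elements. -/
def runV : List Bool → ℕ → ℕ
  | [], a => a
  | w :: ws, a => runV ws (bif w then encAux rowsC a else encAux rowsS a)

/-- The image in the small space. -/
def runX : List Bool → ℕ → ℕ
  | [], x => x
  | w :: ws, x => runX ws (bif w then app4 mC x else app4 mS x)

/-- All words of bounded length. -/
def wordsUpTo : ℕ → List (List Bool)
  | 0 => [[]]
  | n + 1 => [] :: (wordsUpTo n).flatMap fun w => [false :: w, true :: w]

theorem reach_ok : ((List.range 16).all fun x => x == 0 ||
    (wordsUpTo 6).any fun w => runX w x == 1) = true := by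
  decide +kernel

theorem closure_ok : allBits (fun a => !(phiIdx a == 1) ||
    (let B := clo 40 [] [a]; (List.range 11).all fun j => red B (2 ^ j) == 0)) 11 0 = true := by
  decide +kernel

/-- A Boolean as a number. -/
def bnum (b : Bool) : ℕ := bif b then 1 else 0

/-- The form as a number. -/
def omN (x y : ℕ) : ℕ := bnum (om x y)

theorem om_add : ((List.range 16).all fun x => (List.range 16).all fun y => (List.range 16).all fun z =>
    omN (x ^^^ y) z == omN x z ^^^ omN y z && omN z (x ^^^ y) == omN z x ^^^ omN z y) = true := by
  decide +kernel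

theorem omN_left {x y z : ℕ} (hx : x < 16) (hy : y < 16) (hz : z < 16) :
    omN (x ^^^ y) z = omN x z ^^^ omN y z ∧ omN z (x ^^^ y) = omN z x ^^^ omN z y := by
  have h := om_add
  simp only [List.all_eq_true, List.mem_range, Bool.and_eq_true, beq_iff_eq] at h
  exact h x hx y hy z hz

/-- The columns of the alternating form with the given six values. -/
def cols (v : List ℕ) : List (List ℕ) :=
  [[0, v.getD 0 0, v.getD 1 0, v.getD 2 0], [v.getD 0 0, 0, v.getD 3 0, v.getD 4 0],
    [v.getD 1 0, v.getD 3 0, 0, v.getD 5 0], [v.getD 2 0, v.getD 4 0, v.getD 5 0, 0]]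

/-- The form with the given six values. -/
def bform (v : List ℕ) (x y : ℕ) : ℕ := encAux ((cols v).map fun c => encAux c x) y

/-- The pairs of basis vectors. -/
def pairs6 : List (ℕ × ℕ) := [(1, 2), (1, 4), (1, 8), (2, 4), (2, 8), (4, 8)]

/-- The six values of the pulled back form. -/
def six (m : ℕ) : List ℕ := pairs6.map fun p => omN (app4 m p.1) (app4 m p.2)

theorem encAux_congr {f g : ℕ → ℕ} (hf : ∀ a b, a < 16 → b < 16 → f (a ^^^ b) = f a ^^^ f b)
    (hg : ∀ a b, a < 16 → b < 16 → g (a ^^^ b) = g a ^^^ g b) (h0 : f 0 = g 0) :
    ∀ (l : List ℕ), (∀ r ∈ l, r < 16 ∧ f r = g r) → ∀ x, f (encAux l x) = g (encAux l x)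
  | [], _, x => by simpa [encAux] using h0
  | r :: l, h, x => by
    obtain ⟨hr, he⟩ := h r List.mem_cons_self
    have hl : encAux l (x / 2) < 16 := encAux_lt l 4 (fun t ht => (h t (List.mem_cons_of_mem _ ht)).1) _
    have ih := encAux_congr hf hg h0 l (fun t ht => h t (List.mem_cons_of_mem _ ht)) (x / 2)
    rw [encAux]
    split
    · rw [hf _ _ hr hl, hg _ _ hr hl, he, ih]
    · rw [Nat.zero_xor, ih]

theorem omN_zero : ((List.range 16).all fun x => omN 0 x == 0 && omN x 0 == 0 && omN x x == 0 &&
    (List.range 16).all fun y => omN x y == omN y x) = true := by decide +kernel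

theorem omN_eq_bform (m : ℕ) {x y : ℕ} (hx : x < 16) (hy : y < 16) :
    omN (app4 m x) (app4 m y) = bform (six m) x y := by
  have hl : ∀ z, app4 m z < 16 := fun z => encAux_lt _ 4 (by
    intro r hr
    simp only [List.mem_cons, List.not_mem_nil, or_false] at hr
    rcases hr with rfl | rfl | rfl | rfl <;> omega) z
  have hz := omN_zero
  simp only [List.all_eq_true, List.mem_range, Bool.and_eq_true, beq_iff_eq] at hz
  have hb : ∀ z < 16, encAux [1, 2, 4, 8] z = z := by decide +kernel
  have key : ∀ j ∈ [1, 2, 4, 8], ∀ z < 16, omN (app4 m z) (app4 m j) = bform (six m) z j := by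
    intro j hj z hz'
    have hbj : ∀ z, bform (six m) z j =
        encAux ((cols (six m)).getD (bif j == 1 then 0 else bif j == 2 then 1 else bif j == 4 then 2 else 3) []) z := by
      intro z
      simp only [List.mem_cons, List.not_mem_nil, or_false] at hj
      rcases hj with rfl | rfl | rfl | rfl <;> simp [bform, cols, encAux]
    rw [← hb z hz']
    refine encAux_congr (f := fun z => omN (app4 m z) (app4 m j)) (g := fun z => bform (six m) z j)
      (fun a b _ _ => ?_) (fun a b _ _ => ?_) ?_ _ (fun r hr => ?_) z
    · show omN (app4 m (a ^^^ b)) _ = _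
      rw [app4, encAux_xor]
      exact (omN_left (hl a) (hl b) (hl j)).1
    · show bform _ (a ^^^ b) j = _
      rw [hbj, hbj a, hbj b, encAux_xor]
    · show omN (app4 m 0) _ = _
      rw [hbj, encAux_zero, show app4 m 0 = 0 from encAux_zero _]
      exact (hz _ (hl j)).1.1.1
    · simp only [List.mem_cons, List.not_mem_nil, or_false] at hr hj
      refine ⟨by omega, ?_⟩
      have hs : ∀ u, omN (app4 m u) (app4 m u) = 0 := fun u => (hz _ (hl u)).1.2
      have hc : ∀ u v, omN (app4 m u) (app4 m v) = omN (app4 m v) (app4 m u) :=
        fun u v => (hz _ (hl u)).2 _ (hl v)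
      show omN (app4 m r) (app4 m j) = _
      rw [hbj]
      rcases hr with rfl | rfl | rfl | rfl <;> rcases hj with rfl | rfl | rfl | rfl <;>
        simp [cols, six, pairs6, encAux, hs] <;> exact hc _ _
  rw [← hb y hy]
  refine encAux_congr (f := fun w => omN (app4 m x) (app4 m w)) (g := fun w => bform (six m) x w)
    (fun a b _ _ => ?_) (fun a b _ _ => encAux_xor _ a b) ?_ _ (fun r hr => ⟨?_, key r hr x hx⟩) y
  · show omN _ (app4 m (a ^^^ b)) = _
    rw [show app4 m (a ^^^ b) = app4 m a ^^^ app4 m b from encAux_xor _ a b]
    exact (omN_left (hl a) (hl b) (hl x)).2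
  · show omN _ (app4 m 0) = _
    rw [show app4 m 0 = 0 from encAux_zero _, (hz _ (hl x)).1.1.2]
    exact (encAux_zero _).symm
  · simp only [List.mem_cons, List.not_mem_nil, or_false] at hr
    omega

/-- The standard six values. -/
def omSix : List ℕ := [0, 1, 0, 0, 1, 0]

theorem form_unique : allBits (fun w =>
    let v := (List.range 6).map fun i => bnum (w.testBit i)
    !([mS, mC].all fun g => pairs6.all fun p => bform v (app4 g p.1) (app4 g p.2) == bform v p.1 p.2) ||
      v == [0, 0, 0, 0, 0, 0] || v == omSix) 6 0 = true := by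
  decide +kernel

theorem gen_form : [mS, mC].all (fun g => (List.range 16).all fun x => (List.range 16).all fun y =>
    om (app4 g x) (app4 g y) == om x y) = true := by decide +kernel

theorem app4_one : (List.range 16).all (fun x => app4 0x8421 x == x) = true := by decide +kernel

theorem encAux_comp {f : ℕ → ℕ} (h : ∀ a b, f (a ^^^ b) = f a ^^^ f b) (h0 : f 0 = 0) :
    ∀ (l : List ℕ) (x : ℕ), encAux (l.map f) x = f (encAux l x)
  | [], x => by simp [encAux, h0]
  | g :: l, x => by
    simp only [List.map_cons, encAux, encAux_comp h h0 l, h]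
    split <;> simp [h0]

theorem app4_lt {m : ℕ} (x : ℕ) : app4 m x < 16 :=
  encAux_lt _ 4 (by
    intro r hr
    simp only [List.mem_cons, List.not_mem_nil, or_false] at hr
    rcases hr with rfl | rfl | rfl | rfl <;> omega) x

theorem app4_comp (m n x : ℕ) : app4 (comp4 m n) x = app4 m (app4 n x) := by
  have h0 := app4_lt (m := m) (n % 16)
  have h1 := app4_lt (m := m) (n / 16 % 16)
  have h2 := app4_lt (m := m) (n / 256 % 16)
  have h3 := app4_lt (m := m) (n / 4096 % 16)
  rw [app4, app4.eq_def n x, ← encAux_comp (f := app4 m) (fun a b => encAux_xor _ a b) (encAux_zero _)]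
  simp only [List.map_cons, List.map_nil, comp4]
  refine congrArg (fun l => encAux l x) ?_
  simp only [List.cons.injEq, and_true]
  omega

theorem ga_chain : (List.range 720).all (fun k =>
    bif k == 0 then gaList.getD 0 0 == 0x8421
    else Nat.blt (gaParent.getD k 0 / 2) k &&
      gaList.getD k 0 == comp4 (gaList.getD (gaParent.getD k 0 / 2) 0)
        (bif gaParent.getD k 0 % 2 == 1 then mC else mS)) = true := by decide +kernel

theorem ga_distinct : gaList.length = 720 ∧ distinctBits 16 gaList = true := by decide +kernel

theorem ga_nodup : gaList.Nodup := nodup_of_distinctBits _ _ ga_distinct.2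

theorem maps_ok : ((List.range 16).all fun a => (List.range 16).all fun b =>
    !(omN a b == 0) || (List.range 16).all fun c =>
      !(omN a c == 1 && omN b c == 0) || (List.range 16).all fun d =>
        !(omN a d == 0 && omN b d == 1 && omN c d == 0) ||
          gaBits.testBit (a + 16 * b + 256 * c + 4096 * d)) = true := by
  decide +kernel

theorem rs_act : ((List.range 16).all fun x => sameC [rsCode, aCode x] [aCode (app4 mS x), rsCode] &&
    sameC [rcCode, aCode x] [aCode (app4 mC x), rcCode]) = true := by decide +kernel

theorem rs_mem : [rsCode, rcCode].all (fun d => imgMask d oM == oM && imgMask d 0x800001 == 0x800001) = true := by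
  decide +kernel

/-- The lifts of the letters. -/
def letters (a b : ℕ) : Bool → List ℕ
  | false => [aCode a, rsCode]
  | true => [aCode b, rcCode]

/-- The letters on `V`. -/
def gens : Bool → List ℕ
  | false => [sCode]
  | true => [cCode]

theorem rel_ok : ((List.range 6).all fun j =>
    sameC ((relWords.getD j []).flatMap gens) [kerCodes.getD (relIdx.getD j 0) 0]) = true := by decide +kernel

theorem swap_ok : ((List.range 5).all fun j =>
    sameC ((swapWords.getD j ([], 0)).1.flatMap gens ++ [kerCodes.getD (swapWords.getD j ([], 0)).2 0])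
      [swapCodes.getD j 0]) = true := by decide +kernel

theorem ker_wit : kerCodes.length = 192 ∧ sameC [kapCode, kapCode, kapCode] [] = true ∧ (List.range 192).all (fun j =>
    sameC [kerCodes.getD j 0, kerCodes.getD (kerWit.getD j (0, 0)).2 0, kapCode]
      (List.replicate (kerWit.getD j (0, 0)).1 kapCode ++ [kapCode, kerCodes.getD (kerWit.getD j (0, 0)).2 0])) = true := by
  decide +kernel

/-- Both lifts conjugated by `c` fix the anchor. -/
def anchorOk (a b c : ℕ) (i : Bool) : Bool :=
  [false, true].all fun w =>
    bif i then runMask ([aCode c] ++ letters a b w ++ [aCode c]) anchorMask == anchorMask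
    else runC ([aCode c] ++ letters a b w ++ [aCode c]) anchorIdx == anchorIdx

theorem pairs_ok : ((List.range 16).all fun a => (List.range 16).all fun b =>
    !(relWords.all fun w => sameC (w.flatMap (letters a b)) []) ||
      (List.range 16).any fun c => anchorOk a b c false || anchorOk a b c true) = true := by decide +kernel

end Cfsg.Agent.J4Type.Order
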