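/-
Products of coded permutations and the stabiliser of the sextet element (owner: helper81).

* `toPL`, `idx_toPL`, `toPL_congr` : products of lists of codes
* `kerEl`, `swEl`, `stab_induction` : the stabiliser of `xsC` is generated by the listed elements
* `Ael` : the elements fixing the octad pointwise
-/
import Cfsg.Agent.Lib.J4Type.Order.KappaChecks

set_option autoImplicit false
set_option maxRecDepth 100000
open scoped Pointwise
open Cfsg Cfsg.Agent.Golay
open Cfsg.Agent.M24Sylow hiding word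

namespace Cfsg.Agent.J4Type.Order

open KappaTab
open Cfsg.Agent.J4Type.TwoTen (q act lift oM oct rList rcode rcode_check rList_lt actP Ctx)

/-- The product of the permutations of a list of codes. -/
noncomputable def toPL (L : List ℕ) : Equiv.Perm GolayPt := (L.map toPerm).prod

theorem toPL_nil : toPL [] = 1 := by simp [toPL]

theorem toPL_append (L L' : List ℕ) : toPL (L ++ L') = toPL L * toPL L' := by simp [toPL]

theorem toPL_single (d : ℕ) : toPL [d] = toPerm d := by simp [toPL]

theorem toPL_pair (d e : ℕ) : toPL [d, e] = toPerm d * toPerm e := by simp [toPL]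

theorem idx_toPL : ∀ (L : List ℕ), (∀ d ∈ L, validPerm d = true) → ∀ p,
    idx (toPL L p) = runC L (idx p)
  | [], _, p => by simp [toPL, runC]
  | d :: L, h, p => by
    rw [show d :: L = [d] ++ L from rfl, toPL_append, Equiv.Perm.mul_apply, toPL_single,
      idx_toPerm (h d List.mem_cons_self), idx_toPL L fun e he => h e (List.mem_cons_of_mem _ he)]
    rfl

theorem toPL_congr {L L' : List ℕ} (hL : ∀ d ∈ L, validPerm d = true) (hL' : ∀ d ∈ L', validPerm d = true)
    (h : sameC L L' = true) : toPL L = toPL L' := by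
  refine Equiv.ext fun p => idx_injective ?_
  rw [idx_toPL L hL, idx_toPL L' hL']
  simpa using List.all_eq_true.1 h (idx p) (List.mem_range.2 (idx_lt p))

theorem toPL_smul : ∀ (L : List ℕ), (∀ d ∈ L, validPerm d = true) → ∀ m,
    toPL L • pts m = pts (runMask L m)
  | [], _, m => by simp [toPL, runMask]
  | d :: L, h, m => by
    rw [show d :: L = [d] ++ L from rfl, toPL_append, mul_smul,
      toPL_smul L (fun e he => h e (List.mem_cons_of_mem _ he)), toPL_single, ← pts_imgMask (h d List.mem_cons_self)]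
    rfl

theorem isAut_code {d : ℕ} (h : d ∈ [k0Code, sCode, cCode, rsCode, rcCode] ++ kerCodes ++ swapCodes) :
    isAut d = true := List.all_eq_true.1 codes_aut d h

theorem valid_code {d : ℕ} (h : d ∈ [k0Code, sCode, cCode, rsCode, rcCode] ++ kerCodes ++ swapCodes) :
    validPerm d = true := validPerm_of_isAut (isAut_code h)

theorem ker_mem {j : ℕ} (hj : j < 192) : kerCodes.getD j 0 ∈ kerCodes := by
  rw [List.getD_eq_getElem _ _ (by rw [ker_wit.1]; exact hj)]
  exact List.getElem_mem _

theorem swap_mem : ∀ j < 5, swapCodes.getD j 0 ∈ swapCodes := by decide +kernel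

theorem gens_mem (w : Bool) : ∀ d ∈ gens w, d ∈ [k0Code, sCode, cCode, rsCode, rcCode] ++ kerCodes ++ swapCodes := by
  cases w <;> simp [gens]

/-- The element of M24 of a code. -/
noncomputable def m24 (d : ℕ) : ↥M24 :=
  if h : isAut d = true then ⟨toPerm d, toPerm_mem_M24 h⟩ else 1

theorem m24_val {d : ℕ} (h : isAut d = true) : (m24 d : Equiv.Perm GolayPt) = toPerm d := by
  rw [m24, dif_pos h]

/-- The elements fixing the tetrads. -/
noncomputable def kerEl (j : ℕ) : ↥M24 := m24 (kerCodes.getD j 0)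

/-- The transpositions. -/
noncomputable def swEl (j : ℕ) : ↥M24 := m24 (swapCodes.getD j 0)

theorem kerEl_val {j : ℕ} (hj : j < 192) :
    (kerEl j : Equiv.Perm GolayPt) = toPerm (kerCodes.getD j 0) :=
  m24_val (isAut_code (List.mem_append_left _ (List.mem_append_right _ (ker_mem hj))))

theorem swEl_val {j : ℕ} (hj : j < 5) :
    (swEl j : Equiv.Perm GolayPt) = toPerm (swapCodes.getD j 0) :=
  m24_val (isAut_code (List.mem_append_right _ (swap_mem j hj)))

/-- The letters in M24. -/
noncomputable def gEl : Bool → ↥M24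
  | false => m24 sCode
  | true => m24 cCode

theorem gEl_val (w : Bool) : (gEl w : Equiv.Perm GolayPt) = toPL (gens w) := by
  cases w <;> rw [gens, toPL_single] <;> exact m24_val (isAut_code (by simp))

theorem word_val : ∀ (l : List Bool), (((l.map gEl).prod : ↥M24) : Equiv.Perm GolayPt) = toPL (l.flatMap gens)
  | [] => by simp [toPL]
  | w :: l => by
    rw [List.map_cons, List.prod_cons, Subgroup.coe_mul, List.flatMap_cons, toPL_append, gEl_val, word_val l]

theorem flat_valid (l : List Bool) : ∀ d ∈ l.flatMap gens, validPerm d = true := by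
  intro d hd
  obtain ⟨w, -, hw⟩ := List.mem_flatMap.1 hd
  exact valid_code (gens_mem w d hw)

theorem rel_word {j : ℕ} (hj : j < 6) :
    ((relWords.getD j []).map gEl).prod = kerEl (relIdx.getD j 0) ∧ relIdx.getD j 0 < 192 := by
  have hlt : ∀ j < 6, relIdx.getD j 0 < 192 := by decide +kernel
  refine ⟨Subtype.ext ?_, hlt j hj⟩
  rw [word_val, kerEl_val (hlt j hj), ← toPL_single (kerCodes.getD _ 0)]
  refine toPL_congr (flat_valid _) ?_ (List.all_eq_true.1 rel_ok j (List.mem_range.2 hj))
  simp only [List.mem_singleton, forall_eq]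
  exact valid_code (List.mem_append_left _ (List.mem_append_right _ (ker_mem (hlt j hj))))

theorem swap_word {j : ℕ} (hj : j < 5) :
    swEl j = ((swapWords.getD j ([], 0)).1.map gEl).prod * kerEl (swapWords.getD j ([], 0)).2 ∧
      (swapWords.getD j ([], 0)).2 < 192 := by
  have hlt : ∀ j < 5, (swapWords.getD j ([], 0)).2 < 192 := by decide +kernel
  refine ⟨Subtype.ext ?_, hlt j hj⟩
  rw [Subgroup.coe_mul, word_val, kerEl_val (hlt j hj), ← toPL_single (kerCodes.getD _ 0), ← toPL_append,
    swEl_val hj, ← toPL_single (swapCodes.getD _ 0)]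
  refine (toPL_congr ?_ ?_ (List.all_eq_true.1 swap_ok j (List.mem_range.2 hj))).symm
  · intro d hd
    rcases List.mem_append.1 hd with hd | hd
    · exact flat_valid _ d hd
    · rw [List.mem_singleton.1 hd]
      exact valid_code (List.mem_append_left _ (List.mem_append_right _ (ker_mem (hlt j hj))))
  · simp only [List.mem_singleton, forall_eq]
    exact valid_code (List.mem_append_right _ (swap_mem j hj))

/-! ### The stabiliser -/

variable {G : Type*} [Group G] [Finite G] (C : Ctx G)

include C in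
theorem q_smul (σ : ↥M24) {m : ℕ} (hm : m < 2 ^ 24) (he : Ev (word m)) :
    q (maskOf ((σ : Equiv.Perm GolayPt) • pts m)) = actP (σ : Equiv.Perm GolayPt) (q m) := by
  refine C.vv_inj (TwoTen.q_lt _) (TwoTen.q_lt _) ?_
  rw [← C.conj_vv, ← C.phi_word hm he, C.M.equiv σ _ he, TwoTen.sh_word_mask]
  refine (C.phi_word (maskOf_lt _) ?_).symm
  rw [← TwoTen.sh_word_mask, Ev, sum_sh]
  exact he

theorem mem_six {m : ℕ} (hm : m < 2 ^ 24) (h4 : popcount m = 4) (hq : q m = xsC) : m ∈ sixMasks := by
  have hev : ∀ x, popcount x = 4 → ∑ p, word x p = 0 := fun x hx => by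
    rw [TwoTen.sum_word, hx]; rfl
  have h1 := TwoTen.word_sub_lift hm (hev m h4)
  have h2 := TwoTen.word_sub_lift (m := 0xf) (by norm_num) (hev _ (by decide +kernel))
  rw [← xsC_eq] at h2
  rw [hq] at h1
  have h3 : word m + word 0xf ∈ golayCode := by
    have := add_mem h1 h2
    rwa [show word m + word (lift xsC) + (word 0xf + word (lift xsC)) = word m + word 0xf by
      rw [add_add_add_comm, show word (lift xsC) + word (lift xsC) = 0 by
        funext p; exact CharTwo.add_self_eq_zero _, add_zero]] at this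
  rw [← word_xor, word_mem_golayCode_iff (Nat.xor_lt_two_pow hm (by norm_num))] at h3
  have he : enc ((m ^^^ 0xf) % 4096) = m ^^^ 0xf := beq_iff_eq.1 h3
  have h := forall_lt_two_pow six_all (k := 12) (i := (m ^^^ 0xf) % 4096) (Nat.mod_lt _ (by norm_num))
  simp only [he, Nat.xor_assoc, Nat.xor_self, Nat.xor_zero, Bool.or_eq_true, Bool.not_eq_true',
    beq_eq_false_iff_ne, List.any_eq_true, beq_iff_eq] at h
  rcases h with h | ⟨t, ht, rfl⟩
  · exact absurd h4 h
  · exact ht

/-- Fixing the sextet element. -/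
def Fixes (σ : ↥M24) : Prop := actP (σ : Equiv.Perm GolayPt) xsC = xsC

include C in
theorem fixes_tetrad {σ : ↥M24} (hσ : Fixes σ) {m : ℕ} (hm : m ∈ sixMasks) :
    ∃ m' ∈ sixMasks, (σ : Equiv.Perm GolayPt) • pts m = pts m' := by
  have hs := six_code
  simp only [Bool.and_eq_true, List.all_eq_true, beq_iff_eq, decide_eq_true_eq] at hs
  obtain ⟨⟨hq, h4⟩, hlt⟩ := hs.1.2 m hm
  have he : Ev (word m) := TwoTen.ev_of_popcount (by rw [h4])
  refine ⟨maskOf ((σ : Equiv.Perm GolayPt) • pts m), mem_six (maskOf_lt _) ?_ ?_, (pts_maskOf _).symm⟩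
  · rw [popcount_maskOf, Finset.card_smul_finset, card_pts, h4]
  · rw [q_smul C σ hlt he, hq]
    exact hσ

theorem k0_perm {d e : ℕ} (hd : validPerm d = true) (he : validPerm e = true)
    (h : sameC [d, k0Code] [k0Code, e] = true) :
    toPerm d = toPerm k0Code * toPerm e * (toPerm k0Code)⁻¹ := by
  have hk : validPerm k0Code = true := valid_code (by simp)
  have := toPL_congr (L := [d, k0Code]) (L' := [k0Code, e]) (by simp [hd, hk]) (by simp [he, hk]) h
  rw [toPL_pair, toPL_pair] at this
  rw [← this, mul_inv_cancel_right]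

include C in
/-- **The stabiliser is generated by the listed elements.** -/
theorem stab_induction (R : ↥M24 → Prop) (h1 : R 1) (hmul : ∀ a b, R a → R b → R (a * b))
    (hker : ∀ j < 192, R (kerEl j)) (hsw : ∀ j < 5, R (swEl j)) {σ : ↥M24} (hσ : Fixes σ) : R σ := by
  classical
  set k := toPerm k0Code with hk
  have hkv : validPerm k0Code = true := valid_code (by simp)
  have hk6 := k0_sextet
  simp only [Bool.and_eq_true, List.all_eq_true, List.mem_range, List.contains_iff_mem, List.any_eq_true,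
    beq_iff_eq] at hk6
  let c : ↥M24 → Equiv.Perm GolayPt := fun g => k⁻¹ * (g : Equiv.Perm GolayPt) * k
  have hmove : ∀ i : Fin 6, ∃ j : Fin 6, c σ • tetrad0 i = tetrad0 j := by
    intro i
    obtain ⟨m', hm', he⟩ := fixes_tetrad C hσ (hk6.1 i.val i.isLt)
    obtain ⟨j, hj, hji⟩ := hk6.2 m' hm'
    refine ⟨⟨j, hj⟩, ?_⟩
    show (k⁻¹ * (σ : Equiv.Perm GolayPt) * k) • tetrad0 i = pts (sextet0.getD j 0)
    rw [mul_smul, mul_smul, tetrad0, hk, ← pts_imgMask hkv, he, ← hji, pts_imgMask hkv, inv_smul_smul]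
  choose f hf using hmove
  have hfb : Function.Bijective f := Finite.injective_iff_bijective.1 fun i j h =>
    tetrad0_bij.1 (MulAction.injective (c σ) (show c σ • tetrad0 i = c σ • tetrad0 j by rw [hf, hf, h]))
  let e := Equiv.ofBijective f hfb
  let M : Submonoid (Equiv.Perm (Fin 6)) :=
    { carrier := {ε | ∃ g, R g ∧ ∀ i, c g • tetrad0 i = tetrad0 (ε i)}
      one_mem' := ⟨1, h1, fun i => by simp [c]⟩
      mul_mem' := by
        rintro a b ⟨g, hg, ha⟩ ⟨g', hg', hb⟩
        refine ⟨g * g', hmul _ _ hg hg', fun i => ?_⟩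
        rw [show c (g * g') = c g * c g' by simp [c, mul_assoc], mul_smul, hb, ha]
        rfl }
  have hle : Submonoid.closure
      (Set.range fun i : Fin 5 => Equiv.swap i.castSucc i.succ) ≤ M := by
    rw [Submonoid.closure_le]
    rintro _ ⟨j, rfl⟩
    have h := swaps_cert
    simp only [List.all_eq_true, List.mem_range, Bool.and_eq_true, beq_iff_eq] at h
    obtain ⟨hok, himg⟩ := h j.val j.isLt
    have ha : isAut (sextetSwaps.getD j.val 0) = true := (Bool.and_eq_true_iff.mp hok).1
    refine ⟨swEl j.val, hsw _ j.isLt, fun i => ?_⟩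
    show (k⁻¹ * (swEl j.val : Equiv.Perm GolayPt) * k) • tetrad0 i = _
    rw [swEl_val j.isLt, k0_perm (valid_code (List.mem_append_right _ (swap_mem _ j.isLt)))
        (validPerm_of_isAut ha) (List.all_eq_true.1 (Bool.and_eq_true_iff.1 k0_ker).2 _ (List.mem_range.2 j.isLt)),
      ← hk, show k⁻¹ * (k * toPerm (sextetSwaps.getD j.val 0) * k⁻¹) * k = toPerm (sextetSwaps.getD j.val 0) by
        group]
    rw [tetrad0, ← pts_imgMask (validPerm_of_isAut ha), himg i.val i.isLt, tetrad0]
    congr 2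
    rw [Equiv.swap_apply_def]
    simp only [Fin.ext_iff, Fin.val_castSucc, Fin.val_succ, apply_ite Fin.val]
  rw [Equiv.Perm.mclosure_swap_castSucc_succ] at hle
  obtain ⟨g, hg, hge⟩ := hle (Submonoid.mem_top e)
  have hfix : c (g⁻¹ * σ) ∈ SextetFix0 := by
    refine ⟨mul_mem (mul_mem (inv_mem (toPerm_mem_M24 (isAut_code (by simp)))) (g⁻¹ * σ).2)
      (toPerm_mem_M24 (isAut_code (by simp))), fun t ht => ?_⟩
    obtain ⟨i, rfl⟩ := tetrad0_bij.2 t ht
    rw [show c (g⁻¹ * σ) = (c g)⁻¹ * c σ by simp [c, mul_assoc], mul_smul, inv_smul_eq_iff, hge, hf]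
    rfl
  rw [sextetFix0_eq, List.coe_toFinset, Set.mem_ofPred_eq, List.mem_map] at hfix
  obtain ⟨d, hd, hde⟩ := hfix
  obtain ⟨j, hj, rfl⟩ := List.mem_iff_getElem.1 hd
  rw [sextetKernel_length.1] at hj
  have hok := sextetKernel_ok
  simp only [List.all_eq_true, Bool.and_eq_true, beq_iff_eq] at hok
  have hrel := List.all_eq_true.1 (Bool.and_eq_true_iff.1 k0_ker).1 j (List.mem_range.2 hj)
  rw [List.getD_eq_getElem sextetKernel 0 (by rw [sextetKernel_length.1]; exact hj)] at hrel
  have heq : g⁻¹ * σ = kerEl j := by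
    refine Subtype.ext ?_
    rw [kerEl_val hj, k0_perm (valid_code (List.mem_append_left _ (List.mem_append_right _ (ker_mem hj))))
      (validPerm_of_isAut (hok _ hd).1) hrel, hde]
    simp [c, hk, mul_assoc]
  rw [show σ = g * (g⁻¹ * σ) by group, heq]
  exact hmul _ _ hg (hker j hj)

/-! ### The elements fixing the octad -/

/-- The `x`th element fixing the octad pointwise. -/
noncomputable def Ael (x : ℕ) : Equiv.Perm GolayPt := ((elt (rcode x) : ↥M24) : Equiv.Perm GolayPt)

theorem aCode_valid {x : ℕ} (hx : x < 16) : validPerm (aCode x) = true :=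
  perm_valid (rList_lt (rcode_check.1 _ hx))

theorem toPerm_aCode {x : ℕ} (hx : x < 16) : toPerm (aCode x) = Ael x :=
  (elt_val (rList_lt (rcode_check.1 _ hx))).symm

theorem Ael_mem {x : ℕ} (hx : x < 16) : Ael x ∈ octadFix o0 :=
  Subgroup.mem_subgroupOf.1 (TwoTen.elt_mem_Rgrp (rcode_check.1 _ hx))

theorem Ael_surj {g : Equiv.Perm GolayPt} (hg : g ∈ octadFix o0) : ∃ x < 16, Ael x = g := by
  obtain ⟨a, ha, hae⟩ := (TwoTen.mem_Rgrp_iff (x := ⟨g, (mem_octadFix.1 hg).1⟩)).1
    (Subgroup.mem_subgroupOf.2 hg)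
  obtain ⟨x, hx, rfl⟩ := rcode_check.2 a ha
  exact ⟨x, hx, congrArg Subtype.val hae⟩

theorem Ael_inj {x y : ℕ} (hx : x < 16) (hy : y < 16) (h : Ael x = Ael y) : x = y :=
  TwoTen.rcode_injOn _ hx _ hy (TwoTen.elt_injective (rList_lt (rcode_check.1 _ hx))
    (rList_lt (rcode_check.1 _ hy)) (Subtype.ext h))

theorem Ael_xor {x y : ℕ} (hx : x < 16) (hy : y < 16) : Ael (x ^^^ y) = Ael x * Ael y := by
  rw [Ael, TwoTen.Ctx.elt_rcode_xor hx hy]; rfl

theorem Ael_zero : Ael 0 = 1 := by
  have h := Ael_xor (x := 0) (y := 0) (by norm_num) (by norm_num)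
  rw [Nat.xor_self] at h
  simpa using h

theorem Ael_sq {x : ℕ} (hx : x < 16) : Ael x * Ael x = 1 := by
  rw [← Ael_xor hx hx, Nat.xor_self, Ael_zero]

theorem Ael_inv {x : ℕ} (hx : x < 16) : (Ael x)⁻¹ = Ael x :=
  inv_eq_of_mul_eq_one_right (Ael_sq hx)

theorem toPerm_phi (a : ℕ) : toPerm (phiCode a) = Ael (phiIdx a) := toPerm_phiCode a

end Cfsg.Agent.J4Type.Order
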