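/-
The equivariant maps from `V` onto the elements fixing the octad pointwise (owner: helper81).

* `Acts`, `ga_all`, `rs_acts` : the action of the octad stabiliser on its pointwise fixed 16 elements
* `exists_straighten` : up to the octad stabiliser there is only `phiIdx`
-/
import Cfsg.Agent.Lib.J4Type.Order.KappaStab

set_option autoImplicit false
set_option maxRecDepth 100000
open scoped Pointwise
open Cfsg Cfsg.Agent.Golay
open Cfsg.Agent.M24Sylow hiding word

namespace Cfsg.Agent.J4Type.Order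

open KappaTab
open Cfsg.Agent.J4Type.TwoTen (q act lift oM oct rList rcode rcode_check rList_lt actP)

/-- `g` acts on the elements fixing the octad by the coded map. -/
def Acts (g : Equiv.Perm GolayPt) (m : ℕ) : Prop :=
  ∀ x < 16, g * Ael x * g⁻¹ = Ael (app4 m x)

theorem conj_Ael_of_code {d x y : ℕ} (hd : validPerm d = true) (hx : x < 16) (hy : y < 16)
    (h : sameC [d, aCode x] [aCode y, d] = true) : toPerm d * Ael x * (toPerm d)⁻¹ = Ael y := by
  have := toPL_congr (by simp [hd, aCode_valid hx]) (by simp [hd, aCode_valid hy]) h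
  rw [toPL_pair, toPL_pair, toPerm_aCode hx, toPerm_aCode hy] at this
  rw [this, mul_inv_cancel_right]

theorem rs_acts : Acts (toPerm rsCode) mS ∧ Acts (toPerm rcCode) mC := by
  constructor <;> intro x hx <;>
    obtain ⟨h1, h2⟩ := Bool.and_eq_true_iff.1 (List.all_eq_true.1 rs_act x (List.mem_range.2 hx))
  · exact conj_Ael_of_code (valid_code (by simp)) hx (app4_lt x) h1
  · exact conj_Ael_of_code (valid_code (by simp)) hx (app4_lt x) h2

theorem rs_stab : toPerm rsCode ∈ stabO o0 ∧ toPerm rcCode ∈ stabO o0 := by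
  have h := rs_mem
  simp only [List.all_eq_true, Bool.and_eq_true, beq_iff_eq, List.mem_cons, List.not_mem_nil, or_false,
    forall_eq_or_imp, forall_eq] at h
  have hp : pts 0x800001 = ({pA, pB} : Finset GolayPt) := by decide +kernel
  have key : ∀ d, isAut d = true → imgMask d oM = oM → imgMask d 0x800001 = 0x800001 → toPerm d ∈ stabO o0 := by
    intro d hd h1 h2
    refine ⟨⟨toPerm_mem_M24 hd, ?_⟩, ?_⟩
    · show toPerm d • ({pA, pB} : Finset GolayPt) = {pA, pB}
      rw [← hp, ← pts_imgMask (validPerm_of_isAut hd), h2]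
    · show toPerm d • pts oM = pts oM
      rw [← pts_imgMask (validPerm_of_isAut hd), h1]
  exact ⟨key _ (isAut_code (by simp)) h.1.1 h.1.2, key _ (isAut_code (by simp)) h.2.1 h.2.2⟩

/-- The `k`th member of the list. -/
def gaAt (k : ℕ) : ℕ := gaList.getD k 0

theorem gaAt_mem {k : ℕ} (hk : k < 720) : gaAt k ∈ gaList := by
  rw [gaAt, List.getD_eq_getElem _ _ (by rw [ga_distinct.1]; exact hk)]
  exact List.getElem_mem _

theorem exists_gaAt {m : ℕ} (h : m ∈ gaList) : ∃ k < 720, gaAt k = m := by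
  obtain ⟨k, hk, rfl⟩ := List.mem_iff_getElem.1 h
  exact ⟨k, by rw [← ga_distinct.1]; exact hk, List.getD_eq_getElem _ _ hk⟩

/-- The form is invariant under `m`. -/
def Iso (m : ℕ) : Prop := ∀ x < 16, ∀ y < 16, omN (app4 m x) (app4 m y) = omN x y

theorem ga_real : ∀ k < 720, (∃ g ∈ stabO o0, Acts g (gaAt k)) ∧ Iso (gaAt k) := by
  intro k
  induction k using Nat.strong_induction_on with
  | _ k ih =>
    intro hk
    have h := List.all_eq_true.1 ga_chain k (List.mem_range.2 hk)
    have h1 : ∀ x < 16, app4 0x8421 x = x := fun x hx => by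
      simpa using List.all_eq_true.1 app4_one x (List.mem_range.2 hx)
    by_cases hk0 : k = 0
    · subst hk0
      simp only [beq_self_eq_true, cond_true, beq_iff_eq] at h
      refine ⟨⟨1, one_mem _, fun x hx => ?_⟩, fun x hx y hy => ?_⟩ <;> rw [gaAt, h, h1 x hx]
      · simp
      · rw [h1 y hy]
    rw [show (k == 0) = false from beq_eq_false_iff_ne.2 hk0] at h
    simp only [cond_false, Bool.and_eq_true, Nat.blt_eq, beq_iff_eq] at h
    obtain ⟨⟨g, hg, hga⟩, hiso⟩ := ih _ h.1 (lt_trans h.1 hk)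
    have hgen : Iso mS ∧ Iso mC := by
      have hf := gen_form
      simp only [List.all_eq_true, List.mem_range, beq_iff_eq, List.mem_cons, List.not_mem_nil, or_false,
        forall_eq_or_imp, forall_eq] at hf
      exact ⟨fun x hx y hy => by rw [omN, hf.1 x hx y hy]; rfl, fun x hx y hy => by rw [omN, hf.2 x hx y hy]; rfl⟩
    have key : ∀ (r : Equiv.Perm GolayPt) (m : ℕ), r ∈ stabO o0 → Acts r m → Iso m →
        gaAt k = comp4 (gaAt (gaParent.getD k 0 / 2)) m → (∃ g ∈ stabO o0, Acts g (gaAt k)) ∧ Iso (gaAt k) := by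
      intro r m hr hrm him he
      refine ⟨⟨g * r, mul_mem hg hr, fun x hx => ?_⟩, fun x hx y hy => ?_⟩
      · rw [he, app4_comp, ← hga _ (app4_lt x), ← hrm x hx]; group
      · rw [he, app4_comp, app4_comp, hiso _ (app4_lt x) _ (app4_lt y), him x hx y hy]
    cases hb : (gaParent.getD k 0 % 2 == 1) <;> rw [hb] at h <;> simp only [cond_true, cond_false] at h
    · exact key _ mS rs_stab.1 rs_acts.1 hgen.1 h.2
    · exact key _ mC rs_stab.2 rs_acts.2 hgen.2 h.2

theorem ga_lt : gaList.all (fun m => Nat.blt m 65536) = true := by decide +kernel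

theorem code_ext {m n : ℕ} (hm : m < 65536) (hn : n < 65536) (h : ∀ x < 16, app4 m x = app4 n x) : m = n := by
  have h1 := h 1 (by norm_num)
  have h2 := h 2 (by norm_num)
  have h4 := h 4 (by norm_num)
  have h8 := h 8 (by norm_num)
  simp [app4, encAux] at h1 h2 h4 h8
  omega

theorem acts_comm {g : Equiv.Perm GolayPt} (hg : g ∈ M24) (h : ∀ x < 16, g * Ael x = Ael x * g) :
    g ∈ octadFix o0 :=
  hexOct_o0.centralizes_octadFix hg fun a ha => by
    obtain ⟨x, hx, rfl⟩ := Ael_surj ha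
    exact h x hx

theorem Ael_comm {a : Equiv.Perm GolayPt} (ha : a ∈ octadFix o0) {x : ℕ} (hx : x < 16) : a * Ael x = Ael x * a :=
  hexOct_o0.comm_fix ha (Ael_mem hx)

/-- **Every element of the stabiliser of the octad acts as a member of the list.** -/
theorem ga_all {g : Equiv.Perm GolayPt} (hg : g ∈ stabO o0) : ∃ m ∈ gaList, Acts g m := by
  classical
  have hr : ∀ k : Fin 720, ∃ r : ↥(stabO o0), Acts r (gaAt k) := fun k => by
    obtain ⟨⟨r, hr, hra⟩, -⟩ := ga_real k k.isLt
    exact ⟨⟨r, hr⟩, hra⟩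
  choose r hra using hr
  set A := (octadFix o0).subgroupOf (stabO o0) with hA
  have hsame : ∀ {u v : ↥(stabO o0)}, u⁻¹ * v ∈ A → ∀ x < 16,
      (v : Equiv.Perm GolayPt) * Ael x * (v : Equiv.Perm GolayPt)⁻¹ =
        (u : Equiv.Perm GolayPt) * Ael x * (u : Equiv.Perm GolayPt)⁻¹ := by
    intro u v h x hx
    rw [hA, Subgroup.mem_subgroupOf] at h
    simp only [Subgroup.coe_mul, InvMemClass.coe_inv] at h
    have hc := Ael_comm h hx
    calc (v : Equiv.Perm GolayPt) * Ael x * (v : Equiv.Perm GolayPt)⁻¹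
        = u * (((u : Equiv.Perm GolayPt)⁻¹ * v) * Ael x) * (v : Equiv.Perm GolayPt)⁻¹ := by group
      _ = u * (Ael x * ((u : Equiv.Perm GolayPt)⁻¹ * v)) * (v : Equiv.Perm GolayPt)⁻¹ := by rw [hc]
      _ = _ := by group
  have hinj : Function.Injective fun k => (QuotientGroup.mk (r k) : ↥(stabO o0) ⧸ A) := by
    intro i j hij
    have h := hsame (QuotientGroup.eq.1 hij)
    have hl := ga_lt
    simp only [List.all_eq_true, Nat.blt_eq] at hl
    have he : gaAt i = gaAt j := code_ext (hl _ (gaAt_mem i.isLt)) (hl _ (gaAt_mem j.isLt)) fun x hx => by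
      refine Ael_inj (app4_lt x) (app4_lt x) ?_
      rw [← hra i x hx, ← hra j x hx, h x hx]
    rw [gaAt, gaAt, List.getD_eq_getElem _ _ (by rw [ga_distinct.1]; exact i.isLt),
      List.getD_eq_getElem _ _ (by rw [ga_distinct.1]; exact j.isLt), ga_nodup.getElem_inj_iff] at he
    exact Fin.ext he
  have hAc : Nat.card A = 16 := by
    rw [hA, Nat.card_congr (Subgroup.subgroupOfEquivOfLe
      (hexOct_o0.fix_le_stab0.trans (stab0_le_stabO o0))).toEquiv, natCard_octadFix TwoTen.oct_mem]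
  have hq : Nat.card (↥(stabO o0) ⧸ A) = 720 := by
    have h := A.card_mul_index
    rw [hAc, hexOct_o0.natCard_stabO] at h
    rw [← Subgroup.index_eq_card]
    omega
  have hbij := (Nat.bijective_iff_injective_and_card _).2 ⟨hinj, by rw [hq, Nat.card_eq_fintype_card, Fintype.card_fin]⟩
  obtain ⟨k, hk⟩ := hbij.2 (QuotientGroup.mk ⟨g, hg⟩)
  refine ⟨gaAt k, gaAt_mem k.isLt, fun x hx => ?_⟩
  rw [← hra k x hx]
  exact hsame (QuotientGroup.eq.1 hk) x hx

theorem ga_iso {m : ℕ} (h : m ∈ gaList) : Iso m := by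
  obtain ⟨k, hk, rfl⟩ := exists_gaAt h
  exact (ga_real k hk).2

theorem encAux_mem {P : ℕ → Prop} (h0 : P 0) (hx : ∀ a b, P a → P b → P (a ^^^ b)) :
    ∀ (l : List ℕ), (∀ r ∈ l, P r) → ∀ x, P (encAux l x)
  | [], _, x => h0
  | r :: l, h, x => by
    rw [encAux]
    refine hx _ _ ?_ (encAux_mem h0 hx l (fun t ht => h t (List.mem_cons_of_mem _ ht)) _)
    split
    · exact h r List.mem_cons_self
    · exact h0

/-- The powers of two below `2 ^ 11`. -/
def twoPows : List ℕ := [1, 2, 4, 8, 16, 32, 64, 128, 256, 512, 1024]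

theorem twoPows_span : allBits (fun a => encAux twoPows a == a) 11 0 = true := by decide +kernel

theorem rows_lt : (rowsS.all fun r => Nat.blt r 2048) = true ∧ (rowsC.all fun r => Nat.blt r 2048) = true ∧
    (pre4.all fun r => Nat.blt r 2048) = true ∧ omN 1 4 = 1 := by decide +kernel

theorem encAux_lt11 {l : List ℕ} (h : (l.all fun r => Nat.blt r 2048) = true) (x : ℕ) : encAux l x < 2048 :=
  encAux_lt l 11 (fun r hr => by simpa using List.all_eq_true.1 h r hr) x

theorem rows_eq {a : ℕ} (ha : a < 2048) : act sCode a = encAux rowsS a ∧ act cCode a = encAux rowsC a ∧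
    phiIdx (encAux rowsS a) = app4 mS (phiIdx a) ∧ phiIdx (encAux rowsC a) = app4 mC (phiIdx a) := by
  have h := forall_lt_two_pow rows_ok (k := 11) (i := a) ha
  simp only [Bool.and_eq_true, beq_iff_eq] at h
  tauto

/-- **Equivariant linear maps onto the fixed group.** -/
theorem straighten (L : ℕ → ℕ) (hlt : ∀ a < 2048, L a < 16)
    (hadd : ∀ a < 2048, ∀ b < 2048, L (a ^^^ b) = L a ^^^ L b)
    (hsurj : ∀ x < 16, ∃ a < 2048, L a = x) {gS gC : ℕ} (hgS : gS ∈ gaList) (hgC : gC ∈ gaList)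
    (hS : ∀ a < 2048, L (encAux rowsS a) = app4 gS (L a))
    (hC : ∀ a < 2048, L (encAux rowsC a) = app4 gC (L a)) :
    ∃ g ∈ stabO o0, ∀ a < 2048, g⁻¹ * Ael (L a) * g = Ael (phiIdx a) := by
  have hL0 : L 0 = 0 := by simpa using hadd 0 (by norm_num) 0 (by norm_num)
  let P : ℕ → Prop := fun a => a < 2048 ∧ L a = 0
  have P0 : P 0 := ⟨by norm_num, hL0⟩
  have Px : ∀ a b, P a → P b → P (a ^^^ b) := fun a b ha hb =>
    ⟨Nat.xor_lt_two_pow (n := 11) ha.1 hb.1, by rw [hadd a ha.1 b hb.1, ha.2, hb.2, Nat.xor_self]⟩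
  have PS : ∀ a, P a → P (encAux rowsS a) := fun a ha =>
    ⟨encAux_lt11 rows_lt.1 a, by rw [hS a ha.1, ha.2]; exact encAux_zero _⟩
  have PC : ∀ a, P a → P (encAux rowsC a) := fun a ha =>
    ⟨encAux_lt11 rows_lt.2.1 a, by rw [hC a ha.1, ha.2]; exact encAux_zero _⟩
  -- the kernel is in the kernel of `phiIdx`
  have hker : ∀ a, P a → phiIdx a = 0 := by
    intro a ha
    by_contra hne
    have hr := List.all_eq_true.1 reach_ok _ (List.mem_range.2 (phiIdx_lt a))
    simp only [Bool.or_eq_true, beq_iff_eq, hne, false_or, List.any_eq_true] at hr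
    obtain ⟨w, -, hw⟩ := hr
    have hrun : ∀ (w : List Bool) b, P b → P (runV w b) ∧ phiIdx (runV w b) = runX w (phiIdx b) := by
      intro w
      induction w with
      | nil => intro b hb; exact ⟨hb, rfl⟩
      | cons u w ih =>
        intro b hb
        cases u
        · obtain ⟨h1, h2⟩ := ih _ (PS b hb)
          exact ⟨h1, h2.trans (by rw [(rows_eq hb.1).2.2.1]; rfl)⟩
        · obtain ⟨h1, h2⟩ := ih _ (PC b hb)
          exact ⟨h1, h2.trans (by rw [(rows_eq hb.1).2.2.2]; rfl)⟩
    obtain ⟨hb, hb1⟩ := hrun w a ha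
    rw [hw] at hb1
    have hc := forall_lt_two_pow closure_ok (k := 11) (i := runV w a) hb.1
    simp only [hb1, beq_self_eq_true, Bool.not_true, Bool.false_or, List.all_eq_true, List.mem_range,
      beq_iff_eq] at hc
    have hB := clo_mem Px PS PC 40 [] [runV w a] (by simp) (by simp [hb])
    have hp : ∀ r ∈ twoPows, P r := by
      intro r hr
      obtain ⟨j, hj, rfl⟩ : ∃ j < 11, 2 ^ j = r := by
        simp only [twoPows, List.mem_cons, List.not_mem_nil, or_false] at hr
        rcases hr with rfl | rfl | rfl | rfl | rfl | rfl | rfl | rfl | rfl | rfl | rfl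
        exacts [⟨0, by norm_num⟩, ⟨1, by norm_num⟩, ⟨2, by norm_num⟩, ⟨3, by norm_num⟩, ⟨4, by norm_num⟩,
          ⟨5, by norm_num⟩, ⟨6, by norm_num⟩, ⟨7, by norm_num⟩, ⟨8, by norm_num⟩, ⟨9, by norm_num⟩,
          ⟨10, by norm_num⟩]
      refine red_back Px _ _ hB ?_
      rw [hc j hj]
      exact P0
    obtain ⟨c, hc', hc1⟩ := hsurj 1 (by norm_num)
    have := encAux_mem P0 Px twoPows hp c
    rw [show encAux twoPows c = c by simpa using forall_lt_two_pow twoPows_span (k := 11) (i := c) hc'] at this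
    rw [this.2] at hc1
    exact one_ne_zero hc1.symm
  -- the map on the quotient
  set m0 := L 1 + 16 * L 11 + 256 * L 2 + 4096 * L 1027 with hm0
  have hM : ∀ x, app4 m0 x = L (encAux pre4 x) := by
    intro x
    have e1 := hlt 1 (by norm_num)
    have e2 := hlt 11 (by norm_num)
    have e3 := hlt 2 (by norm_num)
    have e4 := hlt 1027 (by norm_num)
    rw [app4, show m0 % 16 = L 1 by omega, show m0 / 16 % 16 = L 11 by omega,
      show m0 / 256 % 16 = L 2 by omega, show m0 / 4096 % 16 = L 1027 by omega]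
    have key : ∀ (l : List ℕ), (∀ r ∈ l, r < 2048) → ∀ x, encAux (l.map L) x = L (encAux l x) := by
      intro l
      induction l with
      | nil => intro _ x; simp [encAux, hL0]
      | cons r l ih =>
        intro h x
        have hr := h r List.mem_cons_self
        have hl : encAux l (x / 2) < 2048 := encAux_lt l 11 (fun t ht => h t (List.mem_cons_of_mem _ ht)) _
        rw [List.map_cons, encAux, encAux, ih (fun t ht => h t (List.mem_cons_of_mem _ ht))]
        split
        · rw [hadd r hr _ hl]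
        · rw [Nat.zero_xor, Nat.zero_xor]
    exact key pre4 (fun r hr => by simpa using List.all_eq_true.1 rows_lt.2.2.1 r hr) x
  have hpre : ∀ x < 16, phiIdx (encAux pre4 x) = x := fun x hx => by
    simpa using List.all_eq_true.1 pre_ok x (List.mem_range.2 hx)
  have hMinj : ∀ x < 16, app4 m0 x = 0 → x = 0 := fun x hx h => by
    rw [← hpre x hx]
    exact hker _ ⟨encAux_lt11 rows_lt.2.2.1 x, by rw [← hM, h]⟩
  have hMbij : ∀ y < 16, ∃ x < 16, app4 m0 x = y := by
    intro y hy
    have hinj : Function.Injective fun x : Fin 16 => (⟨app4 m0 x, app4_lt _⟩ : Fin 16) := by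
      intro a b h
      have h' : app4 m0 a = app4 m0 b := congrArg Fin.val h
      have : app4 m0 ((a : ℕ) ^^^ b) = 0 := by
        rw [show app4 m0 ((a : ℕ) ^^^ b) = app4 m0 a ^^^ app4 m0 b from encAux_xor _ _ _, h', Nat.xor_self]
      exact Fin.ext (Nat.xor_eq_zero_iff.1 (hMinj _ (Nat.xor_lt_two_pow (n := 4) a.isLt b.isLt) this))
    obtain ⟨x, hx⟩ := (Finite.injective_iff_surjective.1 hinj) ⟨y, hy⟩
    exact ⟨x, x.isLt, congrArg Fin.val hx⟩
  have hfac : ∀ a < 2048, L a = app4 m0 (phiIdx a) := by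
    intro a ha
    obtain ⟨x, hx, hxe⟩ := hMbij _ (hlt a ha)
    have hp := hker (a ^^^ encAux pre4 x) ⟨Nat.xor_lt_two_pow (n := 11) ha (encAux_lt11 rows_lt.2.2.1 x), by
      rw [hadd a ha _ (encAux_lt11 rows_lt.2.2.1 x), ← hM, hxe, Nat.xor_self]⟩
    rw [phiIdx_xor, hpre x hx, Nat.xor_eq_zero_iff] at hp
    rw [hp, hxe]
  have hequiv : ∀ x < 16, app4 gS (app4 m0 x) = app4 m0 (app4 mS x) ∧
      app4 gC (app4 m0 x) = app4 m0 (app4 mC x) := by
    intro x hx
    have ha := encAux_lt11 rows_lt.2.2.1 x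
    obtain ⟨-, -, h3, h4⟩ := rows_eq ha
    rw [hpre x hx] at h3 h4
    constructor
    · rw [hM x, ← hS _ ha, hfac _ (encAux_lt11 rows_lt.1 _), h3]
    · rw [hM x, ← hC _ ha, hfac _ (encAux_lt11 rows_lt.2.1 _), h4]
  -- the pulled back form is the standard one
  have hp16 : ∀ p ∈ pairs6, p.1 < 16 ∧ p.2 < 16 := by decide +kernel
  have hinv : ∀ g' g, g' ∈ gaList → (∀ x < 16, app4 g' (app4 m0 x) = app4 m0 (app4 g x)) → ∀ p ∈ pairs6,
      bform (six m0) (app4 g p.1) (app4 g p.2) = bform (six m0) p.1 p.2 := by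
    intro g' g hg' h p hp
    obtain ⟨h1, h2⟩ := hp16 p hp
    rw [← omN_eq_bform m0 (app4_lt _) (app4_lt _), ← omN_eq_bform m0 h1 h2, ← h _ h1, ← h _ h2]
    exact ga_iso hg' _ (app4_lt _) _ (app4_lt _)
  have hv01 : ∀ u v, omN u v = 0 ∨ omN u v = 1 := fun u v => by
    unfold omN bnum
    cases om u v <;> simp
  obtain ⟨w, hw, hwv⟩ : ∃ w < 64, (List.range 6).map (fun i => bnum (w.testBit i)) = six m0 := by
    simp only [six, pairs6, List.map_cons, List.map_nil]
    refine ⟨omN (app4 m0 1) (app4 m0 2) + 2 * omN (app4 m0 1) (app4 m0 4) + 4 * omN (app4 m0 1) (app4 m0 8) +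
      8 * omN (app4 m0 2) (app4 m0 4) + 16 * omN (app4 m0 2) (app4 m0 8) + 32 * omN (app4 m0 4) (app4 m0 8), ?_⟩
    rcases hv01 (app4 m0 1) (app4 m0 2) with e1 | e1 <;> rcases hv01 (app4 m0 1) (app4 m0 4) with e2 | e2 <;>
      rcases hv01 (app4 m0 1) (app4 m0 8) with e3 | e3 <;> rcases hv01 (app4 m0 2) (app4 m0 4) with e4 | e4 <;>
      rcases hv01 (app4 m0 2) (app4 m0 8) with e5 | e5 <;> rcases hv01 (app4 m0 4) (app4 m0 8) with e6 | e6 <;>
      rw [e1, e2, e3, e4, e5, e6] <;> decide
  have hf := forall_lt_two_pow form_unique (k := 6) (i := w) hw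
  simp only [hwv, Bool.or_eq_true, Bool.not_eq_true', beq_iff_eq] at hf
  have hall : ([mS, mC].all fun g => pairs6.all fun p =>
      bform (six m0) (app4 g p.1) (app4 g p.2) == bform (six m0) p.1 p.2) = true := by
    simp only [List.all_eq_true, beq_iff_eq, List.mem_cons, List.not_mem_nil, or_false, forall_eq_or_imp, forall_eq]
    exact ⟨hinv gS mS hgS (fun x hx => (hequiv x hx).1), hinv gC mC hgC (fun x hx => (hequiv x hx).2)⟩
  rw [hall] at hf
  have hsix : six m0 = omSix := by
    rcases hf with (h | h) | h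
    · exact absurd h (by simp)
    · exfalso
      obtain ⟨x, hx, hxe⟩ := hMbij 1 (by norm_num)
      obtain ⟨y, hy, hye⟩ := hMbij 4 (by norm_num)
      have h' := omN_eq_bform m0 hx hy
      rw [hxe, hye, rows_lt.2.2.2, h] at h'
      have hz : ∀ x < 16, ∀ y < 16, bform [0, 0, 0, 0, 0, 0] x y = 0 := by decide +kernel
      rw [hz x hx y hy] at h'
      exact one_ne_zero h'
    · exact h
  have hmem : m0 ∈ gaList := by
    apply mem_gaList
    have e := hsix
    simp only [six, pairs6, omSix, List.map_cons, List.map_nil, List.cons.injEq, and_true] at e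
    obtain ⟨e1, e2, e3, e4, e5, e6⟩ := e
    have b1 : app4 m0 1 = L 1 := by rw [hM]; rfl
    have b2 : app4 m0 2 = L 11 := by rw [hM]; rfl
    have b4 : app4 m0 4 = L 2 := by rw [hM]; rfl
    have b8 : app4 m0 8 = L 1027 := by rw [hM]; rfl
    rw [b1, b2] at e1
    rw [b1, b4] at e2
    rw [b1, b8] at e3
    rw [b2, b4] at e4
    rw [b2, b8] at e5
    rw [b4, b8] at e6
    have h := List.all_eq_true.1 (List.all_eq_true.1 maps_ok (L 1) (List.mem_range.2 (hlt 1 (by norm_num))))
      (L 11) (List.mem_range.2 (hlt 11 (by norm_num)))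
    simp only [e1, beq_self_eq_true, Bool.not_true, Bool.false_or] at h
    have h' := List.all_eq_true.1 h (L 2) (List.mem_range.2 (hlt 2 (by norm_num)))
    simp only [e2, e4, beq_self_eq_true, Bool.and_true, Bool.not_true, Bool.false_or] at h'
    have h'' := List.all_eq_true.1 h' (L 1027) (List.mem_range.2 (hlt 1027 (by norm_num)))
    simp only [e3, e5, e6, beq_self_eq_true, Bool.and_true, Bool.not_true, Bool.false_or] at h''
    exact h''
  obtain ⟨k, hk, hkm⟩ := exists_gaAt hmem
  obtain ⟨⟨g, hg, hga⟩, -⟩ := ga_real k hk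
  refine ⟨g, hg, fun a ha => ?_⟩
  rw [hfac a ha, ← hkm, ← hga _ (phiIdx_lt a)]
  group

end Cfsg.Agent.J4Type.Order
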