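import Cfsg.Agent.Lib.J4Type.Order.Count

/-
Groups of Janko-four type, order formula: the four classes over the two base permutations (owner: helper43; generated).
-/

set_option autoImplicit false
set_option maxRecDepth 100000

namespace Cfsg.Agent.J4Type.Order

/-- Words giving the commutators. -/
def es1 : List ℕ := [0, 1, 2, 3, 8, 9, 10, 11, 128, 129, 130, 131, 136, 137, 138, 139]

/-- Words giving the commutators. -/
def es2 : List ℕ := [0, 1, 2, 3, 4, 5, 6, 7, 8, 9, 10, 11, 12, 13, 14, 15, 128, 129, 130, 131, 132, 133, 134, 135, 136, 137, 138, 139, 140, 141, 142, 143]

/-- The bit set of the second class. -/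
def mask1 : ℕ := 0x1400400041001400280080008200280008008200820028000400410041001400000000000000000000000000000000001400400041001400280080008200280000000000000000000000000000000000000000000000000000000000000000000800820082002800040041004100140000000000000000000000000000000000410014000400410082002800080082008200280028008000410014001400400000000000000000000000000000000000410014000400410082002800080082000000000000000000000000000000000000000000000000000000000000000000820028002800800041001400140040

/-- The bit set of the second class. -/
def mask2 : ℕ := 0x20001000000100000000000200010000000000020000000020001000000000000000000000000000000000000000000010002000000200000000000100000000000000000000000000000000000000000000000000000000000000000002000000000001000000001000200000000000000000000000000000000000000000010002000000002000000000001000200000000000100000010002000000000000000000000000000000000000000000020001000000001000000000002000000000000000000000000000000000000000000000000000000000000000000010000000000020000002000100000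

/-- The labels. -/
def labD : LabData :=
  ⟨(mask1, mask2), [0, 6, 0, 20],
   [⟨0, 0xbdab49ca307b9ac5a928398a418820, es1⟩,
    ⟨1, 0xbdab49ca307b9ac5a928398a418820, es1⟩,
    ⟨1, 0x344570d4ae40db352c0f932c482687, es1⟩,
    ⟨1, 0x636a99dc647960012a8131e3672172, es1⟩,
    ⟨1, 0x91135a00ad50dd75be6839ad18044c, es1⟩,
    ⟨1, 0xd427a62d3d9d49182c5a0902ceb7, es1⟩,
    ⟨1, 0xbb933a4a11559ac0bea231ca41a160, es1⟩,
    ⟨1, 0xda4a64c6eb91b5581e831e058d122, es1⟩,
    ⟨2, 0xbdab49ca307b9ac5a928398a418820, es2⟩,
    ⟨3, 0xbdab49ca307b9ac5a928398a418820, es2⟩]⟩

end Cfsg.Agent.J4Type.Order
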