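/-
Groups of Janko-four type, order formula: the context and the two representatives
(owner: helper19; for the order formula of helper43).

* `Supply.exists_inputs`, `Supply.exists_ctx` : the context from the hypotheses
* `Supply.conj_xS`, `Supply.conj_xT`, `Supply.centralizer_xT` : the classes of the representatives
* `Supply.exists_typeWith_xS` : the hypotheses at the first representative
* `Supply.natCard_Cz`, `Supply.natCard_CxT` : the orders of the two centralisers
-/
import Cfsg.Agent.EqLemmas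
import Cfsg.Agent.Lib.J4Type.Elem11
import Cfsg.Agent.Lib.J4Type.VOrbits
import Cfsg.Agent.Lib.J4Type.OrbitT
import Cfsg.Agent.Lib.J4Type.ThreeRows
import Cfsg.Agent.Lib.J4Type.TwoTenMain
import Cfsg.Agent.Lib.J4Type.Order.DataS
import Cfsg.Agent.Lib.J4Type.Order.DataT

set_option autoImplicit false
set_option linter.unusedSectionVars false
open scoped Pointwise
open Cfsg Cfsg.Agent.Golay Cfsg.Agent.J4Type.TwoTen

namespace Cfsg.Agent.J4Type.Order.Supply

variable {G : Type*} [Group G]

/-! ### Transport of the hypotheses -/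

/-- An isomorphism carries the `p`-core to the `p`-core. -/
theorem map_pCore_equiv {A B : Type*} [Group A] [Group B] (p : ℕ) (e : A ≃* B) :
    (Cfsg.pCore p A).map e.toMonoidHom = Cfsg.pCore p B := by
  refine le_antisymm (Subgroup.map_le_iff_le_comap.2 (sSup_le ?_)) ?_
  · rintro N ⟨hN, hp⟩
    exact Subgroup.map_le_iff_le_comap.1
      (le_sSup ⟨hN.map e.toMonoidHom e.surjective, hp.map e.toMonoidHom⟩)
  · refine sSup_le ?_
    rintro N ⟨hN, hp⟩ x hx
    have h : N.map e.symm.toMonoidHom ≤ Cfsg.pCore p A :=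
      le_sSup ⟨hN.map e.symm.toMonoidHom e.symm.surjective, hp.map e.symm.toMonoidHom⟩
    exact ⟨e.symm x, h ⟨x, hx, rfl⟩, e.apply_symm_apply x⟩

/-- The hypotheses are invariant under automorphisms. -/
theorem typeWith_map {z : G} {P : Subgroup G} (φ : G ≃* G) (h : Cfsg.IsOfJankoFourTypeWith z P) :
    Cfsg.IsOfJankoFourTypeWith (φ z) (P.map φ.toMonoidHom) := by
  obtain ⟨hz, hext, hcard, hcent, ⟨N, hEN, hNH, hHN, hNcard, ⟨hNn, ⟨eN⟩⟩, hPN⟩, hP3, hfix, hne,
    hder⟩ := h
  set f : G →* G := φ.toMonoidHom with hf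
  have hinj : Function.Injective f := φ.injective
  have hcard_map : ∀ A : Subgroup G, Nat.card ↥(A.map f) = Nat.card ↥A := fun A =>
    Subgroup.card_map_of_injective hinj
  have hcen : ∀ A : Subgroup G, (Subgroup.centralizer (A : Set G)).map f =
      Subgroup.centralizer ((A.map f : Subgroup G) : Set G) := by
    intro A
    ext y
    simp only [Subgroup.mem_map, Subgroup.mem_centralizer_iff, SetLike.mem_coe]
    constructor
    · rintro ⟨x, hx, rfl⟩ b ⟨a, ha, rfl⟩
      rw [← map_mul, ← map_mul, hx a ha]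
    · intro hy
      refine ⟨φ.symm y, fun a ha => hinj ?_, φ.apply_symm_apply y⟩
      rw [map_mul, map_mul, show f (φ.symm y) = y from φ.apply_symm_apply y]
      exact hy _ ⟨a, ha, rfl⟩
  have hH : (Subgroup.centralizer ({z} : Set G)).map f = Subgroup.centralizer ({φ z} : Set G) := by
    ext y
    simp only [Subgroup.mem_map, Subgroup.mem_centralizer_singleton_iff]
    constructor
    · rintro ⟨x, hx, rfl⟩
      show φ x * φ z = φ z * φ x
      rw [← map_mul, ← map_mul, hx]
    · intro hy
      refine ⟨φ.symm y, φ.injective ?_, φ.apply_symm_apply y⟩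
      rwa [map_mul, map_mul, φ.apply_symm_apply]
  set e : ↥(Subgroup.centralizer ({z} : Set G)) ≃* ↥(Subgroup.centralizer ({φ z} : Set G)) :=
    (φ.subgroupMap _).trans (MulEquiv.subgroupCongr hH) with he
  have hcomp : (Subgroup.centralizer ({φ z} : Set G)).subtype.comp e.toMonoidHom =
      f.comp (Subgroup.centralizer ({z} : Set G)).subtype := rfl
  have hE : (Cfsg.twoCoreOfCentralizer z).map f = Cfsg.twoCoreOfCentralizer (φ z) := by
    rw [Cfsg.twoCoreOfCentralizer, Cfsg.twoCoreOfCentralizer, ← map_pCore_equiv 2 e,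
      Subgroup.map_map, Subgroup.map_map, hcomp]
  have hnorm : ∀ A : Subgroup G, (Subgroup.normalizer (A : Set G)).map f =
      Subgroup.normalizer ((A.map f : Subgroup G) : Set G) := fun A =>
    Subgroup.map_equiv_normalizer_eq A φ
  refine ⟨(MulEquiv.orderOf_eq φ z).trans hz, ?_, ?_, ?_, ⟨N.map f, ?_, ?_, ?_, ?_, ?_, ?_⟩, ?_,
    ?_, ?_, ?_⟩
  · exact LargeExtraspecial.isExtraspecial_congr
      ((φ.subgroupMap _).trans (MulEquiv.subgroupCongr hE)) hext
  · rw [← hE, hcard_map, hcard]
  · rw [← hH, ← hE, ← hcen, ← Subgroup.map_inf _ _ f hinj]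
    exact Subgroup.map_mono hcent
  · exact hE ▸ Subgroup.map_mono hEN
  · exact hH ▸ Subgroup.map_mono hNH
  · rw [← hH, ← hnorm]
    exact Subgroup.map_mono hHN
  · rw [← hE, hcard_map, hcard_map, hNcard]
  · have hsub : (N.subgroupOf (Subgroup.centralizer ({z} : Set G))).map e.toMonoidHom =
        (N.map f).subgroupOf (Subgroup.centralizer ({φ z} : Set G)) := by
      ext y
      simp only [Subgroup.mem_map, Subgroup.mem_subgroupOf]
      constructor
      · rintro ⟨x, hx, rfl⟩
        exact ⟨x, hx, rfl⟩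
      · rintro ⟨x, hx, hxy⟩
        exact ⟨⟨x, hNH hx⟩, hx, Subtype.ext hxy⟩
    have hn : ((N.map f).subgroupOf (Subgroup.centralizer ({φ z} : Set G))).Normal :=
      hsub ▸ hNn.map e.toMonoidHom e.surjective
    exact ⟨hn, ⟨(QuotientGroup.congr _ _ e hsub).symm.trans eN⟩⟩
  · exact Subgroup.map_mono hPN
  · rw [hcard_map, hP3]
  · rw [← hE, ← hcen, ← Subgroup.map_inf _ _ f hinj, hfix, MonoidHom.map_zpowers]
    rfl
  · rw [← hH, ← hnorm, ← hcen, ← Subgroup.map_inf _ _ f hinj, ← Subgroup.map_inf _ _ f hinj]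
    exact fun h => hne (Subgroup.map_injective hinj h)
  · rw [← hH, ← hcen, ← Subgroup.map_inf _ _ f hinj, ← Subgroup.map_commutator]
    exact Subgroup.map_mono hder

variable [Finite G]

/-! ### The context -/

theorem exists_inputs (hs : IsSimpleGroup G) (hG : ¬ IsMulCommutative G) {z : G} {P : Subgroup G}
    (hJ : Cfsg.IsOfJankoFourTypeWith z P) : TwoTen.Inputs z P := by
  obtain ⟨S⟩ := exists_setting hJ
  exact
    { typeWith := hJ
      uniq := fun T => S.existsUnique_elem T
      split := fun V hV hc => S.split_M24 hs hG hV hc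
      orb := fun V hV hc => S.orbits_of_elem hs hG hV hc
      three := fun a b ha hb => Three.one_class_of_fusion hJ (S.exists_fusion hs hG) a b ha hb
      local3 := Three.cover_and_normalizer hJ (S.exists_fusion hs hG) }

theorem exists_ctx (hs : IsSimpleGroup G) (hG : ¬ IsMulCommutative G) {z : G} {P : Subgroup G}
    (hJ : Cfsg.IsOfJankoFourTypeWith z P) : ∃ C : TwoTen.Ctx G, C.z = z ∧ C.SylowCent :=
  TwoTen.exists_ctx (exists_inputs hs hG hJ)

/-! ### The representatives -/

variable (C : TwoTen.Ctx G)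

theorem xS_not_duad : ∀ i < 24, ∀ j < 24, q (1 <<< i ^^^ 1 <<< j) ≠ xS := by decide +kernel

/-- The first representative is in the class of `z`. -/
theorem conj_xS : IsConj C.z (C.vv xS) := by
  rcases C.D.eq_one_or (C.vv_mem xS) with h | ⟨σ, hσ⟩ | ⟨σ, hσ⟩
  · exact absurd (C.vv_inj (by decide) (by norm_num) (h.trans C.vv_zero.symm)) (by decide)
  · exfalso
    obtain ⟨a, b, -, he⟩ := C.M.duad_all σ
    rw [hσ, pair_eq_word,
      C.phi_word (pairMask_lt _ _) (pair_eq_word _ _ ▸ ev_pair _ _)] at he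
    exact xS_not_duad _ (idx_lt a) _ (idx_lt b) (C.vv_inj (q_lt _) (by decide) he)
  · exact C.s_conj.trans (isConj_iff.2 ⟨_, hσ⟩)

/-- The second representative is in the class of `t`. -/
theorem conj_xT : IsConj C.D.t (C.vv xT) := by
  obtain ⟨σ, hσ⟩ := C.duad_conj (c := xT) (i := 0) (j := 23) (by norm_num) (by norm_num)
    (by norm_num) (by decide +kernel)
  exact isConj_iff.2 ⟨_, hσ⟩

theorem centralizer_xT :
    Subgroup.centralizer ({C.vv xT} : Set G) ≤ Subgroup.normalizer (C.D.V : Set G) :=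
  C.t_centralizer (C.vv_mem xT) (conj_xT C)

/-- The hypotheses at the first representative. -/
theorem exists_typeWith_xS {P : Subgroup G} (hJ : Cfsg.IsOfJankoFourTypeWith C.z P) :
    ∃ P', Cfsg.IsOfJankoFourTypeWith (C.vv xS) P' ∧ Nonempty (Setting (C.vv xS) P') := by
  obtain ⟨g, hg⟩ := isConj_iff.1 (conj_xS C)
  have h := typeWith_map (MulAut.conj g) hJ
  rw [MulAut.conj_apply, hg] at h
  exact ⟨_, h, exists_setting h⟩

/-! ### Orders -/

theorem natCard_NV : Nat.card ↥(Subgroup.normalizer (C.D.V : Set G)) = 2 ^ 11 * 244823040 := by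
  have hbij : Function.Bijective (fun x : Fin 2048 × ↥M24 =>
      (⟨C.vv x.1 * C.D.el x.2, C.code_mem _ _⟩ : ↥(Subgroup.normalizer (C.D.V : Set G)))) := by
    constructor
    · rintro ⟨a, σ⟩ ⟨b, τ⟩ h
      obtain ⟨h1, h2⟩ := C.code_inj a.2 b.2 (congrArg Subtype.val h)
      exact Prod.ext (Fin.ext h1) h2
    · rintro ⟨n, hn⟩
      obtain ⟨c, hc, σ, rfl⟩ := C.exists_code hn
      exact ⟨(⟨c, hc⟩, σ), rfl⟩
  rw [← Nat.card_eq_of_bijective _ hbij, Nat.card_prod, Nat.card_fin, natCard_M24]
  norm_num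

theorem natCard_Ct : Nat.card ↥(Subgroup.centralizer ({C.D.t} : Set G)) = 1816657920 := by
  have h := ((Subgroup.centralizer ({C.D.t} : Set G)).subgroupOf
    (Subgroup.normalizer (C.D.V : Set G))).index_mul_card
  rw [← ncard_conj_orbit, C.D.t_orbit,
    Nat.card_congr (Subgroup.subgroupOfEquivOfLe C.t_cent).toEquiv, natCard_NV C] at h
  omega

/-- Conjugate elements have centralisers of the same order. -/
theorem natCard_centralizer_congr {a b : G} (h : IsConj a b) :
    Nat.card ↥(Subgroup.centralizer ({a} : Set G)) =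
      Nat.card ↥(Subgroup.centralizer ({b} : Set G)) := by
  obtain ⟨g, rfl⟩ := isConj_iff.1 h
  refine Nat.card_congr ⟨fun x => ⟨g * x * g⁻¹, ?_⟩, fun x => ⟨g⁻¹ * x * g, ?_⟩, ?_, ?_⟩
  · have hx := Subgroup.mem_centralizer_singleton_iff.1 x.2
    rw [Subgroup.mem_centralizer_singleton_iff]
    calc g * (x : G) * g⁻¹ * (g * a * g⁻¹) = g * ((x : G) * a) * g⁻¹ := by group
      _ = _ := by rw [hx]; group
  · have hx := Subgroup.mem_centralizer_singleton_iff.1 x.2
    rw [Subgroup.mem_centralizer_singleton_iff]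
    calc g⁻¹ * (x : G) * g * a = g⁻¹ * ((x : G) * (g * a * g⁻¹)) * g := by group
      _ = _ := by rw [hx]; group
  · exact fun x => Subtype.ext (by simp [mul_assoc])
  · exact fun x => Subtype.ext (by simp [mul_assoc])

theorem natCard_CxT : Nat.card ↥(Subgroup.centralizer ({C.vv xT} : Set G)) = 1816657920 :=
  (natCard_centralizer_congr (conj_xT C)).symm.trans (natCard_Ct C)

theorem natCard_Cz {P : Subgroup G} (hJ : Cfsg.IsOfJankoFourTypeWith C.z P) :
    Nat.card ↥(Subgroup.centralizer ({C.z} : Set G)) = 21799895040 := by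
  obtain ⟨S⟩ := exists_setting hJ
  rw [S.card_Cz]
  norm_num

theorem natCard_CxS {P : Subgroup G} (hJ : Cfsg.IsOfJankoFourTypeWith C.z P) :
    Nat.card ↥(Subgroup.centralizer ({C.vv xS} : Set G)) = 21799895040 :=
  (natCard_centralizer_congr (conj_xS C)).symm.trans (natCard_Cz C hJ)

end Cfsg.Agent.J4Type.Order.Supply
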