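import Cfsg.Agent.Lib.J4Type.Order.Engine
import Cfsg.Agent.Lib.J4Type.TwoTenData
import Cfsg.Agent.Lib.GolayInvol.Basic
import Mathlib.Algebra.BigOperators.Group.List.Basic

/-
Groups of Janko-four type, order formula: the stabiliser in M24 of a point of the cocode and the
sum over pairs of its involutions by lists of orbit representatives (owner: helper43).

Main results: `actP_mul`, `Stab`, `Invs`, `Table`, `Table.sum_pairs`, `Table.forall_pairs`.
-/

set_option autoImplicit false
set_option linter.unusedSectionVars false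
set_option linter.unusedSimpArgs false
set_option exponentiation.threshold 4096
open scoped Pointwise symmDiff
open Cfsg Cfsg.Agent.Golay Cfsg.Agent.J4Type.TwoTen

namespace Cfsg.Agent.J4Type.Order

theorem q_maskOf {σ : Equiv.Perm GolayPt} (hσ : σ ∈ M24) {a : ℕ} (h : isCode a = true) :
    q (maskOf (σ • pts a)) = 0 := by
  refine q_eq_zero_of_code ?_
  have := (mem_M24_iff.mp hσ) _ ((pts_mem_supports_iff (lt_of_isCode h)).mpr h)
  exact (pts_mem_supports_iff (maskOf_lt _)).mp (by rwa [pts_maskOf])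

theorem even_pts {m : ℕ} (h : ∑ p, word m p = 0) (σ : Equiv.Perm GolayPt) :
    ∑ p, word (maskOf (σ • pts m)) p = 0 := by
  rw [sum_word] at h ⊢
  rw [popcount_maskOf, Finset.card_smul_finset, card_pts]
  exact h

theorem isCode_lift_q {m : ℕ} (hm : m < 2 ^ 24) (h : ∑ p, word m p = 0) :
    isCode (m ^^^ lift (q m)) = true :=
  (word_mem_golayCode_iff (Nat.xor_lt_two_pow hm (lift_lt _))).mp
    (by rw [word_xor]; exact word_sub_lift hm h)

theorem sum_lift (c : ℕ) : ∑ p, word (lift c) p = 0 := by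
  have hall : allBits (fun c => popcount (lift c) % 2 == 0) 11 0 = true := by decide +kernel
  rw [sum_word, ZMod.natCast_eq_zero_iff_even, Nat.even_iff]
  have hb : lift c = lift (c % 2048) := by
    have key : ∀ (l : List ℕ) (x : ℕ), encAux l x = encAux l (x % 2 ^ l.length) := by
      intro l
      induction l with
      | nil => intro x; rfl
      | cons g l ih =>
        intro x
        have h2 : x % 2 ^ (l.length + 1) % 2 = x % 2 := Nat.mod_mod_of_dvd _ ⟨2 ^ l.length, by ring⟩
        simp only [encAux, List.length_cons]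
        simp only [h2]
        rw [ih (x / 2), ih (x % 2 ^ (l.length + 1) / 2)]
        congr 1
        rw [pow_succ, Nat.mod_mul_left_div_self, Nat.mod_mod]
    exact key liftRows c
  rw [hb]
  simpa using forall_lt_two_pow hall (k := 11) (Nat.mod_lt _ (by norm_num))

/-- The action on the coordinates is multiplicative. -/
theorem actP_mul {σ τ : Equiv.Perm GolayPt} (hσ : σ ∈ M24) (c : ℕ) :
    actP (σ * τ) c = actP σ (actP τ c) := by
  set m := maskOf (τ • pts (lift c)) with hm
  have hc := isCode_lift_q (maskOf_lt _) (even_pts (sum_lift c) τ)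
  rw [← hm] at hc
  show q (maskOf ((σ * τ) • pts (lift c))) = q (maskOf (σ • pts (lift (q m))))
  have e : maskOf (σ • pts m) =
      maskOf (σ • pts (m ^^^ lift (q m))) ^^^ maskOf (σ • pts (lift (q m))) := by
    rw [← maskOf_smul_xor, Nat.xor_assoc, Nat.xor_self, Nat.xor_zero]
  rw [mul_smul, show τ • pts (lift c) = pts m by rw [hm, pts_maskOf], e, q_xor,
    q_maskOf hσ hc, Nat.zero_xor]

theorem actP_one {c : ℕ} (hc : c < 2048) : actP (1 : Equiv.Perm GolayPt) c = c := by
  rw [actP, one_smul, maskOf_pts (lift_lt _), q_lift hc]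

theorem actP_lt' (σ : Equiv.Perm GolayPt) (c : ℕ) : actP σ c < 2048 := q_lt _

/-- The permutations of M24 fixing a point of the cocode. -/
def Stab (x : ℕ) : Subgroup (Equiv.Perm GolayPt) where
  carrier := {σ | σ ∈ M24 ∧ ∀ a, a = x % 2048 → actP σ a = a}
  mul_mem' {σ τ} hσ hτ := ⟨mul_mem hσ.1 hτ.1, fun a ha => by
    rw [actP_mul hσ.1, hτ.2 a ha, hσ.2 a ha]⟩
  one_mem' := ⟨one_mem _, fun a ha => actP_one (ha ▸ Nat.mod_lt _ (by norm_num))⟩
  inv_mem' {σ} hσ := ⟨inv_mem hσ.1, fun a ha => by
    have := actP_mul (τ := σ) (inv_mem hσ.1) a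
    rw [inv_mul_cancel, actP_one (ha ▸ Nat.mod_lt _ (by norm_num)), hσ.2 a ha] at this
    exact this.symm⟩

theorem mem_Stab {x : ℕ} (hx : x < 2048) {σ : Equiv.Perm GolayPt} :
    σ ∈ Stab x ↔ σ ∈ M24 ∧ actP σ x = x := by
  constructor
  · exact fun h => ⟨h.1, h.2 x (Nat.mod_eq_of_lt hx).symm⟩
  · exact fun h => ⟨h.1, fun a ha => by rw [ha, Nat.mod_eq_of_lt hx]; exact h.2⟩

open Classical in
/-- The elements of square one in the stabiliser. -/
noncomputable def Invs (x : ℕ) : Finset (Equiv.Perm GolayPt) :=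
  Finset.univ.filter fun σ => σ ∈ Stab x ∧ σ * σ = 1

theorem mem_Invs {x : ℕ} {σ : Equiv.Perm GolayPt} : σ ∈ Invs x ↔ σ ∈ Stab x ∧ σ * σ = 1 := by
  simp [Invs]

theorem conj_mem_Invs {x : ℕ} {γ σ : Equiv.Perm GolayPt} (hγ : γ ∈ Stab x) (hσ : σ ∈ Invs x) :
    γ * σ * γ⁻¹ ∈ Invs x := by
  rw [mem_Invs] at hσ ⊢
  refine ⟨mul_mem (mul_mem hγ hσ.1) (inv_mem hγ), ?_⟩
  rw [conj_mul, hσ.2, mul_one, mul_inv_cancel]

/-- Orders from the fibres of a map. -/
theorem ncard_image_mul {H C : Subgroup (Equiv.Perm GolayPt)} {α : Type*}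
    (f : Equiv.Perm GolayPt → α) (hCH : C ≤ H)
    (hf : ∀ a ∈ H, ∀ b ∈ H, f a = f b ↔ a⁻¹ * b ∈ C) :
    (f '' (H : Set (Equiv.Perm GolayPt))).ncard * Nat.card ↥C = Nat.card ↥H := by
  classical
  set C' := C.subgroupOf H with hC'
  have e : Nat.card (↥H ⧸ C') = (f '' (H : Set (Equiv.Perm GolayPt))).ncard := by
    rw [← Nat.card_coe_set_eq]
    refine Nat.card_eq_of_bijective (fun w => ⟨f (w.out : ↥H), _, (w.out : ↥H).2, rfl⟩) ⟨?_, ?_⟩
    · intro a b h
      rw [← QuotientGroup.out_eq' a, ← QuotientGroup.out_eq' b]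
      exact QuotientGroup.eq.mpr (Subgroup.mem_subgroupOf.mpr
        ((hf _ a.out.2 _ b.out.2).mp (congrArg Subtype.val h)))
    · rintro ⟨_, n, hn, rfl⟩
      refine ⟨QuotientGroup.mk ⟨n, hn⟩, Subtype.ext ?_⟩
      exact (hf _ (Quotient.out _ : ↥H).2 _ hn).mpr
        (Subgroup.mem_subgroupOf.mp (QuotientGroup.eq.mp (QuotientGroup.out_eq' _)))
  rw [← e, ← Nat.card_congr (Subgroup.subgroupOfEquivOfLe hCH).toEquiv, ← hC',
    ← Subgroup.card_eq_card_quotient_mul_card_subgroup]

/-! ### Certificates -/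

/-- `gi` codes the inverse of the coded element `g` of the stabiliser. -/
def genOK (x g gi : ℕ) : Bool :=
  isAut g && validPerm gi && (List.range 24).all (fun i => fn gi (fn g i) == i) && act g x == x

theorem genOK_spec {x g gi : ℕ} (hx : x < 2048) (h : genOK x g gi = true) :
    toPerm g ∈ Stab x ∧ Cod g (toPerm g) ∧ Cod gi (toPerm g)⁻¹ := by
  simp only [genOK, Bool.and_eq_true, beq_iff_eq, List.all_eq_true, List.mem_range] at h
  obtain ⟨⟨⟨ha, hv⟩, hinv⟩, hact⟩ := h
  have hg := validPerm_of_isAut ha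
  refine ⟨(mem_Stab hx).2 ⟨toPerm_mem_M24 ha, by rw [actP_toPerm hg, hact]⟩, cod_toPerm hg, ?_⟩
  have e : (toPerm g)⁻¹ = toPerm gi := by
    refine inv_eq_of_mul_eq_one_left (Equiv.ext fun p => idx_injective ?_)
    rw [Equiv.Perm.mul_apply, idx_toPerm hv, idx_toPerm hg, hinv _ (idx_lt p)]
    rfl
  rw [e]
  exact cod_toPerm hv

/-- A coded involution or the identity in the stabiliser. -/
def invOK (x d : ℕ) : Bool :=
  isAut d && (List.range 24).all (fun i => fn d (fn d i) == i) && act d x == x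

theorem invOK_spec {x d : ℕ} (hx : x < 2048) (h : invOK x d = true) :
    toPerm d ∈ Invs x ∧ Cod d (toPerm d) := by
  simp only [invOK, Bool.and_eq_true, beq_iff_eq, List.all_eq_true, List.mem_range] at h
  obtain ⟨⟨ha, hinv⟩, hact⟩ := h
  have hg := validPerm_of_isAut ha
  refine ⟨mem_Invs.2 ⟨(mem_Stab hx).2 ⟨toPerm_mem_M24 ha, by rw [actP_toPerm hg, hact]⟩,
    Equiv.ext fun p => idx_injective ?_⟩, cod_toPerm hg⟩
  rw [Equiv.Perm.mul_apply, idx_toPerm hg, idx_toPerm hg, hinv _ (idx_lt p)]
  rfl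

/-- The code of the identity. -/
def idCode : ℕ := mk id

theorem cod_idCode : Cod idCode 1 := fun p => by
  rw [idCode, fn_mk (fun i hi => by simp only [id_eq]; omega) (idx_lt p)]
  rfl

/-- The data of a representative: generators of its centraliser with inverses, orbit seeds with
plans, and a plan listing elements of the centraliser. -/
structure Row where
  rep : ℕ
  size : ℕ
  gens : List (ℕ × ℕ)
  orbs : List (ℕ × List (List (List ℕ)))
  cen : List (List (List ℕ))

namespace Row

/-- Conjugation by a generator given with its inverse, by number. -/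
def conjOp (gens : List (ℕ × ℕ)) (i d : ℕ) : ℕ :=
  conjc (gens.getD i (idCode, idCode)).1 (gens.getD i (idCode, idCode)).2 d

/-- Multiplication by a generator, by number. -/
def mulOp (gens : List (ℕ × ℕ)) (i d : ℕ) : ℕ :=
  Order.comp (gens.getD i (idCode, idCode)).1 d

/-- The orbit of a seed. -/
def orbit (r : Row) (e : ℕ × List (List (List ℕ))) : List ℕ :=
  runPlan (conjOp r.gens) (List.range r.gens.length) [e.1] e.2

/-- All listed members. -/
def members (r : Row) : List ℕ := r.orbs.flatMap r.orbit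

/-- The listed elements of the centraliser. -/
def cenList (r : Row) : List ℕ := runPlan (mulOp r.gens) (List.range r.gens.length) [idCode] r.cen

/-- The orbits are distinct, `n` members in all, with the tabled lengths. -/
def checkOrbs (x n : ℕ) (r : Row) (tab : List (ℕ × ℕ × ℕ)) : Bool :=
  r.orbs.all (fun e => invOK x e.1) && GolayOrbitLists.allNew (r.members.map key) .nil &&
    r.members.length == n &&
    tab == r.orbs.map fun e => (r.size * (r.orbit e).length, r.rep, e.1)

/-- The representative and the generators commute; the centraliser is large enough. -/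
def checkCen (x N : ℕ) (r : Row) : Bool :=
  invOK x r.rep && r.gens.all (fun g => genOK x g.1 g.2 &&
    (List.range 24).all fun i => fn g.1 (fn r.rep i) == fn r.rep (fn g.1 i)) &&
    (r.rep == idCode && decide (1 ≤ r.size) || decide (N ≤ r.size * r.cenList.length) &&
      GolayOrbitLists.allNew (r.cenList.map key) .nil)

/-- The permutations of the stabiliser commuting with the representative. -/
noncomputable def Cent (x : ℕ) (r : Row) : Subgroup (Equiv.Perm GolayPt) :=
  Stab x ⊓ Subgroup.centralizer {toPerm r.rep}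

theorem mem_Cent {x : ℕ} {r : Row} {γ : Equiv.Perm GolayPt} :
    γ ∈ r.Cent x ↔ γ ∈ Stab x ∧ γ * toPerm r.rep = toPerm r.rep * γ := by
  rw [Cent, Subgroup.mem_inf, Subgroup.mem_centralizer_singleton_iff]

variable {x n N : ℕ} {r : Row} {tab : List (ℕ × ℕ × ℕ)}

theorem gen_spec (hx : x < 2048) (h : r.checkCen x N = true) {i : ℕ}
    (hi : i ∈ List.range r.gens.length) :
    ∃ γ ∈ r.Cent x, Cod (r.gens.getD i (idCode, idCode)).1 γ ∧
      Cod (r.gens.getD i (idCode, idCode)).2 γ⁻¹ := by
  simp only [checkCen, Bool.and_eq_true, List.all_eq_true, beq_iff_eq] at h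
  have hi' := List.mem_range.1 hi
  have hm : r.gens.getD i (idCode, idCode) ∈ r.gens := by
    rw [List.getD_eq_getElem?_getD, List.getElem?_eq_getElem hi']; exact List.getElem_mem hi'
  obtain ⟨hg, hc⟩ := h.1.2 _ hm
  obtain ⟨h1, h2, h3⟩ := genOK_spec hx hg
  refine ⟨_, mem_Cent.2 ⟨h1, Equiv.ext fun p => idx_injective ?_⟩, h2, h3⟩
  rw [Equiv.Perm.mul_apply, Equiv.Perm.mul_apply, h2, (invOK_spec hx h.1.1).2,
    (invOK_spec hx h.1.1).2, h2, hc _ (List.mem_range.2 (idx_lt p))]

theorem card_Cent_ge (hx : x < 2048) (h : r.checkCen x N = true) :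
    (r.rep = idCode ∧ 1 ≤ r.size) ∨ N ≤ r.size * Nat.card ↥(r.Cent x) := by
  classical
  have hmem : ∀ d ∈ r.cenList, ∃ γ ∈ r.Cent x, Cod d γ := by
    refine mem_run (P := fun d => ∃ γ ∈ r.Cent x, Cod d γ) (fun i hi d hd => ?_) _ _
      (fun d hd => by rw [List.mem_singleton.1 hd]; exact ⟨1, one_mem _, cod_idCode⟩)
    obtain ⟨γ, hγ, h1, -⟩ := gen_spec hx h hi
    obtain ⟨δ, hδ, hd⟩ := hd
    exact ⟨γ * δ, mul_mem hγ hδ, h1.comp hd⟩
  choose! φ hφ using hmem
  simp only [checkCen, Bool.and_eq_true, Bool.or_eq_true, decide_eq_true_eq, beq_iff_eq] at h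
  refine h.2.imp id fun h => h.1.trans (Nat.mul_le_mul_left _ ?_)
  have hnd := nodup_of_allNew (φ := φ) h.2 fun d hd => (hφ d hd).2
  have hs : ((r.cenList.map φ).toFinset : Set (Equiv.Perm GolayPt)) ⊆
      (r.Cent x : Set (Equiv.Perm GolayPt)) := by
    intro g hg
    simp only [List.coe_toFinset, Set.mem_setOf_eq, List.mem_map] at hg
    obtain ⟨d, hd, rfl⟩ := hg
    exact (hφ d hd).1
  have h2 := Set.ncard_le_ncard hs (Set.toFinite _)
  rwa [Set.ncard_coe_finset, List.toFinset_card_of_nodup hnd, List.length_map,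
    ← Nat.card_coe_set_eq] at h2

/-- **Sums over the involutions by the orbits of the centraliser.** -/
theorem sum_orbits (hx : x < 2048) (hcen : r.checkCen x N = true)
    (horb : r.checkOrbs x n tab = true) (hn : (Invs x).card ≤ n) {M : Type*} [AddCommMonoid M]
    (F : Equiv.Perm GolayPt → M) (hF : ∀ γ ∈ r.Cent x, ∀ σ ∈ Invs x, F (γ * σ * γ⁻¹) = F σ) :
    ∑ σ ∈ Invs x, F σ = (r.orbs.map fun e => (r.orbit e).length • F (toPerm e.1)).sum := by
  classical
  simp only [checkOrbs, Bool.and_eq_true, List.all_eq_true, beq_iff_eq] at horb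
  obtain ⟨⟨⟨hseed, hkey⟩, hlen⟩, -⟩ := horb
  have hone : ∀ e ∈ r.orbs, ∀ d ∈ r.orbit e,
      ∃ γ ∈ r.Cent x, Cod d (γ * toPerm e.1 * γ⁻¹) := by
    intro e he
    refine mem_run (P := fun d => ∃ γ ∈ r.Cent x, Cod d (γ * toPerm e.1 * γ⁻¹))
      (fun i hi d hd => ?_) _ _ (fun d hd => by
        rw [List.mem_singleton.1 hd]
        exact ⟨1, one_mem _, by simpa using (invOK_spec hx (hseed e he)).2⟩)
    obtain ⟨γ, hγ, h1, h2⟩ := gen_spec hx hcen hi
    obtain ⟨δ, hδ, hd⟩ := hd
    refine ⟨γ * δ, mul_mem hγ hδ, ?_⟩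
    rw [mul_inv_rev, show γ * δ * toPerm e.1 * (δ⁻¹ * γ⁻¹) = γ * (δ * toPerm e.1 * δ⁻¹) * γ⁻¹
      by group]
    exact h1.conj h2 hd
  have hall : ∀ d ∈ r.members, ∃ σ ∈ Invs x, Cod d σ := by
    intro d hd
    obtain ⟨e, he, hd⟩ := List.mem_flatMap.1 hd
    obtain ⟨γ, hγ, h⟩ := hone e he d hd
    exact ⟨_, conj_mem_Invs hγ.1 (invOK_spec hx (hseed e he)).1, h⟩
  choose! φ hφ using hall
  have hnd := nodup_of_allNew (φ := φ) hkey fun d hd => (hφ d hd).2
  have heq : (r.members.map φ).toFinset = Invs x := by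
    refine Finset.eq_of_subset_of_card_le (fun g hg => ?_) ?_
    · obtain ⟨d, hd, rfl⟩ := List.mem_map.1 (List.mem_toFinset.1 hg)
      exact (hφ d hd).1
    · rw [List.toFinset_card_of_nodup hnd, List.length_map, hlen]; exact hn
  rw [← heq, List.sum_toFinset F hnd, List.map_map]
  have key : ∀ l : List (ℕ × List (List (List ℕ))), (∀ e ∈ l, e ∈ r.orbs) →
      ((l.flatMap r.orbit).map (F ∘ φ)).sum =
        (l.map fun e => (r.orbit e).length • F (toPerm e.1)).sum := by
    intro l
    induction l with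
    | nil => simp
    | cons e l ih =>
      intro hl
      rw [List.flatMap_cons, List.map_append, List.sum_append,
        ih fun a ha => hl a (List.mem_cons_of_mem _ ha), List.map_cons, List.sum_cons]
      congr 1
      have he := hl e List.mem_cons_self
      have hconst : ∀ d ∈ r.orbit e, (F ∘ φ) d = F (toPerm e.1) := by
        intro d hd
        obtain ⟨γ, hγ, h⟩ := hone e he d hd
        have := ((hφ d (List.mem_flatMap.2 ⟨e, he, hd⟩)).2).inj h
        simp only [Function.comp_apply, this]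
        exact hF γ hγ _ (invOK_spec hx (hseed e he)).1
      rw [List.map_congr_left hconst, List.map_const', List.sum_replicate]
  exact key r.orbs fun e he => he

end Row

/-- The stabiliser and covering data. -/
structure Cover where
  x : ℕ
  order : ℕ
  orbGens : List ℕ
  orbPlan : List (List (List ℕ))
  rows : List Row
  cover : List (ℕ × ℕ × ℕ × ℕ × ℕ)

namespace Cover

/-- The orbit of the point is long enough. -/
def checkOrder (K : Cover) : Bool :=
  decide (K.x < 2048) && K.orbGens.all isAut &&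
    let L := runPlan act K.orbGens [K.x] K.orbPlan
    GolayOrbitLists.allNew L .nil && decide (244823040 ≤ K.order * L.length)

theorem x_lt {K : Cover} (h : K.checkOrder = true) : K.x < 2048 := by
  simp only [checkOrder, Bool.and_eq_true, decide_eq_true_eq] at h
  exact h.1.1

theorem card_le {K : Cover} (h : K.checkOrder = true) : Nat.card ↥(Stab K.x) ≤ K.order := by
  classical
  have hx := x_lt h
  simp only [checkOrder, Bool.and_eq_true, decide_eq_true_eq, List.all_eq_true] at h
  obtain ⟨⟨-, hg⟩, hnew, hlen⟩ := h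
  set L := runPlan act K.orbGens [K.x] K.orbPlan with hL
  have hmem : ∀ c ∈ L, c ∈ (fun σ => actP σ K.x) '' (M24 : Set (Equiv.Perm GolayPt)) := by
    refine mem_run (fun g hg' c hc => ?_) _ _ (fun c hc => by
      rw [List.mem_singleton.1 hc]; exact ⟨1, one_mem _, actP_one hx⟩)
    obtain ⟨σ, hσ, rfl⟩ := hc
    refine ⟨toPerm g * σ, mul_mem (toPerm_mem_M24 (hg g hg')) hσ, ?_⟩
    show actP (toPerm g * σ) K.x = _
    rw [actP_mul (toPerm_mem_M24 (hg g hg')), actP_toPerm (validPerm_of_isAut (hg g hg'))]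
  have hcount := ncard_image_mul (H := M24) (C := Stab K.x) (fun σ => actP σ K.x)
    (fun σ hσ => hσ.1) (fun a ha b hb => by
      rw [mem_Stab hx, and_iff_right (mul_mem (inv_mem ha) hb), actP_mul (inv_mem ha)]
      constructor
      · intro e
        rw [← e, ← actP_mul (inv_mem ha), inv_mul_cancel, actP_one hx]
      · intro e
        rw [← e, ← actP_mul ha, mul_inv_cancel, actP_one (actP_lt' _ _)]
        conv_rhs => rw [e])
  rw [natCard_M24] at hcount
  have hle : L.length ≤ ((fun σ => actP σ K.x) '' (M24 : Set (Equiv.Perm GolayPt))).ncard := by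
    rw [← List.toFinset_card_of_nodup (GolayOrbitLists.allNew_spec _ _ hnew).1,
      ← Set.ncard_coe_finset]
    refine Set.ncard_le_ncard (fun c hc => hmem c ?_) (Set.toFinite _)
    simpa using hc
  have hpos : 0 < L.length := by
    rcases Nat.eq_zero_or_pos L.length with h0 | h0
    · rw [h0, Nat.mul_zero] at hlen; omega
    · exact h0
  nlinarith

/-- Every representative with every admissible point is carried to a row. -/
def checkCover (K : Cover) (cls : ℕ → Bool) : Bool :=
  (K.rows.head?.map Row.rep == some idCode) &&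
  [GolayInvol.invRepFix, GolayInvol.invRepFree].all (fun d =>
    allBits (fun c => !(cls c && act d c == c) ||
      K.cover.any fun e => e.1 == d && e.2.1 == c) 11 0) &&
  K.cover.all fun e => isAut e.2.2.1 && act e.2.2.1 e.2.1 == K.x &&
    decide (e.2.2.2.1 < K.rows.length) &&
    (List.range 24).all fun i =>
      fn e.2.2.1 (fn e.1 i) == fn (K.rows.getD e.2.2.2.1 ⟨idCode, 1, [], [], []⟩).rep (fn e.2.2.1 i)

theorem exists_row {K : Cover} {cls : ℕ → Bool} (ho : K.checkOrder = true)
    (hc : K.checkCover cls = true) (hcls : ∀ g ∈ M24, cls (actP g K.x) = true)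
    (hrow : ∀ r ∈ K.rows, invOK K.x r.rep = true) {σ : Equiv.Perm GolayPt} (hσ : σ ∈ Invs K.x) :
    ∃ r ∈ K.rows, ∃ γ ∈ Stab K.x, σ = γ * toPerm r.rep * γ⁻¹ := by
  classical
  have hx := x_lt ho
  obtain ⟨hS, h2⟩ := mem_Invs.1 hσ
  obtain ⟨hM, hfix⟩ := (mem_Stab hx).1 hS
  simp only [checkCover, Bool.and_eq_true, List.all_eq_true, beq_iff_eq, decide_eq_true_eq] at hc
  obtain ⟨⟨hhead, hall⟩, hcov⟩ := hc
  by_cases h1 : σ = 1
  · cases hr : K.rows with
    | nil => simp [hr] at hhead
    | cons r rs =>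
      rw [hr, List.head?_cons, Option.map_some, Option.some.injEq] at hhead
      refine ⟨r, List.mem_cons_self, 1, one_mem _, ?_⟩
      have := (invOK_spec hx (hrow r (hr ▸ List.mem_cons_self))).2
      rw [hhead] at this
      rw [h1, hhead, this.inj cod_idCode]
      simp
  haveI : Fact (Nat.Prime 2) := ⟨Nat.prime_two⟩
  obtain ⟨g, hg, hgk⟩ := GolayInvol.involution_cases hM (orderOf_eq_prime (by rw [pow_two, h2]) h1)
  have key : ∀ d ∈ [GolayInvol.invRepFix, GolayInvol.invRepFree], validPerm d = true →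
      g * toPerm d * g⁻¹ = σ → ∃ r ∈ K.rows, ∃ γ ∈ Stab K.x, σ = γ * toPerm r.rep * γ⁻¹ := by
    intro d hd hdv he
    set c := actP g⁻¹ K.x with hcdef
    have hfix' : act d c = c := by
      rw [← actP_toPerm hdv, hcdef,
        show toPerm d = g⁻¹ * σ * g by rw [← he]; group,
        mul_assoc, actP_mul (inv_mem hg), actP_mul hM, ← actP_mul hg, mul_inv_cancel,
        actP_one hx, hfix]
    have h := forall_lt_two_pow (hall d hd) (k := 11) (i := c) (actP_lt' _ _)
    simp only [hcdef ▸ hcls g⁻¹ (inv_mem hg), hfix', beq_self_eq_true, Bool.and_self,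
      Bool.not_true, Bool.false_or, List.any_eq_true, Bool.and_eq_true, beq_iff_eq] at h
    obtain ⟨e, he', hed, hec⟩ := h
    obtain ⟨⟨⟨hh, hhx⟩, hk⟩, hrel⟩ := hcov e he'
    set r := K.rows.getD e.2.2.2.1 ⟨idCode, 1, [], [], []⟩ with hr
    have hrm : r ∈ K.rows := by
      rw [hr, List.getD_eq_getElem?_getD, List.getElem?_eq_getElem hk]; exact List.getElem_mem hk
    have hhv := validPerm_of_isAut hh
    set h' := toPerm e.2.2.1 with hh'
    have hrc : h' * toPerm d = toPerm r.rep * h' := Equiv.ext fun p => idx_injective (by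
      rw [Equiv.Perm.mul_apply, Equiv.Perm.mul_apply, hh', idx_toPerm hhv, idx_toPerm hdv,
        (invOK_spec hx (hrow r hrm)).2, idx_toPerm hhv, ← hed]
      exact hrel _ (List.mem_range.2 (idx_lt p)))
    refine ⟨r, hrm, g * h'⁻¹, (mem_Stab hx).2
      ⟨mul_mem hg (inv_mem (toPerm_mem_M24 hh)), ?_⟩, ?_⟩
    · have hback : actP h'⁻¹ K.x = c := by
        rw [← hhx, hec, ← actP_toPerm hhv, ← hh', ← actP_mul (inv_mem (toPerm_mem_M24 hh)),
          inv_mul_cancel, actP_one (actP_lt' _ _)]
      rw [actP_mul hg, hback, hcdef, ← actP_mul hg, mul_inv_cancel, actP_one hx]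
    · rw [← he, show toPerm r.rep = h' * toPerm d * h'⁻¹ by rw [hrc]; group]
      group
  rcases hgk with e | e
  · exact key _ List.mem_cons_self
      (validPerm_of_isAut (Bool.and_eq_true_iff.1 GolayInvol.rep_aut).1) e
  · exact key _ (List.mem_cons_of_mem _ List.mem_cons_self)
      (validPerm_of_isAut (Bool.and_eq_true_iff.1 GolayInvol.rep_aut).2) e

end Cover

/-- The checks of all rows, with the table of pairs. -/
structure Checked (K : Cover) (n : ℕ) (cls : ℕ → Bool) (tabs : List (List (ℕ × ℕ × ℕ))) :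
    Prop where
  order : K.checkOrder = true
  covers : K.checkCover cls = true
  cls_orbit : ∀ g ∈ M24, cls (actP g K.x) = true
  total : (K.rows.map Row.size).sum = n
  len : tabs.length = K.rows.length
  cen : ∀ r ∈ K.rows, r.checkCen K.x K.order = true
  orbs : ∀ e ∈ K.rows.zip tabs, e.1.checkOrbs K.x n e.2 = true
  first : ∀ r ∈ K.rows.head?, r.orbs.map (fun e => (e.1, (r.orbit e).length)) =
    K.rows.map (fun r' => (r'.rep, r'.size))

namespace Checked

variable {K : Cover} {n : ℕ} {cls : ℕ → Bool} {tabs : List (List (ℕ × ℕ × ℕ))}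

theorem row_ok (h : Checked K n cls tabs) {r : Row} (hr : r ∈ K.rows) :
    invOK K.x r.rep = true := by
  have := h.cen r hr
  simp only [Row.checkCen, Bool.and_eq_true] at this
  exact this.1.1

theorem card_Invs_le (h : Checked K n cls tabs) : (Invs K.x).card ≤ n := by
  classical
  let O : Row → Finset (Equiv.Perm GolayPt) := fun r =>
    Finset.univ.filter fun σ => ∃ γ ∈ Stab K.x, γ * toPerm r.rep * γ⁻¹ = σ
  have hsub : ∀ σ ∈ Invs K.x, ∃ r ∈ K.rows, σ ∈ O r := fun σ hσ => by
    obtain ⟨r, hr, γ, hγ, e⟩ := Cover.exists_row h.order h.covers h.cls_orbit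
      (fun r hr => h.row_ok hr) hσ
    exact ⟨r, hr, Finset.mem_filter.2 ⟨Finset.mem_univ _, γ, hγ, e.symm⟩⟩
  have hO : ∀ r ∈ K.rows, (O r).card ≤ r.size := by
    intro r hr
    rcases Row.card_Cent_ge (Cover.x_lt h.order) (h.cen r hr) with ⟨hid, h1⟩ | hge
    · refine le_trans (Finset.card_le_card (t := {1}) fun σ hσ => ?_) (by simpa using h1)
      obtain ⟨γ, -, e⟩ := (Finset.mem_filter.1 hσ).2
      have hc := (invOK_spec (Cover.x_lt h.order) (h.row_ok hr)).2
      rw [hid] at hc
      rw [Finset.mem_singleton, ← e, hid, hc.inj cod_idCode, mul_one, mul_inv_cancel]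
    have hcount := ncard_image_mul (H := Stab K.x) (C := r.Cent K.x)
      (fun γ => γ * toPerm r.rep * γ⁻¹) inf_le_left (fun a ha b hb => by
        rw [Row.mem_Cent, and_iff_right (mul_mem (inv_mem ha) hb)]
        constructor
        · intro e
          calc a⁻¹ * b * toPerm r.rep = a⁻¹ * (b * toPerm r.rep * b⁻¹) * b := by group
            _ = toPerm r.rep * (a⁻¹ * b) := by rw [← e]; group
        · intro e
          calc a * toPerm r.rep * a⁻¹ = a * (toPerm r.rep * (a⁻¹ * b)) * b⁻¹ := by group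
            _ = b * toPerm r.rep * b⁻¹ := by rw [← e]; group)
    have hset : (fun γ => γ * toPerm r.rep * γ⁻¹) '' (Stab K.x : Set (Equiv.Perm GolayPt)) =
        (O r : Set (Equiv.Perm GolayPt)) := by
      ext σ; simp [O]
    rw [hset, Set.ncard_coe_finset] at hcount
    have hpos : 0 < Nat.card ↥(r.Cent K.x) := Nat.card_pos
    have hK := Cover.card_le h.order
    exact Nat.le_of_mul_le_mul_right (hcount ▸ hK.trans hge) hpos
  calc (Invs K.x).card ≤ (K.rows.toFinset.biUnion O).card := Finset.card_le_card fun σ hσ => by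
        obtain ⟨r, hr, hσ'⟩ := hsub σ hσ
        exact Finset.mem_biUnion.2 ⟨r, List.mem_toFinset.2 hr, hσ'⟩
    _ ≤ ∑ r ∈ K.rows.toFinset, (O r).card := Finset.card_biUnion_le
    _ ≤ ∑ r ∈ K.rows.toFinset, r.size :=
        Finset.sum_le_sum fun r hr => hO r (List.mem_toFinset.1 hr)
    _ ≤ (K.rows.map Row.size).sum := by
        clear hsub hO
        induction K.rows with
        | nil => simp
        | cons a l ih =>
          rw [List.toFinset_cons, List.map_cons, List.sum_cons]
          by_cases ha : a ∈ l.toFinset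
          · rw [Finset.insert_eq_of_mem ha]; omega
          · rw [Finset.sum_insert ha]; omega
    _ = n := h.total

/-- **Sums over the pairs of involutions by the table.** -/
theorem sum_pairs (h : Checked K n cls tabs) {M : Type*} [AddCommMonoid M]
    (F : Equiv.Perm GolayPt → Equiv.Perm GolayPt → M)
    (hF : ∀ γ ∈ Stab K.x, ∀ σ ∈ Invs K.x, ∀ τ ∈ Invs K.x,
      F (γ * σ * γ⁻¹) (γ * τ * γ⁻¹) = F σ τ) :
    ∑ σ ∈ Invs K.x, ∑ τ ∈ Invs K.x, F σ τ =
      (tabs.flatten.map fun e => e.1 • F (toPerm e.2.1) (toPerm e.2.2)).sum := by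
  classical
  have hx := Cover.x_lt h.order
  have hn := h.card_Invs_le
  set G : Equiv.Perm GolayPt → M := fun σ => ∑ τ ∈ Invs K.x, F σ τ with hG
  have hGc : ∀ γ ∈ Stab K.x, ∀ σ ∈ Invs K.x, G (γ * σ * γ⁻¹) = G σ := by
    intro γ hγ σ hσ
    symm
    refine Finset.sum_bij (fun τ _ => γ * τ * γ⁻¹) (fun τ hτ => conj_mem_Invs hγ hτ)
      (fun a _ b _ e => by simpa using e) (fun τ hτ => ⟨γ⁻¹ * τ * γ, ?_, by group⟩)
      (fun τ hτ => (hF γ hγ σ hσ τ hτ).symm)
    simpa using conj_mem_Invs (inv_mem hγ) hτ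
  show ∑ σ ∈ Invs K.x, G σ = _
  cases hr : K.rows with
  | nil =>
    have := h.covers
    simp [Cover.checkCover, hr] at this
  | cons r0 rs =>
    have hr0 : r0 ∈ K.rows := hr ▸ List.mem_cons_self
    have hz : ∀ (l : List Row) (T : List (List (ℕ × ℕ × ℕ))), T.length = l.length →
        (∀ e ∈ l.zip T, e.1.checkOrbs K.x n e.2 = true) →
        (∀ r ∈ l, r ∈ K.rows) →
        (l.map fun r => r.size • G (toPerm r.rep)).sum =
          (T.flatten.map fun e => e.1 • F (toPerm e.2.1) (toPerm e.2.2)).sum := by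
      intro l
      induction l with
      | nil => intro T hT _ _; simp [List.length_eq_zero_iff.1 hT]
      | cons r l ih =>
        intro T hT hok hl
        cases T with
        | nil => simp at hT
        | cons t T =>
          rw [List.map_cons, List.sum_cons, List.flatten_cons, List.map_append, List.sum_append,
            ih T (by simpa using hT) (fun e he => hok e (List.mem_cons_of_mem _ he))
              (fun a ha => hl a (List.mem_cons_of_mem _ ha))]
          congr 1
          have ho : r.checkOrbs K.x n t = true := hok (r, t) List.mem_cons_self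
          have hrK := hl r List.mem_cons_self
          rw [hG]
          show r.size • ∑ τ ∈ Invs K.x, F (toPerm r.rep) τ = _
          rw [Row.sum_orbits hx (h.cen r hrK) ho hn (F (toPerm r.rep)) fun γ hγ τ hτ => by
            have hc := (Row.mem_Cent.1 hγ).2
            conv_lhs => rw [show toPerm r.rep = γ * toPerm r.rep * γ⁻¹ by rw [hc]; group]
            exact hF γ hγ.1 _ (invOK_spec hx (h.row_ok hrK)).1 τ hτ]
          simp only [Row.checkOrbs, Bool.and_eq_true, beq_iff_eq] at ho
          rw [ho.2, List.smul_sum, List.map_map, List.map_map]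
          simp only [Function.comp_def, mul_smul]
    rw [← hz K.rows tabs h.len h.orbs (fun r hr => hr)]
    cases ht : tabs with
    | nil => simp [ht, hr] at h; exact absurd h.len (by simp [ht, hr])
    | cons t0 ts =>
      have ho : r0.checkOrbs K.x n t0 = true := h.orbs (r0, t0) (by simp [hr, ht])
      rw [Row.sum_orbits hx (h.cen r0 hr0) ho hn G fun γ hγ σ hσ => hGc γ hγ.1 σ hσ]
      have hf := h.first r0 (by simp [hr])
      calc (r0.orbs.map fun e => (r0.orbit e).length • G (toPerm e.1)).sum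
          = ((r0.orbs.map fun e => (e.1, (r0.orbit e).length)).map
              fun p => p.2 • G (toPerm p.1)).sum := by rw [List.map_map]; rfl
        _ = _ := by rw [hf, List.map_map]; rfl

/-- An invariant property holding at the pairs of the table holds at all pairs. -/
theorem forall_pairs (h : Checked K n cls tabs)
    (P : Equiv.Perm GolayPt → Equiv.Perm GolayPt → Prop)
    (hP : ∀ γ ∈ Stab K.x, ∀ σ ∈ Invs K.x, ∀ τ ∈ Invs K.x,
      P (γ * σ * γ⁻¹) (γ * τ * γ⁻¹) ↔ P σ τ)
    (htab : ∀ e ∈ tabs.flatten, P (toPerm e.2.1) (toPerm e.2.2)) :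
    ∀ σ ∈ Invs K.x, ∀ τ ∈ Invs K.x, P σ τ := by
  classical
  have := h.sum_pairs (fun σ τ => if P σ τ then 0 else 1) fun γ hγ σ hσ τ hτ => by
    simp only [hP γ hγ σ hσ τ hτ]
  rw [List.sum_eq_zero (l := tabs.flatten.map _) (by
    intro a ha
    obtain ⟨e, he, rfl⟩ := List.mem_map.1 ha
    rw [if_pos (htab e he), smul_zero]), Finset.sum_eq_zero_iff] at this
  intro σ hσ τ hτ
  have h1 := Finset.sum_eq_zero_iff.1 (this σ hσ) τ hτ
  by_contra hn
  rw [if_neg hn] at h1
  exact one_ne_zero h1

end Checked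

end Cfsg.Agent.J4Type.Order
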