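import Cfsg.Agent.Lib.J4Type.TwoTenModel
import Cfsg.Agent.Lib.J4Type.VInvol
import Cfsg.Agent.Lib.J4Type.Order.Stab

/-
Groups of Janko-four type, order formula: involutions of the centraliser in `2^11 : M24` of an
element of `V` in coordinates, sums over their pairs (owner: helper43).

Main results: `Ctx.ee`, `Ctx.sum_invPart`, `Ctx.pairF`, `Ctx.sum_pairs`, `Ctx.pairF_reduce`,
`Ctx.pairF_swap`, `Ctx.mem_zpowers_ee`.
-/

set_option autoImplicit false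
set_option linter.unusedSectionVars false
set_option linter.unusedSimpArgs false
set_option exponentiation.threshold 4096
open scoped Pointwise
open Cfsg Cfsg.Agent.Golay Cfsg.Agent.J4Type Cfsg.Agent.J4Type.TwoTen
open Cfsg.Agent.J4Type.Order (Stab Invs mem_Stab mem_Invs actP_mul actP_one actP_lt' Checked Cover)

namespace Cfsg.Agent.J4Type.TwoTen.Ctx

variable {G : Type*} [Group G] [Finite G] (C : Ctx G)

local notation "NV" => Subgroup.normalizer (C.D.V : Set G)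

open Classical in
/-- The element of the complement of a permutation, `1` outside M24. -/
noncomputable def elP (σ : Equiv.Perm GolayPt) : G :=
  if h : σ ∈ M24 then C.D.el ⟨σ, h⟩ else 1

theorem elP_eq {σ : Equiv.Perm GolayPt} (h : σ ∈ M24) : C.elP σ = C.D.el ⟨σ, h⟩ := dif_pos h

/-- The element with given coordinate and permutation. -/
noncomputable def ee (a : ℕ) (σ : Equiv.Perm GolayPt) : G := C.vv a * C.elP σ

theorem ee_mem (a : ℕ) {σ : Equiv.Perm GolayPt} (h : σ ∈ M24) : C.ee a σ ∈ NV := by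
  rw [ee, C.elP_eq h]; exact C.code_mem a _

theorem ee_one (a : ℕ) : C.ee a 1 = C.vv a := by
  rw [ee, C.elP_eq (one_mem _), show (⟨1, one_mem _⟩ : ↥M24) = 1 from rfl, C.el_one, mul_one]

theorem ee_zero_one : C.ee 0 1 = 1 := by rw [C.ee_one, C.vv_zero]

theorem ee_mul {a b : ℕ} {σ τ : Equiv.Perm GolayPt} (hσ : σ ∈ M24) (hτ : τ ∈ M24) :
    C.ee a σ * C.ee b τ = C.ee (a ^^^ actP σ b) (σ * τ) := by
  rw [ee, ee, ee, C.elP_eq hσ, C.elP_eq hτ, C.elP_eq (mul_mem hσ hτ)]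
  exact C.code_mul a b _ _

theorem ee_inj {a b : ℕ} {σ τ : Equiv.Perm GolayPt} (hσ : σ ∈ M24) (hτ : τ ∈ M24) (ha : a < 2048)
    (hb : b < 2048) (h : C.ee a σ = C.ee b τ) : a = b ∧ σ = τ := by
  rw [ee, ee, C.elP_eq hσ, C.elP_eq hτ] at h
  obtain ⟨h1, h2⟩ := C.code_inj ha hb h
  exact ⟨h1, congrArg Subtype.val h2⟩

theorem exists_ee {n : G} (hn : n ∈ NV) : ∃ a < 2048, ∃ σ ∈ M24, n = C.ee a σ := by
  obtain ⟨c, hc, σ, rfl⟩ := C.exists_code hn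
  exact ⟨c, hc, σ, σ.2, by rw [ee, C.elP_eq σ.2]⟩

theorem ee_comm_vv {a x : ℕ} (hx : x < 2048) {σ : Equiv.Perm GolayPt} (hσ : σ ∈ M24) :
    C.ee a σ * C.vv x = C.vv x * C.ee a σ ↔ actP σ x = x := by
  have h1 : C.ee a σ * C.vv x * (C.ee a σ)⁻¹ = C.vv (actP σ x) := by
    rw [ee, C.elP_eq hσ,
      show C.vv a * C.D.el ⟨σ, hσ⟩ * C.vv x * (C.vv a * C.D.el ⟨σ, hσ⟩)⁻¹ =
        C.vv a * (C.D.el ⟨σ, hσ⟩ * C.vv x * (C.D.el ⟨σ, hσ⟩)⁻¹) * (C.vv a)⁻¹ by group,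
      C.conj_vv, ← C.vv_xor, Nat.xor_comm, C.vv_xor, mul_inv_cancel_right]
  constructor
  · intro h
    refine C.vv_inj (actP_lt' _ _) hx ?_
    rw [← h1, h, mul_inv_cancel_right]
  · intro h
    rw [h] at h1
    exact mul_inv_eq_iff_eq_mul.1 h1

/-- The coordinates fixed by a permutation. -/
noncomputable def fixC (σ : Equiv.Perm GolayPt) : Finset ℕ :=
  (Finset.range 2048).filter fun a => actP σ a = a

theorem mem_fixC {σ : Equiv.Perm GolayPt} {a : ℕ} :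
    a ∈ fixC σ ↔ a < 2048 ∧ actP σ a = a := by simp [fixC]

theorem ee_sq {a : ℕ} {σ : Equiv.Perm GolayPt} (hσ : σ ∈ M24) (ha : a < 2048) :
    C.ee a σ * C.ee a σ = 1 ↔ σ * σ = 1 ∧ actP σ a = a := by
  rw [C.ee_mul hσ hσ, ← C.ee_zero_one]
  constructor
  · intro h
    obtain ⟨h1, h2⟩ := C.ee_inj (mul_mem hσ hσ) (one_mem _)
      (Nat.xor_lt_two_pow (n := 11) ha (actP_lt' _ _)) (by norm_num) h
    exact ⟨h2, (Nat.xor_eq_zero_iff.1 h1).symm⟩
  · rintro ⟨h1, h2⟩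
    rw [h1, h2, Nat.xor_self]

/-- The elements of square one of the centraliser of `vv x` in the normaliser of `V`. -/
noncomputable def invPart (x : ℕ) : Finset G :=
  (Set.toFinite {u : G | u ∈ NV ∧ u * C.vv x = C.vv x * u ∧ u * u = 1}).toFinset

theorem mem_invPart {x : ℕ} {u : G} :
    u ∈ C.invPart x ↔ u ∈ NV ∧ u * C.vv x = C.vv x * u ∧ u * u = 1 := by
  simp [invPart]

theorem sum_invPart {x : ℕ} (hx : x < 2048) {M : Type*} [AddCommMonoid M] (g : G → M) :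
    ∑ u ∈ C.invPart x, g u = ∑ σ ∈ Invs x, ∑ a ∈ fixC σ, g (C.ee a σ) := by
  classical
  rw [Finset.sum_sigma']
  symm
  refine Finset.sum_bij (fun p _ => C.ee p.2 p.1) (fun p hp => ?_) (fun p hp p' hp' h => ?_)
    (fun u hu => ?_) (fun p _ => rfl)
  · obtain ⟨h1, h2⟩ := Finset.mem_sigma.1 hp
    obtain ⟨hS, hsq⟩ := mem_Invs.1 h1
    obtain ⟨hM, hfx⟩ := (mem_Stab hx).1 hS
    obtain ⟨ha, haf⟩ := mem_fixC.1 h2
    exact C.mem_invPart.2 ⟨C.ee_mem _ hM, (C.ee_comm_vv hx hM).2 hfx,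
      (C.ee_sq hM ha).2 ⟨hsq, haf⟩⟩
  · obtain ⟨h1, h2⟩ := Finset.mem_sigma.1 hp
    obtain ⟨h1', h2'⟩ := Finset.mem_sigma.1 hp'
    obtain ⟨e1, e2⟩ := C.ee_inj (mem_Invs.1 h1).1.1 (mem_Invs.1 h1').1.1 (mem_fixC.1 h2).1
      (mem_fixC.1 h2').1 h
    exact Sigma.ext e2 (heq_of_eq e1)
  · obtain ⟨hN, hc, h2⟩ := C.mem_invPart.1 hu
    obtain ⟨a, ha, σ, hσ, rfl⟩ := C.exists_ee hN
    obtain ⟨hsq, haf⟩ := (C.ee_sq hσ ha).1 h2
    exact ⟨⟨σ, a⟩, Finset.mem_sigma.2 ⟨mem_Invs.2 ⟨(mem_Stab hx).2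
      ⟨hσ, (C.ee_comm_vv hx hσ).1 hc⟩, hsq⟩, mem_fixC.2 ⟨ha, haf⟩⟩, rfl⟩

/-- The sum over two fibres. -/
noncomputable def pairF {M : Type*} [AddCommMonoid M] (W : G → G → M)
    (σ τ : Equiv.Perm GolayPt) : M :=
  ∑ a ∈ fixC σ, ∑ b ∈ fixC τ, W (C.ee a σ) (C.ee b τ)

/-- Invariance under conjugation by the centraliser of `vv x` in the normaliser of `V`. -/
def ConjInv {M : Type*} (x : ℕ) (W : G → G → M) : Prop :=
  ∀ g ∈ NV, g * C.vv x = C.vv x * g → ∀ u ∈ C.invPart x, ∀ v ∈ C.invPart x,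
    W (g * u * g⁻¹) (g * v * g⁻¹) = W u v

theorem ee_conj {γ σ : Equiv.Perm GolayPt} (hγ : γ ∈ M24) (hσ : σ ∈ M24) (a : ℕ) :
    C.ee 0 γ * C.ee a σ * (C.ee 0 γ)⁻¹ = C.ee (actP γ a) (γ * σ * γ⁻¹) := by
  rw [mul_inv_eq_iff_eq_mul, C.ee_mul hγ hσ,
    C.ee_mul (mul_mem (mul_mem hγ hσ) (inv_mem hγ)) hγ, inv_mul_cancel_right, Nat.zero_xor]
  have : actP (γ * σ * γ⁻¹) 0 = 0 := by
    have := actP_xor (γ * σ * γ⁻¹) 0 0
    simpa using this
  rw [this, Nat.xor_zero]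

theorem ee_mem_invPart {x : ℕ} (hx : x < 2048) {σ : Equiv.Perm GolayPt} (hσ : σ ∈ Invs x) {a : ℕ}
    (ha : a ∈ fixC σ) : C.ee a σ ∈ C.invPart x := by
  obtain ⟨hS, hsq⟩ := mem_Invs.1 hσ
  obtain ⟨hM, hfx⟩ := (mem_Stab hx).1 hS
  obtain ⟨ha, haf⟩ := mem_fixC.1 ha
  exact C.mem_invPart.2 ⟨C.ee_mem _ hM, (C.ee_comm_vv hx hM).2 hfx,
    (C.ee_sq hM ha).2 ⟨hsq, haf⟩⟩

theorem actP_conj_fix {γ σ : Equiv.Perm GolayPt} (hγ : γ ∈ M24) (hσ : σ ∈ M24) {a : ℕ}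
    (ha : a ∈ fixC σ) : actP γ a ∈ fixC (γ * σ * γ⁻¹) := by
  obtain ⟨ha, haf⟩ := mem_fixC.1 ha
  refine mem_fixC.2 ⟨actP_lt' _ _, ?_⟩
  rw [← actP_mul (mul_mem (mul_mem hγ hσ) (inv_mem hγ)), inv_mul_cancel_right, actP_mul hγ, haf]

theorem pairF_conj {x : ℕ} (hx : x < 2048) {M : Type*} [AddCommMonoid M] {W : G → G → M}
    (hW : C.ConjInv x W) {γ : Equiv.Perm GolayPt} (hγ : γ ∈ Stab x) {σ τ : Equiv.Perm GolayPt}
    (hσ : σ ∈ Invs x) (hτ : τ ∈ Invs x) :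
    C.pairF W (γ * σ * γ⁻¹) (γ * τ * γ⁻¹) = C.pairF W σ τ := by
  obtain ⟨hM, hfx⟩ := (mem_Stab hx).1 hγ
  have hinvM := inv_mem hM
  have hg : C.ee 0 γ * C.vv x = C.vv x * C.ee 0 γ := (C.ee_comm_vv hx hM).2 hfx
  have bij : ∀ {σ : Equiv.Perm GolayPt}, σ ∈ Invs x → ∀ (h : ℕ → M),
      ∑ a ∈ fixC (γ * σ * γ⁻¹), h a = ∑ a ∈ fixC σ, h (actP γ a) := by
    intro σ hσ h
    have hσM := (mem_Invs.1 hσ).1.1
    symm
    refine Finset.sum_bij' (fun a _ => actP γ a) (fun a _ => actP γ⁻¹ a)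
      (fun a ha => actP_conj_fix hM hσM ha) (fun a ha => ?_)
      (fun a ha => ?_) (fun a ha => ?_) (fun _ _ => rfl)
    · have := actP_conj_fix hinvM (mul_mem (mul_mem hM hσM) hinvM) ha
      rwa [show γ⁻¹ * (γ * σ * γ⁻¹) * γ⁻¹⁻¹ = σ by group] at this
    · rw [← actP_mul hinvM, inv_mul_cancel, actP_one (mem_fixC.1 ha).1]
    · rw [← actP_mul hM, mul_inv_cancel, actP_one (mem_fixC.1 ha).1]
  rw [pairF, pairF, bij hσ]
  refine Finset.sum_congr rfl fun a ha => ?_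
  rw [bij hτ]
  refine Finset.sum_congr rfl fun b hb => ?_
  rw [← C.ee_conj hM (mem_Invs.1 hσ).1.1, ← C.ee_conj hM (mem_Invs.1 hτ).1.1]
  exact hW _ (C.ee_mem _ hM) hg _ (C.ee_mem_invPart hx hσ ha) _ (C.ee_mem_invPart hx hτ hb)

/-- **Sums over the pairs by the table.** -/
theorem sum_pairs {K : Cover} {n : ℕ} {cls : ℕ → Bool} {tabs : List (List (ℕ × ℕ × ℕ))}
    (h : Checked K n cls tabs) {M : Type*} [AddCommMonoid M] {W : G → G → M}
    (hW : C.ConjInv K.x W) :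
    ∑ u ∈ C.invPart K.x, ∑ v ∈ C.invPart K.x, W u v =
      (tabs.flatten.map fun e => e.1 • C.pairF W (toPerm e.2.1) (toPerm e.2.2)).sum := by
  have hx := Cover.x_lt h.order
  rw [C.sum_invPart hx]
  rw [← h.sum_pairs (fun σ τ => C.pairF W σ τ) fun γ hγ σ hσ τ hτ => C.pairF_conj hx hW hγ hσ hτ]
  refine Finset.sum_congr rfl fun σ _ => ?_
  simp only [pairF]
  rw [Finset.sum_comm (t := fixC σ)]
  refine Finset.sum_congr rfl fun a _ => ?_
  exact C.sum_invPart hx _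

theorem pairF_swap {M : Type*} [AddCommMonoid M] (W : G → G → M) (σ τ : Equiv.Perm GolayPt) :
    C.pairF W σ τ = C.pairF (fun u v => W v u) τ σ := Finset.sum_comm

theorem ee_conj_vv {σ : Equiv.Perm GolayPt} (hσ : σ ∈ M24) {a : ℕ} (ha : a < 2048) (e : ℕ) :
    C.vv e * C.ee a σ * (C.vv e)⁻¹ = C.ee (a ^^^ (e ^^^ actP σ e)) σ := by
  rw [mul_inv_eq_iff_eq_mul, ← C.ee_one e, C.ee_mul (one_mem _) hσ, C.ee_mul hσ (one_mem _),
    one_mul, mul_one, actP_one ha]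
  congr 1
  rw [Nat.xor_assoc a, Nat.xor_assoc e, Nat.xor_self, Nat.xor_zero, Nat.xor_comm]

/-- **Reduction of the first coordinate modulo the commutators.** -/
theorem pairF_reduce {x : ℕ} (hx : x < 2048) {M : Type*} [AddCommMonoid M] {W : G → G → M}
    (hW : C.ConjInv x W) {σ τ : Equiv.Perm GolayPt} (hσ : σ ∈ Invs x) (hτ : τ ∈ Invs x)
    (reps es : List ℕ) (hes : ∀ e ∈ es, e < 2048) (hreps : ∀ a ∈ reps, a ∈ fixC σ)
    (hcover : ((reps.flatMap fun a => es.map fun e => a ^^^ (e ^^^ actP σ e)).toFinset = fixC σ))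
    (hnd : (reps.flatMap fun a => es.map fun e => a ^^^ (e ^^^ actP σ e)).Nodup) :
    C.pairF W σ τ =
      es.length • (reps.map fun a => ∑ b ∈ fixC τ, W (C.ee a σ) (C.ee b τ)).sum := by
  classical
  have hτM := (mem_Invs.1 hτ).1.1
  have hσM := (mem_Invs.1 hσ).1.1
  set g : ℕ → M := fun a => ∑ b ∈ fixC τ, W (C.ee a σ) (C.ee b τ) with hg
  have key : ∀ a ∈ reps, ∀ e ∈ es, g (a ^^^ (e ^^^ actP σ e)) = g a := by
    intro a ha e he
    have he' := hes e he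
    have hcomm : C.vv e * C.vv x = C.vv x * C.vv e := C.D.comm (C.vv_mem _) (C.vv_mem _)
    have hmove : ∀ b ∈ fixC τ, (b ^^^ (e ^^^ actP τ e)) ∈ fixC τ := by
      intro b hb
      obtain ⟨hb, hbf⟩ := mem_fixC.1 hb
      refine mem_fixC.2
        ⟨Nat.xor_lt_two_pow (n := 11) hb (Nat.xor_lt_two_pow (n := 11) he' (actP_lt' _ _)), ?_⟩
      rw [actP_xor, actP_xor, hbf, ← actP_mul hτM, (mem_Invs.1 hτ).2, actP_one he',
        Nat.xor_comm (actP τ e)]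
    show ∑ b ∈ fixC τ, _ = ∑ b ∈ fixC τ, _
    refine Finset.sum_bij' (fun b _ => b ^^^ (e ^^^ actP τ e)) (fun b _ => b ^^^ (e ^^^ actP τ e))
      hmove hmove (fun b _ => by rw [Nat.xor_assoc, Nat.xor_self, Nat.xor_zero])
      (fun b _ => by rw [Nat.xor_assoc, Nat.xor_self, Nat.xor_zero]) (fun b hb => ?_)
    have h1 := hW (C.vv e) (Subgroup.le_normalizer (C.vv_mem e)) hcomm _
      (C.ee_mem_invPart hx hσ (hreps a ha))
      _ (C.ee_mem_invPart hx hτ (hmove b hb))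
    rw [C.ee_conj_vv hσM (mem_fixC.1 (hreps a ha)).1, C.ee_conj_vv hτM (mem_fixC.1 (hmove b hb)).1,
      Nat.xor_assoc b, Nat.xor_self, Nat.xor_zero] at h1
    exact h1
  rw [pairF, ← hcover, List.sum_toFinset _ hnd]
  clear hcover hnd
  induction reps with
  | nil => simp
  | cons a reps ih =>
    rw [List.flatMap_cons, List.map_append, List.sum_append,
      ih (fun b hb => hreps b (List.mem_cons_of_mem _ hb))
        fun b hb => key b (List.mem_cons_of_mem _ hb), List.map_cons, List.sum_cons, smul_add]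
    congr 1
    have hc : ∀ c ∈ es.map (fun e => a ^^^ (e ^^^ actP σ e)), g c = g a := by
      intro c hc
      obtain ⟨e, he, rfl⟩ := List.mem_map.1 hc
      exact key a List.mem_cons_self e he
    show ((es.map _).map g).sum = _
    rw [List.map_congr_left hc, List.map_const', List.sum_replicate, List.length_map]

/-- The sum of the conjugates of a coordinate under the powers of a permutation. -/
noncomputable def orbitSum (ρ : Equiv.Perm GolayPt) (w : ℕ) : ℕ → ℕ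
  | 0 => 0
  | n + 1 => orbitSum ρ w n ^^^ actP (ρ ^ n) w

theorem ee_pow {ρ : Equiv.Perm GolayPt} (hρ : ρ ∈ M24) (w : ℕ) :
    ∀ n : ℕ, C.ee w ρ ^ n = C.ee (orbitSum ρ w n) (ρ ^ n)
  | 0 => by rw [pow_zero, pow_zero, orbitSum, C.ee_zero_one]
  | n + 1 => by
    rw [pow_succ, ee_pow hρ w n, C.ee_mul (pow_mem hρ n) hρ, orbitSum, pow_succ]

theorem orbitSum_lt {ρ : Equiv.Perm GolayPt} (w : ℕ) : ∀ n, orbitSum ρ w n < 2048
  | 0 => by simp [orbitSum]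
  | n + 1 => Nat.xor_lt_two_pow (n := 11) (orbitSum_lt w n) (actP_lt' _ _)

/-- **When is an element of `V` a power of a product.** -/
theorem mem_zpowers_ee {x : ℕ} (hx : x < 2048) (hx0 : x ≠ 0) {ρ : Equiv.Perm GolayPt}
    (hρ : ρ ∈ M24) (w : ℕ) {d : ℕ} (hd : ρ ^ d = 1) (hd0 : 0 < d)
    (hmin : ∀ j, 0 < j → j < d → ρ ^ j ≠ 1) :
    C.vv x ∈ Subgroup.zpowers (C.ee w ρ) ↔ orbitSum ρ w d = x := by
  constructor
  · intro h
    obtain ⟨n, hn⟩ := mem_powers_iff_mem_zpowers.2 h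
    simp only at hn
    rw [C.ee_pow hρ, ← C.ee_one x] at hn
    obtain ⟨h1, h2⟩ := C.ee_inj (pow_mem hρ n) (one_mem _) (orbitSum_lt _ _) hx hn
    have hdn : d ∣ n := by
      rcases Nat.eq_zero_or_pos (n % d) with h0 | h0
      · exact Nat.dvd_of_mod_eq_zero h0
      · refine absurd ?_ (hmin _ h0 (Nat.mod_lt _ hd0))
        rw [← Nat.mod_add_div n d, pow_add, pow_mul, hd, one_pow, mul_one] at h2
        exact h2
    obtain ⟨m, rfl⟩ := hdn
    have hp : C.ee w ρ ^ d = C.vv (orbitSum ρ w d) := by rw [C.ee_pow hρ, hd, C.ee_one]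
    have hm : C.ee w ρ ^ (d * m) = C.vv x := by
      rw [C.ee_pow hρ, h1, h2, C.ee_one]
    rw [pow_mul, hp] at hm
    rcases Nat.even_or_odd m with ⟨k, rfl⟩ | ⟨k, rfl⟩
    · rw [← two_mul, pow_mul, pow_two, C.vv_sq, one_pow, ← C.vv_zero] at hm
      exact absurd (C.vv_inj (by norm_num) hx hm).symm hx0
    · rw [pow_succ, pow_mul, pow_two, C.vv_sq, one_pow, one_mul] at hm
      exact C.vv_inj (orbitSum_lt _ _) hx hm
  · intro h
    refine ⟨(d : ℤ), ?_⟩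
    show C.ee w ρ ^ (d : ℤ) = _
    rw [zpow_natCast, C.ee_pow hρ, h, hd, C.ee_one]

end Cfsg.Agent.J4Type.TwoTen.Ctx
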