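/-
The finite fact behind `Setting.isConj_of_no_common`, read off from the 79 pairs of involutions (helper3).

* `stab_xT` : the stabiliser of the coordinate of the duad is `pairStab`
* `noCommonFact` : two involutions of the duad stabiliser without common hexad are both outer without fixed
  points, or an inner and such an outer one repaired by the fifth power of the product
-/
import Cfsg.Agent.Lib.J4Type.Order.InvT
import Cfsg.Agent.Lib.J4Type.Order.NoCommon

set_option autoImplicit false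
set_option maxRecDepth 100000
set_option exponentiation.threshold 4096
open scoped Pointwise
open Cfsg Cfsg.Agent.Golay Cfsg.Agent.J4Type.TwoTen

namespace Cfsg.Agent.J4Type.Order

/-- The masks of the hexads. -/
def hexMasks : List ℕ := [
    0x800c75, 0x80254b, 0x805e09, 0x8081b3, 0x80a88d, 0x814585, 0x81b301, 0x81c843, 0x821253,
    0x82402f, 0x826911, 0x8320e1, 0x838419, 0x841907, 0x843039, 0x846245, 0x8494c1, 0x85028b,
    0x860721, 0x882691, 0x888269, 0x88d015, 0x891423, 0x8a1189, 0x8b0a05, 0x8c48a1, 0x8d0151,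
    0x8ea003, 0x900bc1, 0x907083, 0x908607, 0x91104d, 0x914231, 0x929821, 0x94c109, 0x952c01,
    0x960095, 0x98081b, 0x982125, 0x9a4441, 0xa0031d, 0xa02a23, 0xa05161, 0xa11891, 0xa23405,
    0xa2c281, 0xa44413, 0xa58025, 0xa60849, 0xa800c7, 0xa88d01, 0xa96009, 0xb004a9, 0xb0a051,
    0xb30103, 0xbc1201, 0xc012a5, 0xc040d9, 0xc0e421, 0xc10929, 0xc12017, 0xc20c83, 0xc28145,
    0xc48a11, 0xc75001, 0xc83841, 0xc84303, 0xcc040d, 0xd01511, 0xd22209, 0xd40063, 0xd98081,
    0xe0900b, 0xe10641, 0xe42181, 0xea0031, 0xf04805]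

theorem hexMasks_ok : (hexMasks.all fun m =>
    (isCode m && popcount m == 8) && m.testBit 23 && m.testBit 0) = true := by decide +kernel

theorem hexOct_of_mem {m : ℕ} (hm : m ∈ hexMasks) : HexOct (pts m) := by
  have h := List.all_eq_true.1 hexMasks_ok m hm
  simp only [Bool.and_eq_true] at h
  refine ⟨pts_mem_octads (by simp [h.1.1.1, h.1.1.2]), ?_, ?_⟩ <;> rw [mem_pts]
  · exact h.1.2
  · exact h.2

/-- The fixed hexad test. -/
def comC (d e : ℕ) : Bool := hexMasks.any fun m => imgMask d m == m && imgMask e m == m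

/-- The test for an outer code without fixed points. -/
def outC (d : ℕ) : Bool := fn d 23 != 23 && (List.range 24).all fun i => fn d i != i

/-- The code of a power. -/
def powC (d : ℕ) : ℕ → ℕ
  | 0 => idCode
  | n + 1 => comp d (powC d n)

/-- The repair test. -/
def repC (d e : ℕ) : Bool :=
  fn d 23 == 23 && outC e && ((List.range 24).all fun i => fn (powC (comp d e) 10) i == i) &&
    validPerm (comp d (powC (comp d e) 5)) && comC d (comp d (powC (comp d e) 5))

/-- The test of a pair. -/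
def pairC (d e : ℕ) : Bool :=
  validPerm d && validPerm e &&
    (d == idCode || e == idCode || comC d e || (outC d && outC e) || repC d e || repC e d)

theorem table_ok : (tabsT.flatten.all fun r => pairC r.2.1 r.2.2) = true := by decide +kernel

theorem comC_sound {d e : ℕ} (hd : validPerm d = true) (he : validPerm e = true) (h : comC d e = true) :
    CommonHexad (toPerm d) (toPerm e) := by
  obtain ⟨m, hm, h'⟩ := List.any_eq_true.1 h
  simp only [Bool.and_eq_true, beq_iff_eq] at h'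
  exact ⟨_, hexOct_of_mem hm, by rw [← pts_imgMask hd, h'.1], by rw [← pts_imgMask he, h'.2]⟩

theorem outC_sound {d : ℕ} (hd : validPerm d = true) (h : outC d = true) : OuterFree (toPerm d) := by
  simp only [outC, Bool.and_eq_true, List.all_eq_true, bne_iff_ne, List.mem_range] at h
  exact ⟨fun e => h.1 ((idx_toPerm hd pA).symm.trans (congrArg idx e)),
    fun x hx => h.2 _ (idx_lt x) ((idx_toPerm hd x).symm.trans (congrArg idx hx))⟩

theorem cod_powC {d : ℕ} {σ : Equiv.Perm GolayPt} (h : Cod d σ) : ∀ n, Cod (powC d n) (σ ^ n)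
  | 0 => by rw [pow_zero]; exact cod_idCode
  | n + 1 => by rw [pow_succ']; exact h.comp (cod_powC h n)

theorem repC_sound {d e : ℕ} (hd : validPerm d = true) (he : validPerm e = true) (h : repC d e = true) :
    Repairs (toPerm d) (toPerm e) := by
  simp only [repC, Bool.and_eq_true, List.all_eq_true, beq_iff_eq, List.mem_range] at h
  obtain ⟨⟨⟨⟨hin, hout⟩, h10⟩, hv⟩, hcom⟩ := h
  have hc := (cod_toPerm hd).comp (cod_toPerm he)
  refine ⟨idx_injective ((idx_toPerm hd pA).trans hin), outC_sound he hout, ?_, ?_⟩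
  · refine Equiv.ext fun p => idx_injective ?_
    rw [cod_powC hc 10 p, h10 _ (idx_lt p)]
    rfl
  · rw [((cod_toPerm hd).comp (cod_powC hc 5)).inj (cod_toPerm hv)]
    exact comC_sound hd hv hcom

theorem pairStab_le_stab : pairStab ≤ Stab xT := fun g hg => by
  refine (mem_Stab (by rw [xT_eq]; exact q_lt _)).2 ⟨(mem_pairStab.1 hg).1, ?_⟩
  rw [xT_eq, actP_pair (mem_pairStab.1 hg).1 (by norm_num) (by norm_num),
    show pt 23 = pA from rfl, show pt 0 = pB from rfl]
  rcases (mem_pairStab.1 hg).2 with ⟨h1, h2⟩ | ⟨h1, h2⟩ <;> rw [h1, h2]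
  · rfl
  · rw [Nat.xor_comm]; rfl

theorem stab_xT : Stab xT = pairStab := by
  symm
  refine Subgroup.eq_of_le_of_card_ge pairStab_le_stab ?_
  rw [natCard_pairStab]
  exact Cover.card_le covT_order

theorem HexOct_smul_iff {γ σ : Equiv.Perm GolayPt} {o : Finset GolayPt} (h : σ • o = o) :
    (γ * σ * γ⁻¹) • γ • o = γ • o := by
  rw [smul_smul, inv_mul_cancel_right, mul_smul, h]

theorem CommonHexad.conj {γ σ τ : Equiv.Perm GolayPt} (hγ : γ ∈ pairStab) (h : CommonHexad σ τ) :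
    CommonHexad (γ * σ * γ⁻¹) (γ * τ * γ⁻¹) := by
  obtain ⟨o, ho, h1, h2⟩ := h
  exact ⟨γ • o, ho.smul hγ, HexOct_smul_iff h1, HexOct_smul_iff h2⟩

theorem inner_conj {γ σ : Equiv.Perm GolayPt} (hγ : γ ∈ pairStab) (hσ : σ ∈ pairStab) (h : σ pA = pA) :
    (γ * σ * γ⁻¹) pA = pA := by
  have hB : σ pB = pB := by
    rcases (mem_pairStab.1 hσ).2 with ⟨-, e⟩ | ⟨e, -⟩
    · exact e
    · exact absurd (h.symm.trans e) pA_ne_pB
  rw [Equiv.Perm.mul_apply, Equiv.Perm.mul_apply]
  rcases (mem_pairStab.1 (inv_mem hγ)).2 with ⟨e, -⟩ | ⟨e, -⟩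
  · rw [e, h]; nth_rewrite 1 [← e]; simp
  · rw [e, hB]; nth_rewrite 1 [← e]; simp

theorem Repairs.conj {γ σ τ : Equiv.Perm GolayPt} (hγ : γ ∈ pairStab) (hσ : σ ∈ pairStab) (hτ : τ ∈ pairStab)
    (h : Repairs σ τ) : Repairs (γ * σ * γ⁻¹) (γ * τ * γ⁻¹) := by
  obtain ⟨h1, h2, h3, h4⟩ := h
  refine ⟨inner_conj hγ hσ h1, h2.conj hγ hτ, ?_, ?_⟩
  · rw [conj_mul, conj_pow, h3, mul_one, mul_inv_cancel]
  · rw [conj_mul, conj_pow, conj_mul]
    exact h4.conj hγ

/-- **The finite fact.** -/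
theorem noCommonFact : NoCommonFact := by
  let Q : Equiv.Perm GolayPt → Equiv.Perm GolayPt → Prop := fun σ τ =>
    σ = 1 ∨ τ = 1 ∨ CommonHexad σ τ ∨ (OuterFree σ ∧ OuterFree τ) ∨ Repairs σ τ ∨ Repairs τ σ
  have hK : covT.x = xT := rfl
  have hmem : ∀ {σ}, σ ∈ Invs covT.x → σ ∈ pairStab := fun hσ => by
    rw [← stab_xT, ← hK]; exact (mem_Invs.1 hσ).1
  have himp : ∀ γ ∈ pairStab, ∀ σ ∈ Invs covT.x, ∀ τ ∈ Invs covT.x,
      Q σ τ → Q (γ * σ * γ⁻¹) (γ * τ * γ⁻¹) := by
    intro γ hγ σ hσ τ hτ h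
    rcases h with h | h | h | ⟨h, h'⟩ | h | h
    · exact Or.inl (by rw [h, mul_one, mul_inv_cancel])
    · exact Or.inr (Or.inl (by rw [h, mul_one, mul_inv_cancel]))
    · exact Or.inr (Or.inr (Or.inl (h.conj hγ)))
    · exact Or.inr (Or.inr (Or.inr (Or.inl ⟨h.conj hγ (hmem hσ), h'.conj hγ (hmem hτ)⟩)))
    · exact Or.inr (Or.inr (Or.inr (Or.inr (Or.inl (h.conj hγ (hmem hσ) (hmem hτ))))))
    · exact Or.inr (Or.inr (Or.inr (Or.inr (Or.inr (h.conj hγ (hmem hτ) (hmem hσ))))))
  have hall : ∀ σ ∈ Invs covT.x, ∀ τ ∈ Invs covT.x, Q σ τ := by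
    refine checkedT.forall_pairs Q (fun γ hγ σ hσ τ hτ => ⟨fun h => ?_, fun h => ?_⟩) fun r hr => ?_
    · have := himp γ⁻¹ (by rw [← stab_xT]; exact inv_mem hγ) _ (conj_mem_Invs hγ hσ) _
        (conj_mem_Invs hγ hτ) h
      simpa [mul_assoc] using this
    · exact himp γ (by rw [← stab_xT]; exact hγ) σ hσ τ hτ h
    · have h := List.all_eq_true.1 table_ok r hr
      simp only [pairC, Bool.and_eq_true, Bool.or_eq_true, beq_iff_eq] at h
      obtain ⟨⟨hd, he⟩, h⟩ := h
      rcases h with ((((h | h) | h) | ⟨h, h'⟩) | h) | h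
      · exact Or.inl (by rw [h] at hd ⊢; exact (cod_toPerm hd).inj cod_idCode)
      · exact Or.inr (Or.inl (by rw [h] at he ⊢; exact (cod_toPerm he).inj cod_idCode))
      · exact Or.inr (Or.inr (Or.inl (comC_sound hd he h)))
      · exact Or.inr (Or.inr (Or.inr (Or.inl ⟨outC_sound hd h, outC_sound he h'⟩)))
      · exact Or.inr (Or.inr (Or.inr (Or.inr (Or.inl (repC_sound hd he h)))))
      · exact Or.inr (Or.inr (Or.inr (Or.inr (Or.inr (repC_sound he hd h)))))
  intro p q hp hq hp2 hq2 hp1 hq1 hno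
  have hin : ∀ {σ}, σ ∈ pairStab → σ * σ = 1 → σ ∈ Invs covT.x := fun h1 h2 =>
    mem_Invs.2 ⟨by rw [hK, stab_xT]; exact h1, h2⟩
  rcases hall p (hin hp hp2) q (hin hq hq2) with h | h | h | h
  · exact absurd h hp1
  · exact absurd h hq1
  · exact absurd h hno
  · exact h

end Cfsg.Agent.J4Type.Order
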