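/-
Groups of Janko-four type, order formula: the pair counts in coordinates (helper3).

* `Ctx.ncard_pairSet_t` : the pairs over an element of the second class, inside the normaliser of `V`
* `Ctx.ncard_pairSet_z` : the pairs over a central involution, from those inside one hexad stabiliser
-/
import Cfsg.Agent.Lib.J4Type.Order.Model
import Cfsg.Agent.Lib.J4Type.Order.InvT
import Cfsg.Agent.Lib.J4Type.Order.InvS
import Cfsg.Agent.Lib.J4Type.Order.Formula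
import Cfsg.Agent.Lib.J4Type.Order.Weight
import Cfsg.Agent.Lib.J4Type.Order.NoCommonFin
import Cfsg.Agent.Lib.J4Type.TwoTenNorm

set_option autoImplicit false
set_option linter.style.haveILetI false

open scoped Pointwise
open Cfsg Cfsg.Agent.Golay Cfsg.Agent.J4Type Cfsg.Agent.J4Type.TwoTen
open Cfsg.Agent.J4Type.Order (pairSet OuterFree CommonHexad xT xS)

namespace Cfsg.Agent.J4Type.TwoTen.Ctx

variable {G : Type*} [Group G] [Finite G] (C : Ctx G)

local notation "NV" => Subgroup.normalizer (C.D.V : Set G)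

theorem orderOf_of_conj_t {a : G} (h : IsConj C.D.t a) : orderOf a = 2 := by
  haveI : Fact (Nat.Prime 2) := ⟨Nat.prime_two⟩
  rw [← Involution.orderOf_eq_of_isConj h]
  exact orderOf_eq_prime (by rw [pow_two, C.D.sq_one C.D.t_mem]) C.D.t_ne_one

theorem orderOf_of_conj_z {a : G} (h : IsConj C.z a) : orderOf a = 2 := by
  haveI : Fact (Nat.Prime 2) := ⟨Nat.prime_two⟩
  rw [← Involution.orderOf_eq_of_isConj h, Involution.orderOf_eq_of_isConj C.s_conj]
  exact orderOf_eq_prime (by rw [pow_two, C.D.sq_one C.D.s_mem]) C.D.s_ne_one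

theorem mul_self_of_order {a : G} (h : orderOf a = 2) : a * a = 1 := by
  rw [← pow_two, ← h, pow_orderOf_eq_one]

open Classical in
/-- **The pairs over an element of the second class.** -/
theorem ncard_pairSet_t (hC : Subgroup.centralizer ({C.vv xT} : Set G) ≤ NV) :
    (pairSet C.z C.D.t (C.vv xT)).ncard = ∑ u ∈ C.invPart xT, ∑ v ∈ C.invPart xT,
      (if IsConj C.z u ∧ IsConj C.D.t v ∧ C.vv xT ∈ Subgroup.zpowers (u * v) then 1 else 0) := by
  rw [← Finset.sum_product', ← Finset.card_filter, ← Set.ncard_coe_finset]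
  congr 1
  ext ⟨u, v⟩
  simp only [Finset.coe_filter, Set.mem_setOf_eq, Finset.mem_product, C.mem_invPart, pairSet]
  constructor
  · rintro ⟨hu, hv, cu, cv, hx⟩
    exact ⟨⟨⟨hC (Subgroup.mem_centralizer_singleton_iff.2 cu), cu,
      mul_self_of_order (C.orderOf_of_conj_z hu)⟩, hC (Subgroup.mem_centralizer_singleton_iff.2 cv), cv,
      mul_self_of_order (C.orderOf_of_conj_t hv)⟩, hu, hv, hx⟩
  · rintro ⟨⟨⟨-, cu, -⟩, -, cv, -⟩, hu, hv, hx⟩
    exact ⟨hu, hv, cu, cv, hx⟩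

variable {P : Subgroup G} (S : Setting (C.vv xS) P) {o : Finset GolayPt} (ho : HexOct o)

include ho in
open Classical in
/-- **The pairs over a central involution.** -/
theorem ncard_pairSet_z
    (hX : ∀ u : ↥(Cz (C.vv xS)), (u : G) ∈ NV ↔ S.κ u ∈ stabO o)
    (hi : ∀ u v : ↥(Cz (C.vv xS)), (u : G) ∈ NV → (v : G) ∈ NV → orderOf u = 2 → orderOf v = 2 →
      OuterFree (S.κ u) → OuterFree (S.κ v) → IsConj (u : G) (v : G))
    (hii : ∀ u v : ↥(Cz (C.vv xS)), (u : G) ∈ NV → (v : G) ∈ NV → orderOf u = 2 → orderOf v = 2 →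
      S.κ u ≠ 1 → S.κ u pA = pA → OuterFree (S.κ v) → S.κ u * S.κ v = S.κ v * S.κ u → CommonHexad (S.κ u) (S.κ v) →
      C.vv xS ∈ Subgroup.zpowers ((u : G) * (v : G)) → IsConj (u : G) (v : G))
    (fc : G → G → ℕ)
    (hfc : ∀ u v : ↥(Cz (C.vv xS)), (u : G) ∈ C.invPart xS → (v : G) ∈ C.invPart xS →
      fc u v = S.fixCount u v)
    (hdvd : ∀ u ∈ C.invPart xS, ∀ v ∈ C.invPart xS, IsConj C.z u → IsConj C.D.t v →
      C.vv xS ∈ Subgroup.zpowers (u * v) → fc u v ∣ 90090 ∨ fc u v = 0) :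
    90090 * (pairSet C.z C.D.t (C.vv xS)).ncard = 77 * ∑ u ∈ C.invPart xS, ∑ v ∈ C.invPart xS,
      (if IsConj C.z u ∧ IsConj C.D.t v ∧ C.vv xS ∈ Subgroup.zpowers (u * v) then
        (if fc u v = 0 then 0 else 90090 / fc u v) else 0) := by
  haveI := Fintype.ofFinite G
  have hxc : ∀ g : ↥(Cz (C.vv xS)), (g : G) * (C.vv xS) * (g : G)⁻¹ = (C.vv xS) := fun g => by
    rw [mem_Cz.1 g.2, mul_inv_cancel_right]
  have hmem : ∀ w : ↥(Cz (C.vv xS)), S.κ w ∈ pairStab := fun w => S.κ_range ▸ ⟨w, rfl⟩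
  -- conjugation in the centraliser
  have hord : ∀ g u : ↥(Cz (C.vv xS)), orderOf u = 2 → orderOf (g * u * g⁻¹) = 2 := fun g u hu =>
    (orderOf_injective (MulAut.conj g).toMonoidHom (MulAut.conj g).injective u).trans hu
  have hcj : ∀ g u : ↥(Cz (C.vv xS)), IsConj (u : G) ((g * u * g⁻¹ : ↥(Cz (C.vv xS))) : G) := fun g u =>
    isConj_iff.2 ⟨(g : G), rfl⟩
  have hzp : ∀ g u v : ↥(Cz (C.vv xS)), (C.vv xS) ∈ Subgroup.zpowers ((u : G) * (v : G)) →
      (C.vv xS) ∈ Subgroup.zpowers (((g * u * g⁻¹ : ↥(Cz (C.vv xS))) : G) * ((g * v * g⁻¹ : ↥(Cz (C.vv xS))) : G)) := by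
    intro g u v h
    obtain ⟨k, hk⟩ := Subgroup.mem_zpowers_iff.1 h
    refine Subgroup.mem_zpowers_iff.2 ⟨k, ?_⟩
    rw [show ((g * u * g⁻¹ : ↥(Cz (C.vv xS))) : G) * ((g * v * g⁻¹ : ↥(Cz (C.vv xS))) : G) =
      (g : G) * ((u : G) * (v : G)) * (g : G)⁻¹ by simp [mul_assoc], conj_zpow, hk, hxc]
  -- moving a fixed hexad to the chosen one
  have hmove : ∀ {o' : Finset GolayPt}, HexOct o' → ∃ g : ↥(Cz (C.vv xS)), ∀ u : ↥(Cz (C.vv xS)),
      S.κ u • o' = o' → ((g * u * g⁻¹ : ↥(Cz (C.vv xS))) : G) ∈ NV := by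
    intro o' ho'
    obtain ⟨γ, hγ, hγo⟩ := Order.exists_smul_hexOct ho' ho
    obtain ⟨g, hg⟩ : γ ∈ S.κ.range := S.κ_range ▸ hγ
    refine ⟨g, fun u hu => (hX _).2 ⟨hmem _, ?_⟩⟩
    show S.κ (g * u * g⁻¹) • o = o
    rw [← hγo, map_mul, map_mul, map_inv, hg]
    exact Order.HexOct_smul_iff hu
  -- the fusion facts on the whole centraliser
  have hi' : ∀ u v : ↥(Cz (C.vv xS)), orderOf u = 2 → orderOf v = 2 → OuterFree (S.κ u) → OuterFree (S.κ v) →
      IsConj (u : G) (v : G) := by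
    intro u v hu hv fu fv
    have hk : ∀ {w : ↥(Cz (C.vv xS))}, orderOf w = 2 → S.κ w * S.κ w = 1 := fun {w} hw => by
      rw [← map_mul, ← pow_two, ← hw, pow_orderOf_eq_one, map_one]
    obtain ⟨o₁, ho₁, h₁⟩ := Order.exists_hexad_of_involution (hmem u) (hk hu)
    obtain ⟨o₂, ho₂, h₂⟩ := Order.exists_hexad_of_involution (hmem v) (hk hv)
    obtain ⟨g₁, hg₁⟩ := hmove ho₁
    obtain ⟨g₂, hg₂⟩ := hmove ho₂
    have hf : ∀ g w : ↥(Cz (C.vv xS)), OuterFree (S.κ w) → OuterFree (S.κ (g * w * g⁻¹)) := fun g w h => by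
      rw [map_mul, map_mul, map_inv]; exact h.conj (hmem g) (hmem w)
    exact ((hcj g₁ u).trans (hi _ _ (hg₁ u h₁) (hg₂ v h₂) (hord g₁ u hu) (hord g₂ v hv) (hf g₁ u fu)
      (hf g₂ v fv))).trans (hcj g₂ v).symm
  have hii' : ∀ u v : ↥(Cz (C.vv xS)), orderOf u = 2 → orderOf v = 2 → S.κ u ≠ 1 →
      S.κ u pA = pA → OuterFree (S.κ v) →
      S.κ u * S.κ v = S.κ v * S.κ u → CommonHexad (S.κ u) (S.κ v) →
      (C.vv xS) ∈ Subgroup.zpowers ((u : G) * (v : G)) → IsConj (u : G) (v : G) := by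
    intro u v hu hv u1 iu fv hc hcom hz
    obtain ⟨o', ho', h₁, h₂⟩ := id hcom
    obtain ⟨g, hg⟩ := hmove ho'
    refine ((hcj g u).trans (hii _ _ (hg u h₁) (hg v h₂) (hord g u hu) (hord g v hv) ?_ ?_ ?_ ?_ ?_
      (hzp g u v hz))).trans (hcj g v).symm
    · rw [map_mul, map_mul, map_inv, ne_eq, conj_eq_one_iff]; exact u1
    · rw [map_mul, map_mul, map_inv]; exact Order.inner_conj (hmem g) (hmem u) iu
    · rw [map_mul, map_mul, map_inv]; exact fv.conj (hmem g) (hmem v)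
    · simp only [map_mul, map_inv]
      rw [conj_mul, conj_mul, hc]
    · simp only [map_mul, map_inv]
      exact hcom.conj (hmem g)
  -- the pairs inside the centraliser
  set s : Finset (↥(Cz (C.vv xS)) × ↥(Cz (C.vv xS))) := Finset.univ.filter fun p =>
    IsConj C.z (p.1 : G) ∧ IsConj C.D.t (p.2 : G) ∧ (C.vv xS) ∈ Subgroup.zpowers ((p.1 : G) * (p.2 : G)) with hsdef
  have hmems : ∀ p, p ∈ s ↔ IsConj C.z (p.1 : G) ∧ IsConj C.D.t (p.2 : G) ∧
      (C.vv xS) ∈ Subgroup.zpowers ((p.1 : G) * (p.2 : G)) := fun p => by simp [hsdef]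
  have hs : ∀ g : ↥(Cz (C.vv xS)), ∀ p ∈ s, (g * p.1 * g⁻¹, g * p.2 * g⁻¹) ∈ s := fun g p hp => by
    obtain ⟨h1, h2, h3⟩ := (hmems p).1 hp
    exact (hmems _).2 ⟨h1.trans (hcj g p.1), h2.trans (hcj g p.2), hzp g _ _ h3⟩
  have hpos : ∀ p ∈ s, 0 < S.fixCount p.1 p.2 := by
    intro p hp
    obtain ⟨h1, h2, h3⟩ := (hmems p).1 hp
    rw [S.fixCount_pos_iff]
    by_contra hno
    have h := S.isConj_of_no_common Order.noCommonFact hi' hii'
      (by rw [← Subgroup.orderOf_coe]; exact C.orderOf_of_conj_z h1)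
      (by rw [← Subgroup.orderOf_coe]; exact C.orderOf_of_conj_t h2) h3 hno
    exact C.t_not ((h1.trans h).trans h2.symm)
  have hdiv : ∀ p ∈ s, S.fixCount p.1 p.2 ∣ 90090 := by
    intro p hp
    obtain ⟨o', ho', h₁, h₂⟩ := (S.fixCount_pos_iff _ _).1 (hpos p hp)
    obtain ⟨g, hg⟩ := hmove ho'
    have hq := hs g p hp
    obtain ⟨k1, k2, k3⟩ := (hmems _).1 hq
    have m1 : ((g * p.1 * g⁻¹ : ↥(Cz (C.vv xS))) : G) ∈ C.invPart xS := C.mem_invPart.2
      ⟨hg _ h₁, mem_Cz.1 (g * p.1 * g⁻¹).2, mul_self_of_order (C.orderOf_of_conj_z k1)⟩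
    have m2 : ((g * p.2 * g⁻¹ : ↥(Cz (C.vv xS))) : G) ∈ C.invPart xS := C.mem_invPart.2
      ⟨hg _ h₂, mem_Cz.1 (g * p.2 * g⁻¹).2, mul_self_of_order (C.orderOf_of_conj_t k2)⟩
    have h := hdvd _ m1 _ m2 k1 k2 k3
    rw [hfc _ _ m1 m2, S.fixCount_conj] at h
    exact h.resolve_right (hpos p hp).ne'
  have hcount : (pairSet C.z C.D.t (C.vv xS)).ncard = s.card := by
    rw [← Set.ncard_coe_finset]
    symm
    refine Set.ncard_congr (fun p _ => ((p.1 : G), (p.2 : G))) ?_ ?_ ?_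
    · intro p hp
      obtain ⟨h1, h2, h3⟩ := (hmems p).1 hp
      exact ⟨h1, h2, mem_Cz.1 p.1.2, mem_Cz.1 p.2.2, h3⟩
    · intro a b _ _ e
      simp only [Prod.mk.injEq] at e
      exact Prod.ext (Subtype.ext e.1) (Subtype.ext e.2)
    · rintro ⟨u, v⟩ ⟨h1, h2, c1, c2, h3⟩
      exact ⟨(⟨u, mem_Cz.2 c1⟩, ⟨v, mem_Cz.2 c2⟩), (hmems _).2 ⟨h1, h2, h3⟩, rfl⟩
  calc 90090 * (pairSet C.z C.D.t (C.vv xS)).ncard
      = ∑ p ∈ s.filter (fun p => 0 < S.fixCount p.1 p.2),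
          S.fixCount p.1 p.2 * (90090 / S.fixCount p.1 p.2) := by
        rw [Finset.filter_true_of_mem hpos, Finset.sum_congr rfl fun p hp => Nat.mul_div_cancel' (hdiv p hp),
          Finset.sum_const, smul_eq_mul, hcount, mul_comm]
    _ = 77 * ∑ p ∈ s.filter (fun p => S.κ p.1 ∈ stabO o ∧ S.κ p.2 ∈ stabO o),
          90090 / S.fixCount p.1 p.2 :=
        S.sum_fixCount_mul ho s hs (fun u v => 90090 / S.fixCount u v) fun g p _ => by
          simp only [S.fixCount_conj]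
    _ = _ := by
        congr 1
        rw [← Finset.sum_product']
        have hf : ∀ (t : Finset (G × G)) (g : G × G → ℕ),
            (∑ q ∈ t, if IsConj C.z q.1 ∧ IsConj C.D.t q.2 ∧ C.vv xS ∈ Subgroup.zpowers (q.1 * q.2)
              then g q else 0) = ∑ q ∈ t.filter (fun q => IsConj C.z q.1 ∧ IsConj C.D.t q.2 ∧
                C.vv xS ∈ Subgroup.zpowers (q.1 * q.2)), g q := fun t g => by
          rw [Finset.sum_filter]
        refine Eq.trans ?_ (Eq.trans (hf _ fun q => if fc q.1 q.2 = 0 then 0 else 90090 / fc q.1 q.2).symm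
          (Finset.sum_congr rfl fun q _ => by split_ifs <;> rfl))
        refine Finset.sum_bij (fun p _ => ((p.1 : G), (p.2 : G))) ?_ ?_ ?_ ?_
        · intro p hp
          obtain ⟨hp, hp1, hp2⟩ := Finset.mem_filter.1 hp
          obtain ⟨h1, h2, h3⟩ := (hmems p).1 hp
          exact Finset.mem_filter.2 ⟨Finset.mem_product.2
            ⟨C.mem_invPart.2 ⟨(hX _).2 hp1, mem_Cz.1 p.1.2, mul_self_of_order (C.orderOf_of_conj_z h1)⟩,
              C.mem_invPart.2 ⟨(hX _).2 hp2, mem_Cz.1 p.2.2, mul_self_of_order (C.orderOf_of_conj_t h2)⟩⟩,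
            h1, h2, h3⟩
        · intro a _ b _ e
          simp only [Prod.mk.injEq] at e
          exact Prod.ext (Subtype.ext e.1) (Subtype.ext e.2)
        · rintro ⟨u, v⟩ hq
          obtain ⟨hq, h1, h2, h3⟩ := Finset.mem_filter.1 hq
          obtain ⟨⟨nu, cu, -⟩, ⟨nv, cv, -⟩⟩ := (Finset.mem_product.1 hq).imp C.mem_invPart.1 C.mem_invPart.1
          exact ⟨(⟨u, mem_Cz.2 cu⟩, ⟨v, mem_Cz.2 cv⟩), Finset.mem_filter.2
            ⟨(hmems _).2 ⟨h1, h2, h3⟩, (hX ⟨u, mem_Cz.2 cu⟩).1 nu, (hX ⟨v, mem_Cz.2 cv⟩).1 nv⟩, rfl⟩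
        · intro p hp
          obtain ⟨hp, hp1, hp2⟩ := Finset.mem_filter.1 hp
          obtain ⟨h1, h2, -⟩ := (hmems p).1 hp
          have m1 : (p.1 : G) ∈ C.invPart xS :=
            C.mem_invPart.2 ⟨(hX _).2 hp1, mem_Cz.1 p.1.2, mul_self_of_order (C.orderOf_of_conj_z h1)⟩
          have m2 : (p.2 : G) ∈ C.invPart xS :=
            C.mem_invPart.2 ⟨(hX _).2 hp2, mem_Cz.1 p.2.2, mul_self_of_order (C.orderOf_of_conj_t h2)⟩
          rw [hfc _ _ m1 m2, if_neg (hpos p hp).ne']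

end Cfsg.Agent.J4Type.TwoTen.Ctx
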