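import Cfsg.Agent.Lib.J4Type.Order.Totals
import Cfsg.Agent.Lib.J4Type.Order.Supply
import Cfsg.Agent.Lib.J4Type.Order.Transfer
import Cfsg.Agent.Lib.J4Type.Order.Formula
import Cfsg.Agent.Lib.J4Type.Order.Wiring

/-!
Groups of Janko-four type: the order (helper86, assembling the order formula of helper43).

* `Ctx.base_iff`, `Ctx.ncard_at` : the pairs over the second representative
* `natCard_of_az` : the order, given the pairs over the first representative
-/

set_option autoImplicit false
set_option maxRecDepth 100000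
open Cfsg Cfsg.Agent.Golay Cfsg.Agent.J4Type Cfsg.Agent.J4Type.TwoTen

namespace Cfsg.Agent.J4Type.Order

theorem base_facts : ∀ l < 4, let c := baseCode (kindOf l)
    labD.baseA l < 2048 ∧ act c (labD.baseA l) = labD.baseA l ∧
      (∀ i < 24, fn c (fn c i) = i) ∧ ∃ i < 24, fn c i ≠ i := by decide +kernel

variable {G : Type*} [Group G] [Finite G] (C : TwoTen.Ctx G)

theorem orderOf_baseElt {l : ℕ} (hl : l < 4) : orderOf (C.baseElt labD l) = 2 := by
  obtain ⟨ha, haf, hsq, i, hi, hne⟩ := base_facts l hl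
  have hv := validPerm_of_isAut (baseCode_aut (kindOf l))
  set σ := toPerm (baseCode (kindOf l)) with hσ
  have hM : σ ∈ M24 := toPerm_mem_M24 (baseCode_aut (kindOf l))
  have h2 : σ * σ = 1 := Equiv.ext fun p => idx_injective (by
    rw [Equiv.Perm.mul_apply, hσ, idx_toPerm hv, idx_toPerm hv, hsq _ (idx_lt p),
      Equiv.Perm.one_apply])
  have h1 : σ ≠ 1 := fun e => hne (by
    have := idx_toPerm hv (pt i)
    rw [← hσ, e, Equiv.Perm.one_apply, idx_pt hi] at this
    exact this.symm)
  have : Fact (Nat.Prime 2) := ⟨Nat.prime_two⟩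
  refine orderOf_eq_prime ?_ fun e => h1 ?_
  · rw [pow_two]
    exact (C.ee_sq hM ha).2 ⟨h2, (actP_toPerm hv _).trans haf⟩
  · exact (C.ee_inj hM (one_mem _) ha (by norm_num) (e.trans C.ee_zero_one.symm)).2

/-- The classes of the six base elements, by the types of the first four. -/
theorem base_iff (a b c d : Bool)
    (h : ∀ l < 4, IsConj C.z (C.baseElt labD l) ↔ [a, b, c, d].getD l false = true) :
    (∀ l < 6, IsConj C.z (C.baseElt labD l) ↔
      (([a, b, c, d] ++ [true, false, false]).getD l false) = true) ∧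
    (∀ l < 6, IsConj C.D.t (C.baseElt labD l) ↔
      (!(([a, b, c, d] ++ [true, false, true]).getD l true)) = true) := by
  have h4 : C.baseElt labD 4 = C.vv xS := by
    rw [TwoTen.Ctx.baseElt, show baseCode (kindOf 4) = idCode from rfl, cod_idCode.toPerm_eq, C.ee_one]
    rfl
  have h5 : C.baseElt labD 5 = C.vv xT := by
    rw [TwoTen.Ctx.baseElt, show baseCode (kindOf 5) = idCode from rfl, cod_idCode.toPerm_eq, C.ee_one]
    rfl
  have hS := Supply.conj_xS C
  have hT := Supply.conj_xT C
  refine ⟨fun l hl => ?_, fun l hl => ?_⟩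
  · by_cases h' : l < 4
    · rw [h l h']
      interval_cases l <;> rfl
    · interval_cases l
      · rw [h4]; exact iff_of_true hS rfl
      · simp only [h5]
        exact iff_of_false (fun hc => C.t_not (hc.trans hT.symm)) (by simp)
  · by_cases h' : l < 4
    · have hx : IsConj C.D.t (C.baseElt labD l) ↔ ¬ IsConj C.z (C.baseElt labD l) :=
        ⟨fun ht hz => C.t_not (hz.trans ht.symm),
          fun hn => (C.invol _ (orderOf_baseElt C h')).resolve_left hn⟩
      rw [hx, h l h']
      interval_cases l <;> simp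
    · interval_cases l
      · simp only [h4]
        exact iff_of_false (fun hc => C.t_not (hS.trans hc.symm)) (by simp)
      · rw [h5]; exact iff_of_true hT rfl

open Classical in
/-- **The pairs over the second representative.** -/
theorem ncard_at (a b c d : Bool)
    (h : ∀ l < 4, IsConj C.z (C.baseElt labD l) ↔ [a, b, c, d].getD l false = true) :
    (pairSet C.z C.D.t (C.vv xT)).ncard = evalTab (selTypes [a, b, c, d]) totT 0 := by
  obtain ⟨hs1, hs2⟩ := base_iff C a b c d h
  have hconj : ∀ x g u : G, IsConj x (g * u * g⁻¹) ↔ IsConj x u := fun x g u =>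
    ⟨fun hc => hc.trans (isConj_iff.2 ⟨g, rfl⟩).symm, fun hc => hc.trans (isConj_iff.2 ⟨g, rfl⟩)⟩
  have h1 : ∀ x : G, orderOf x = 2 → ¬ IsConj x 1 := fun x hx hc => by
    have := Involution.orderOf_eq_of_isConj hc
    rw [hx, orderOf_one] at this
    omega
  rw [C.ncard_pairSet_t (Supply.centralizer_xT C)]
  exact C.count_eq checkedT (show covT.x ≠ 0 by decide +kernel) rowsT_spec rowsT_ok labD_ok
    (wc := wOne) totT_eq (IsConj C.z) (IsConj C.D.t) (hconj _) (hconj _)
    ⟨h1 _ (C.orderOf_of_conj_z (IsConj.refl _)), h1 _ (C.orderOf_of_conj_t (IsConj.refl _))⟩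
    (fun l => ([a, b, c, d] ++ [true, false, false]).getD l false)
    (fun l => !(([a, b, c, d] ++ [true, false, true]).getD l true))
    ⟨rfl, rfl⟩ hs1 hs2 (fun _ _ => 1) (fun _ _ _ _ _ _ _ => rfl) (fun _ _ _ _ _ _ => rfl)

/-- **The order, given the pairs over the first representative.** -/
theorem natCard_of_az
    (haz : ∀ (P' : Subgroup G), Setting (C.vv xS) P' → ∃ i : Bool, ∀ a b c d : Bool,
      (∀ l < 4, IsConj C.z (C.baseElt labD l) ↔ [a, b, c, d].getD l false = true) →
      90090 * (pairSet C.z C.D.t (C.vv xS)).ncard =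
        77 * evalTab (selTypes [a, b, c, d]) (totZ i) 0)
    {P : Subgroup G} (hJ : Cfsg.IsOfJankoFourTypeWith C.z P) :
    Nat.card G = 86775571046077562880 := by
  classical
  obtain ⟨P', -, ⟨S⟩⟩ := Supply.exists_typeWith_xS C hJ
  obtain ⟨i, hi⟩ := haz P' S
  obtain ⟨f, hf⟩ : ∃ f : ℕ → Bool, ∀ l, IsConj C.z (C.baseElt labD l) ↔ f l = true :=
    ⟨fun l => decide (IsConj C.z (C.baseElt labD l)), fun l => by simp⟩
  have h : ∀ l < 4, IsConj C.z (C.baseElt labD l) ↔ [f 0, f 1, f 2, f 3].getD l false = true :=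
    fun l hl => by rw [hf l]; interval_cases l <;> rfl
  have hN := natCard_eq (C.orderOf_of_conj_z (IsConj.refl _)) (C.orderOf_of_conj_t (IsConj.refl _))
    C.t_not C.invol
  rw [Supply.natCard_Ct C, Supply.natCard_Cz C hJ,
    ncard_pairSet_congr (IsConj.refl C.z) (IsConj.refl C.D.t) (Supply.conj_xS C),
    ncard_pairSet_congr (IsConj.refl C.z) (IsConj.refl C.D.t) (Supply.conj_xT C),
    ncard_at C _ _ _ _ h] at hN
  refine order_unique i _ _ _ _ (hi _ _ _ _ h) hN ?_
  rw [← Supply.natCard_NV C]
  exact Subgroup.card_subgroup_dvd_card _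

end Cfsg.Agent.J4Type.Order
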