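import Cfsg.Agent.Lib.J4Type.Order.CertT
import Cfsg.Agent.Lib.J4Type.Order.CertS0
import Cfsg.Agent.Lib.J4Type.Order.CertS1
import Cfsg.Agent.Lib.J4Type.Order.CertS2
import Cfsg.Agent.Lib.J4Type.Order.CertS3
import Cfsg.Agent.Lib.J4Type.Order.CertS4
import Cfsg.Agent.Lib.J4Type.Order.CertS5
import Cfsg.Agent.Lib.J4Type.Order.CertS6
import Cfsg.Agent.Lib.J4Type.Order.CertS7
import Cfsg.Agent.Lib.J4Type.Order.CertS8
import Cfsg.Agent.Lib.J4Type.Order.CertS9
import Cfsg.Agent.Lib.J4Type.Order.CertS10
import Cfsg.Agent.Lib.J4Type.Order.CertS11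
import Cfsg.Agent.Lib.J4Type.Order.CertS12
import Cfsg.Agent.Lib.J4Type.Order.InvT
import Cfsg.Agent.Lib.J4Type.Order.InvS

/-
Groups of Janko-four type, order formula: the certified totals and the arithmetic that leaves one
order (owner: helper43).

Main results: `rowsT_spec`, `rowsS_spec`, `totT_eq`, `totZ_eq`, `good_hits`, `aux_rows`,
`freeLab_rows`, `order_unique`.
-/

set_option autoImplicit false
set_option maxRecDepth 100000
open Cfsg Cfsg.Agent.Golay Cfsg.Agent.J4Type.TwoTen

namespace Cfsg.Agent.J4Type.Order

theorem labD_ok : labD.ok = true := by decide +kernel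

theorem xS_eq : covS.x = xS := rfl

theorem xT_covT : covT.x = xT := rfl

theorem rowsT_spec : rowsT.map (fun r => (r.w, r.s.code, r.t.code)) = tabsT.flatten := by
  decide +kernel

theorem rowsS_spec : rowsS.map (fun r => (r.w, r.s.code, r.t.code)) = tabsS.flatten := by
  decide +kernel

theorem rowsT_chunks : rowsT = [chunkT0, chunkT1, chunkT2, chunkT3].flatten := rfl

theorem rowsS_chunks : rowsS = [chunkS0, chunkS1, chunkS2, chunkS3, chunkS4, chunkS5, chunkS6, chunkS7, chunkS8, chunkS9, chunkS10, chunkS11, chunkS12].flatten := rfl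

theorem totTab_append (n : ℕ) : ∀ l m : List (ℕ × List ℕ), (∀ e ∈ l ++ m, e.2.length = n) →
    totTab n (l ++ m) = addMul 1 (totTab n l) (totTab n m)
  | [], m, h => by
    have hz : ∀ (t : List ℕ), addMul 1 (List.replicate t.length 0) t = t := by
      intro t
      induction t with
      | nil => rfl
      | cons a t ih => simp [List.replicate_succ, addMul, ih]
    have hl := (totTab_spec (fun _ => false) n m fun e he => h e (by simpa using he)).1
    rw [List.nil_append, totTab]
    conv_lhs => rw [← hz (totTab n m), hl]
  | e :: l, m, h => by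
    have hl := (totTab_spec (fun _ => false) n l fun q hq => h q (by simp [hq])).1
    have hm := (totTab_spec (fun _ => false) n m fun q hq => h q (by simp [hq])).1
    have key : ∀ (k : ℕ) (a b c : List ℕ), a.length = b.length → b.length = c.length →
        addMul k a (addMul 1 b c) = addMul 1 (addMul k a b) c := by
      intro k a
      induction a with
      | nil => intro b c h1 h2; cases b <;> cases c <;> simp_all [addMul]
      | cons x a ih =>
        intro b c h1 h2
        cases b <;> cases c <;> simp_all [addMul]
        omega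
    rw [List.cons_append, totTab, totTab_append n l m (fun q hq => h q (by simp [hq])), totTab,
      key _ _ _ _ ((h e (by simp)).trans hl.symm) (hl.trans hm.symm)]

theorem entry_length {x : ℕ} {masks : ℕ × ℕ} {wc : Seed → Seed → ℕ → ℕ → ℕ} (r : PairRow) :
    (r.entry x masks wc).2.length = 49 :=
  (tabHits_spec (fun _ => false) _ _ 49 _ fun p _ => by
    have := r.s.lab_lt masks p.1
    have := r.t.lab_lt masks p.2
    omega).1

theorem totTab_flatten {x : ℕ} {masks : ℕ × ℕ} {wc : Seed → Seed → ℕ → ℕ → ℕ} :
    ∀ L : List (List PairRow),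
      totTab 49 (L.flatten.map (PairRow.entry x masks wc)) =
        (L.map fun c => totTab 49 (c.map (PairRow.entry x masks wc))).foldr (addMul 1)
          (List.replicate 49 0)
  | [] => rfl
  | c :: L => by
    rw [List.flatten_cons, List.map_append, totTab_append 49 _ _ (fun e he => by
      rcases List.mem_append.1 he with he | he <;>
      · obtain ⟨r, -, rfl⟩ := List.mem_map.1 he
        exact entry_length r), totTab_flatten L, List.map_cons, List.foldr_cons]

/-- The totals over the duad stabiliser. -/
def totT : List ℕ :=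
  [4736160, 376123440, 0, 0, 591360, 84480, 0, 376123440, 2289893760, 0, 0, 4139520, 591360, 0, 0, 0, 0, 1163840832, 0, 0, 0, 0, 0, 1163840832, 0, 0, 0, 0, 591360, 4139520, 0, 0, 1540, 231, 0, 84480, 591360, 0, 0, 231, 44, 1, 0, 0, 0, 0, 0, 1, 0]

/-- The totals over the sextet stabiliser, by candidate. -/
def totZ : Bool → List ℕ
  | false =>
    [256932000, 526377087360, 3116620800, 3116620800, 359769600, 13478400, 0, 526377087360, 24569192527200, 28007312716800, 28011740820480, 3314649600, 359769600, 0, 3116620800, 28007312716800, 3237779468160, 5651688522240, 13715758080, 974177280, 0, 3116620800, 28011740820480, 5651688522240, 3454756548480, 13715758080, 974177280, 0, 359769600, 3314649600, 13715758080, 13715758080, 10084500, 1663200, 1170, 13478400, 359769600, 974177280, 974177280, 1663200, 42120, 0, 0, 0, 0, 0, 1170, 0, 0]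
  | true =>
    [256932000, 526377087360, 3116620800, 3116620800, 359769600, 13478400, 0, 526377087360, 24569192527200, 28011740820480, 28007312716800, 3314649600, 359769600, 0, 3116620800, 28011740820480, 3454756548480, 5651688522240, 13715758080, 974177280, 0, 3116620800, 28007312716800, 5651688522240, 3237779468160, 13715758080, 974177280, 0, 359769600, 3314649600, 13715758080, 13715758080, 10084500, 1663200, 1170, 13478400, 359769600, 974177280, 974177280, 1663200, 42120, 0, 0, 0, 0, 0, 1170, 0, 0]

theorem totT_eq : totTab 49 (rowsT.map (PairRow.entry xT labD.masks wOne)) = totT := by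
  rw [rowsT_chunks, totTab_flatten]
  simp only [List.map_cons, List.map_nil]
  rw [show wOne = (fun _ _ _ _ => 1) from rfl, chunkT0_tot, chunkT1_tot, chunkT2_tot, chunkT3_tot]
  decide +kernel

theorem totZ_eq : ∀ i, totTab 49 (rowsS.map (PairRow.entry xS labD.masks (wz i))) = totZ i
  | false => by
    rw [rowsS_chunks, totTab_flatten]
    simp only [List.map_cons, List.map_nil]
    rw [chunkS0c0_tot, chunkS1c0_tot, chunkS2c0_tot, chunkS3c0_tot, chunkS4c0_tot, chunkS5c0_tot, chunkS6c0_tot, chunkS7c0_tot, chunkS8c0_tot, chunkS9c0_tot, chunkS10c0_tot, chunkS11c0_tot, chunkS12c0_tot]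
    decide +kernel
  | true => by
    rw [rowsS_chunks, totTab_flatten]
    simp only [List.map_cons, List.map_nil]
    rw [chunkS0c1_tot, chunkS1c1_tot, chunkS2c1_tot, chunkS3c1_tot, chunkS4c1_tot, chunkS5c1_tot, chunkS6c1_tot, chunkS7c1_tot, chunkS8c1_tot, chunkS9c1_tot, chunkS10c1_tot, chunkS11c1_tot, chunkS12c1_tot]
    decide +kernel

theorem rowsT_ok : ∀ r ∈ rowsT, r.ok xT = true := by
  intro r hr
  rw [rowsT_chunks] at hr
  simp only [List.flatten_cons, List.flatten_nil, List.mem_append, List.not_mem_nil, or_false] at hr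
  rcases hr with hr | hr | hr | hr
  · exact List.all_eq_true.1 chunkT0_ok r hr
  · exact List.all_eq_true.1 chunkT1_ok r hr
  · exact List.all_eq_true.1 chunkT2_ok r hr
  · exact List.all_eq_true.1 chunkT3_ok r hr

theorem rowsS_ok : ∀ r ∈ rowsS, r.ok xS = true := by
  intro r hr
  rw [rowsS_chunks] at hr
  simp only [List.flatten_cons, List.flatten_nil, List.mem_append, List.not_mem_nil, or_false] at hr
  rcases hr with hr | hr | hr | hr | hr | hr | hr | hr | hr | hr | hr | hr | hr
  · exact List.all_eq_true.1 chunkS0_ok r hr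
  · exact List.all_eq_true.1 chunkS1_ok r hr
  · exact List.all_eq_true.1 chunkS2_ok r hr
  · exact List.all_eq_true.1 chunkS3_ok r hr
  · exact List.all_eq_true.1 chunkS4_ok r hr
  · exact List.all_eq_true.1 chunkS5_ok r hr
  · exact List.all_eq_true.1 chunkS6_ok r hr
  · exact List.all_eq_true.1 chunkS7_ok r hr
  · exact List.all_eq_true.1 chunkS8_ok r hr
  · exact List.all_eq_true.1 chunkS9_ok r hr
  · exact List.all_eq_true.1 chunkS10_ok r hr
  · exact List.all_eq_true.1 chunkS11_ok r hr
  · exact List.all_eq_true.1 chunkS12_ok r hr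

theorem good_hits : ∀ i, ∀ r ∈ rowsS, ∀ p ∈ r.hits xS, goodHit labD.masks i r p = true := by
  intro i r hr p hp
  rw [rowsS_chunks] at hr
  simp only [List.flatten_cons, List.flatten_nil, List.mem_append, List.not_mem_nil, or_false] at hr
  cases i
  · rcases hr with hr | hr | hr | hr | hr | hr | hr | hr | hr | hr | hr | hr | hr
    · exact List.all_eq_true.1 (List.all_eq_true.1 chunkS0c0_good r hr) p hp
    · exact List.all_eq_true.1 (List.all_eq_true.1 chunkS1c0_good r hr) p hp
    · exact List.all_eq_true.1 (List.all_eq_true.1 chunkS2c0_good r hr) p hp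
    · exact List.all_eq_true.1 (List.all_eq_true.1 chunkS3c0_good r hr) p hp
    · exact List.all_eq_true.1 (List.all_eq_true.1 chunkS4c0_good r hr) p hp
    · exact List.all_eq_true.1 (List.all_eq_true.1 chunkS5c0_good r hr) p hp
    · exact List.all_eq_true.1 (List.all_eq_true.1 chunkS6c0_good r hr) p hp
    · exact List.all_eq_true.1 (List.all_eq_true.1 chunkS7c0_good r hr) p hp
    · exact List.all_eq_true.1 (List.all_eq_true.1 chunkS8c0_good r hr) p hp
    · exact List.all_eq_true.1 (List.all_eq_true.1 chunkS9c0_good r hr) p hp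
    · exact List.all_eq_true.1 (List.all_eq_true.1 chunkS10c0_good r hr) p hp
    · exact List.all_eq_true.1 (List.all_eq_true.1 chunkS11c0_good r hr) p hp
    · exact List.all_eq_true.1 (List.all_eq_true.1 chunkS12c0_good r hr) p hp
  · rcases hr with hr | hr | hr | hr | hr | hr | hr | hr | hr | hr | hr | hr | hr
    · exact List.all_eq_true.1 (List.all_eq_true.1 chunkS0c1_good r hr) p hp
    · exact List.all_eq_true.1 (List.all_eq_true.1 chunkS1c1_good r hr) p hp
    · exact List.all_eq_true.1 (List.all_eq_true.1 chunkS2c1_good r hr) p hp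
    · exact List.all_eq_true.1 (List.all_eq_true.1 chunkS3c1_good r hr) p hp
    · exact List.all_eq_true.1 (List.all_eq_true.1 chunkS4c1_good r hr) p hp
    · exact List.all_eq_true.1 (List.all_eq_true.1 chunkS5c1_good r hr) p hp
    · exact List.all_eq_true.1 (List.all_eq_true.1 chunkS6c1_good r hr) p hp
    · exact List.all_eq_true.1 (List.all_eq_true.1 chunkS7c1_good r hr) p hp
    · exact List.all_eq_true.1 (List.all_eq_true.1 chunkS8c1_good r hr) p hp
    · exact List.all_eq_true.1 (List.all_eq_true.1 chunkS9c1_good r hr) p hp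
    · exact List.all_eq_true.1 (List.all_eq_true.1 chunkS10c1_good r hr) p hp
    · exact List.all_eq_true.1 (List.all_eq_true.1 chunkS11c1_good r hr) p hp
    · exact List.all_eq_true.1 (List.all_eq_true.1 chunkS12c1_good r hr) p hp

/-- The seeds of the representatives. -/
def repSeeds : List Seed := [seedS0, seedS1, seedS2, seedS3, seedS4, seedS5, seedS6]

theorem auxOK_congr {i : Bool} {s s' : Seed} (h : s.code = s'.code) (h' : s.aux = s'.aux) :
    auxOK i s = auxOK i s' := by
  simp only [auxOK, gOf, pmask, h, h']

theorem repSeeds_facts : (repSeeds.all fun s => auxOK false s && auxOK true s &&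
      freeLabOK labD.masks false s && freeLabOK labD.masks true s) = true ∧
    (rowsS.all fun r => repSeeds.any fun s =>
      s.code == r.s.code && s.aux == r.s.aux && s.kind == r.s.kind && s.conj == r.s.conj) = true :=
  ⟨by decide +kernel, by decide +kernel⟩

theorem aux_rows : ∀ i, ∀ r ∈ rowsS, auxOK i r.s = true ∧ auxOK i r.t = true := by
  intro i r hr
  refine ⟨?_, ?_⟩
  · obtain ⟨h1, h2⟩ := repSeeds_facts
    simp only [List.all_eq_true, List.any_eq_true, Bool.and_eq_true, beq_iff_eq] at h1 h2
    obtain ⟨s, hs, ⟨⟨hc, ha⟩, -⟩, -⟩ := h2 r hr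
    rw [← auxOK_congr hc ha]
    cases i
    exacts [(h1 s hs).1.1.1, (h1 s hs).1.1.2]
  · rw [rowsS_chunks] at hr
    simp only [List.flatten_cons, List.flatten_nil, List.mem_append, List.not_mem_nil, or_false]
      at hr
    cases i
    · rcases hr with hr | hr | hr | hr | hr | hr | hr | hr | hr | hr | hr | hr | hr
      · exact List.all_eq_true.1 chunkS0c0_aux r hr
      · exact List.all_eq_true.1 chunkS1c0_aux r hr
      · exact List.all_eq_true.1 chunkS2c0_aux r hr
      · exact List.all_eq_true.1 chunkS3c0_aux r hr
      · exact List.all_eq_true.1 chunkS4c0_aux r hr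
      · exact List.all_eq_true.1 chunkS5c0_aux r hr
      · exact List.all_eq_true.1 chunkS6c0_aux r hr
      · exact List.all_eq_true.1 chunkS7c0_aux r hr
      · exact List.all_eq_true.1 chunkS8c0_aux r hr
      · exact List.all_eq_true.1 chunkS9c0_aux r hr
      · exact List.all_eq_true.1 chunkS10c0_aux r hr
      · exact List.all_eq_true.1 chunkS11c0_aux r hr
      · exact List.all_eq_true.1 chunkS12c0_aux r hr
    · rcases hr with hr | hr | hr | hr | hr | hr | hr | hr | hr | hr | hr | hr | hr
      · exact List.all_eq_true.1 chunkS0c1_aux r hr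
      · exact List.all_eq_true.1 chunkS1c1_aux r hr
      · exact List.all_eq_true.1 chunkS2c1_aux r hr
      · exact List.all_eq_true.1 chunkS3c1_aux r hr
      · exact List.all_eq_true.1 chunkS4c1_aux r hr
      · exact List.all_eq_true.1 chunkS5c1_aux r hr
      · exact List.all_eq_true.1 chunkS6c1_aux r hr
      · exact List.all_eq_true.1 chunkS7c1_aux r hr
      · exact List.all_eq_true.1 chunkS8c1_aux r hr
      · exact List.all_eq_true.1 chunkS9c1_aux r hr
      · exact List.all_eq_true.1 chunkS10c1_aux r hr
      · exact List.all_eq_true.1 chunkS11c1_aux r hr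
      · exact List.all_eq_true.1 chunkS12c1_aux r hr

theorem freeLab_rows : ∀ i, ∀ r ∈ rowsS, freeLabOK labD.masks i r.s = true := by
  intro i r hr
  obtain ⟨h1, h2⟩ := repSeeds_facts
  simp only [List.all_eq_true, List.any_eq_true, Bool.and_eq_true, beq_iff_eq] at h1 h2
  obtain ⟨s, hs, ⟨⟨hc, ha⟩, hk⟩, hcj⟩ := h2 r hr
  have e : freeLabOK labD.masks i s = freeLabOK labD.masks i r.s := by
    simp only [freeLabOK, freeHit, innerHit, gOf, Seed.lab, hc, ha, hk, hcj]
  rw [← e]
  cases i
  exacts [(h1 s hs).1.2, (h1 s hs).2]

/-- The selection of the pairs of first type and second type given by the types of the labels. -/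
def selTypes (ty : List Bool) (k : ℕ) : Bool :=
  (ty ++ [true, false, false]).getD (k / 7) false &&
    !((ty ++ [true, false, true]).getD (k % 7) true)

/-- All possible types of the four labels. -/
def allTypes : List (List Bool) :=
  [false, true].flatMap fun a => [false, true].flatMap fun b => [false, true].flatMap fun c =>
    [false, true].map fun d => [a, b, c, d]

theorem options_check : ([false, true].all fun i => allTypes.all fun ty =>
    let A := 77 * evalTab (selTypes ty) (totZ i) 0
    let g := A / 90090 * 1816657920 + evalTab (selTypes ty) totT 0 * 21799895040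
    A % 90090 != 0 || g % (2 ^ 11 * 244823040) != 0 || g == 86775571046077562880) = true := by
  decide +kernel

/-- **Only one order is compatible with divisibility.** -/
theorem order_unique (i : Bool) (a b c d : Bool) {az N : ℕ}
    (hz : 90090 * az = 77 * evalTab (selTypes [a, b, c, d]) (totZ i) 0)
    (hN : N = az * 1816657920 + evalTab (selTypes [a, b, c, d]) totT 0 * 21799895040)
    (hdvd : 2 ^ 11 * 244823040 ∣ N) : N = 86775571046077562880 := by
  have h := options_check
  simp only [List.all_eq_true, Bool.or_eq_true, bne_iff_ne, ne_eq, beq_iff_eq] at h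
  have hmem : [a, b, c, d] ∈ allTypes := by cases a <;> cases b <;> cases c <;> cases d <;> decide
  have hi : i ∈ [false, true] := by cases i <;> simp
  have h' := h i hi [a, b, c, d] hmem
  rw [← hz, Nat.mul_mod_right, Nat.mul_div_cancel_left _ (by norm_num : 0 < 90090), ← hN,
    Nat.mod_eq_zero_of_dvd hdvd] at h'
  simpa using h'

end Cfsg.Agent.J4Type.Order
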