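import Cfsg.Agent.Lib.J4Type.Order.SoundSeed
import Cfsg.Agent.Lib.J4Type.Order.Transfer
import Cfsg.Agent.Lib.J4Type.Order.Supply
import Cfsg.Agent.Lib.J4Type.Order.Totals

/-
Groups of Janko-four type, order formula: the pairs over a central involution from the certified
tables (owner: helper43).

Main result: `ncard_az`.
-/

set_option autoImplicit false
set_option linter.unusedSectionVars false
set_option maxRecDepth 100000
open scoped Pointwise
open Cfsg Cfsg.Agent.Golay Cfsg.Agent.J4Type Cfsg.Agent.J4Type.TwoTen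

namespace Cfsg.Agent.J4Type.Order

variable {G : Type*} [Group G] [Finite G]

theorem fix_pA_conj {p g : Equiv.Perm GolayPt} (hg : g ∈ pairStab) (hp : p ∈ pairStab)
    (h : p pA = pA) : (g * p * g⁻¹) pA = pA :=
  (mem_M22_iff (mul_mem (mul_mem hg hp) (inv_mem hg))).1
    (conj_mem_M22 hg ((mem_M22_iff hp).2 h))

theorem fix_pA_conj_iff {p g : Equiv.Perm GolayPt} (hg : g ∈ pairStab) (hp : p ∈ pairStab) :
    (g * p * g⁻¹) pA = pA ↔ p pA = pA := by
  refine ⟨fun h => ?_, fix_pA_conj hg hp⟩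
  have := fix_pA_conj (inv_mem hg) (mul_mem (mul_mem hg hp) (inv_mem hg)) h
  rwa [show g⁻¹ * (g * p * g⁻¹) * g⁻¹⁻¹ = p by group] at this

theorem free_conj_iff {p g : Equiv.Perm GolayPt} (hg : g ∈ pairStab) (hp : p ∈ pairStab) :
    OuterFree (g * p * g⁻¹) ↔ OuterFree p := by
  refine ⟨fun h => ?_, fun h => h.conj hg hp⟩
  have := h.conj (inv_mem hg) (mul_mem (mul_mem hg hp) (inv_mem hg))
  rwa [show g⁻¹ * (g * p * g⁻¹) * g⁻¹⁻¹ = p by group] at this

theorem fn_comp (a b : ℕ) {k : ℕ} (hk : k < 24) : fn (Order.comp a b) k = fn a (fn b k) :=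
  fn_mk (fun _ _ => fn_lt32 _ _) hk

theorem inner_code {A B c : ℕ} {σ : Equiv.Perm GolayPt} (hc : Cod c σ)
    (hk : ∀ k < 24, fn c k = fn A (fn B k)) : (fn A (fn B 23) == 23) = true ↔ σ pA = pA := by
  have e : idx pA = 23 := by decide
  have key := hc pA
  rw [e, hk 23 (by norm_num)] at key
  rw [beq_iff_eq, ← key]
  exact ⟨fun h => idx_injective (h.trans e.symm), fun h => (congrArg idx h).trans e⟩

theorem free_code {A B c : ℕ} {σ : Equiv.Perm GolayPt} (hc : Cod c σ)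
    (hk : ∀ k < 24, fn c k = fn A (fn B k)) :
    (!(fn A (fn B 23) == 23) && (List.range 24).all fun k => fn A (fn B k) != k) = true ↔
      OuterFree σ := by
  have key : ∀ p : GolayPt, idx (σ p) = fn A (fn B (idx p)) := fun p => by
    rw [hc p, hk _ (idx_lt p)]
  rw [OuterFree, Bool.and_eq_true, Bool.not_eq_true', List.all_eq_true, ne_eq,
    ← inner_code hc hk, Bool.not_eq_true]
  simp only [List.mem_range, bne_iff_ne, ne_eq]
  refine and_congr_right fun _ => ⟨fun h x hx => h _ (idx_lt x) ?_, fun h k hk' he => h (pt k) ?_⟩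
  · rw [← key, hx]
  · apply idx_injective
    rw [key, idx_pt hk', he]

theorem fn_img (i : Bool) (s : Seed) (a : ℕ) : ∀ k < 24,
    fn (imgCode i s a) k = fn (ACode (phiIdx a)) (fn (gOf i s) k) := fun _ hk => by
  rw [imgCode, fn_comp _ _ hk]

theorem innerHit_iff {i : Bool} {s : Seed} (hs : auxOK i s = true) (a : ℕ) :
    innerHit i s a = true ↔ toPerm (imgCode i s a) pA = pA := by
  rw [innerHit]
  exact inner_code (imgCode_cod hs a) (fn_img i s a)

theorem freeHit_iff {i : Bool} {s : Seed} (hs : auxOK i s = true) (a : ℕ) :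
    freeHit i s a = true ↔ OuterFree (toPerm (imgCode i s a)) := by
  rw [freeHit, innerHit]
  exact free_code (imgCode_cod hs a) (fn_img i s a)

theorem conj_mem_iff' {α : Type*} [Group α] {H : Subgroup α} {g x : α} (hg : g ∈ H) :
    g * x * g⁻¹ ∈ H ↔ x ∈ H :=
  (mul_mem_cancel_right (inv_mem hg)).trans (mul_mem_cancel_left hg)

theorem comm_code {c c' : ℕ} {σ τ : Equiv.Perm GolayPt} (h : Cod c σ) (h' : Cod c' τ) :
    ((List.range 24).all fun k => fn c (fn c' k) == fn c' (fn c k)) = true ↔ σ * τ = τ * σ := by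
  simp only [List.all_eq_true, List.mem_range, beq_iff_eq]
  constructor
  · intro he
    refine Equiv.ext fun p => idx_injective ?_
    rw [Equiv.Perm.mul_apply, Equiv.Perm.mul_apply, h, h', h', h, he _ (idx_lt p)]
  · intro he k hk
    have := congrArg (fun π : Equiv.Perm GolayPt => idx (π (pt k))) he
    simpa [Equiv.Perm.mul_apply, h _, h' _, idx_pt hk] using this

theorem commHit_iff {i : Bool} {s t : Seed} (hs : auxOK i s = true) (ht : auxOK i t = true)
    (a b : ℕ) : commHit i s t a b = true ↔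
      toPerm (imgCode i s a) * toPerm (imgCode i t b) =
        toPerm (imgCode i t b) * toPerm (imgCode i s a) := by
  rw [commHit]
  exact comm_code (imgCode_cod hs a) (imgCode_cod ht b)

variable (C : Ctx G) {P : Subgroup G}

local notation "NV" => Subgroup.normalizer (C.D.V : Set G)

open Classical in
/-- The number of common hexads of two elements centralising `vv xS`. -/
noncomputable def fcS (S : Setting (C.vv xS) P) (u v : G) : ℕ :=
  if h : u ∈ Cz (C.vv xS) ∧ v ∈ Cz (C.vv xS) then S.fixCount ⟨u, h.1⟩ ⟨v, h.2⟩ else 0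

theorem conj_Cz {x g u : G} (hg : g * x = x * g) : g * u * g⁻¹ ∈ Cz x ↔ u ∈ Cz x := by
  have hg' : g ∈ Cz x := mem_Cz.2 hg
  refine ⟨fun h => ?_, fun h => mul_mem (mul_mem hg' h) (inv_mem hg')⟩
  have := mul_mem (mul_mem (inv_mem hg') h) hg'
  rwa [show g⁻¹ * (g * u * g⁻¹) * g = u by group] at this

theorem fcS_conj (S : Setting (C.vv xS) P) {g : G} (hg : g * C.vv xS = C.vv xS * g) (u v : G) :
    fcS C S (g * u * g⁻¹) (g * v * g⁻¹) = fcS C S u v := by
  simp only [fcS]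
  by_cases h : u ∈ Cz (C.vv xS) ∧ v ∈ Cz (C.vv xS)
  · rw [dif_pos h, dif_pos ⟨(conj_Cz hg).2 h.1, (conj_Cz hg).2 h.2⟩]
    exact S.fixCount_conj ⟨g, mem_Cz.2 hg⟩ ⟨u, h.1⟩ ⟨v, h.2⟩
  · rw [dif_neg h, dif_neg fun hh => h ⟨(conj_Cz hg).1 hh.1, (conj_Cz hg).1 hh.2⟩]

theorem rows_pair {e : ℕ × ℕ × ℕ} (he : e ∈ tabsS.flatten) :
    ∃ r ∈ rowsS, r.s.code = e.2.1 := by
  rw [← rowsS_spec, List.mem_map] at he
  obtain ⟨r, hr, rfl⟩ := he
  exact ⟨r, hr, rfl⟩

theorem seeds_ok {r : PairRow} (hr : r ∈ rowsS) :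
    r.s.ok xS = true ∧ r.t.ok xS = true ∧ invOK xS r.s.code = true ∧ invOK xS r.t.code = true := by
  have h := rowsS_ok r hr
  simp only [PairRow.ok, Bool.and_eq_true] at h
  refine ⟨h.1.1, h.1.2, ?_, ?_⟩
  · have := h.1.1
    simp only [Seed.ok, Bool.and_eq_true] at this
    exact this.1.1.1.1
  · have := h.1.2
    simp only [Seed.ok, Bool.and_eq_true] at this
    exact this.1.1.1.1

open Classical in
/-- **The pairs over a central involution.** -/
theorem ncard_az (S : Setting (C.vv xS) P) : ∃ i : Bool, ∀ a b c d : Bool,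
    (∀ l < 4, IsConj C.z (C.baseElt labD l) ↔ [a, b, c, d].getD l false = true) →
      90090 * (pairSet C.z C.D.t (C.vv xS)).ncard =
        77 * evalTab (selTypes [a, b, c, d]) (totZ i) 0 := by
  have hx : xS < 2048 := xS_facts.2.2.1
  have hx0 : xS ≠ 0 := xS_facts.2.1
  obtain ⟨g, hg, i, hN, hV, hA⟩ := exists_kappa C S
  refine ⟨i, fun a₀ b₀ c₀ d₀ hty => ?_⟩
  let θ : ↥(Cz (C.vv xS)) →* Equiv.Perm GolayPt := (MulAut.conj g).toMonoidHom.comp S.κ
  have hθ : ∀ h, θ h = g * S.κ h * g⁻¹ := fun h => rfl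
  set o := g⁻¹ • o0 with hodef
  have ho : HexOct o := hexOct_o0.smul (inv_mem hg)
  have hX : ∀ u : ↥(Cz (C.vv xS)), (u : G) ∈ NV ↔ S.κ u ∈ stabO o := fun u => by
    rw [hN u, mem_stabO, mem_stabO, hodef, mul_smul, mul_smul, eq_inv_smul_iff]
    exact and_congr_left fun _ => conj_mem_iff' hg
  -- images over a seed
  have img : ∀ {s : Seed}, invOK xS s.code = true → auxOK i s = true →
      ∀ a ∈ Ctx.fixC (toPerm s.code), ∀ u : ↥(Cz (C.vv xS)), (u : G) = C.ee a (toPerm s.code) →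
        g * S.κ u * g⁻¹ = toPerm (imgCode i s a) :=
    fun {s} hs haux a ha u hu =>
      theta_ee C θ hN hV hA hs haux (Ctx.mem_fixC.1 ha).1 u hu
  have mem : ∀ {s : Seed}, invOK xS s.code = true → ∀ a ∈ Ctx.fixC (toPerm s.code),
      C.ee a (toPerm s.code) ∈ Cz (C.vv xS) := fun {s} hs a ha =>
    mem_Cz.2 (C.mem_invPart.1 (C.ee_mem_invPart hx (invOK_spec hx hs).1 ha)).2.1
  have hfcount : ∀ {s t : Seed}, invOK xS s.code = true → invOK xS t.code = true →
      auxOK i s = true → auxOK i t = true → ∀ a ∈ Ctx.fixC (toPerm s.code),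
        ∀ b ∈ Ctx.fixC (toPerm t.code),
          fcS C S (C.ee a (toPerm s.code)) (C.ee b (toPerm t.code)) = fHit i s t a b := by
    intro s t hs ht hsa hta a ha b hb
    rw [fcS, dif_pos ⟨mem hs a ha, mem ht b hb⟩, ← fHit_eq hsa hta]
    rw [← img hs hsa a ha ⟨_, mem hs a ha⟩ rfl, ← img ht hta b hb ⟨_, mem ht b hb⟩ rfl]
    unfold Setting.fixCount
    refine Finset.card_bij (fun w _ => g • w) ?_ ?_ ?_
    · intro w hw
      simp only [Finset.mem_filter, mem_hexOcts, mul_smul, inv_smul_smul] at hw ⊢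
      exact ⟨hw.1.smul hg, by rw [hw.2.1], by rw [hw.2.2]⟩
    · intro p _ p' _ e
      exact smul_left_cancel _ e
    · intro w hw
      simp only [Finset.mem_filter, mem_hexOcts, mul_smul] at hw ⊢
      refine ⟨g⁻¹ • w, ⟨hw.1.smul (inv_mem hg), eq_inv_smul_iff.2 hw.2.1,
        eq_inv_smul_iff.2 hw.2.2⟩, smul_inv_smul g w⟩
  have hgood : ∀ u ∈ C.invPart xS, ∀ v ∈ C.invPart xS,
      C.vv xS ∈ Subgroup.zpowers (u * v) →
      (fcS C S u v ∣ 90090 ∨ fcS C S u v = 0) ∧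
        ∀ (cu : u ∈ Cz (C.vv xS)) (cv : v ∈ Cz (C.vv xS)), S.κ ⟨u, cu⟩ ≠ 1 →
          S.κ ⟨u, cu⟩ pA = pA → OuterFree (S.κ ⟨v, cv⟩) →
          S.κ ⟨u, cu⟩ * S.κ ⟨v, cv⟩ = S.κ ⟨v, cv⟩ * S.κ ⟨u, cu⟩ → IsConj u v := by
    refine C.forall_rows checkedS hx0 rowsS_spec rowsS_ok _ (fun h u v _ hh => ?_) ?_
    · have hh' : (h : G) ∈ Cz (C.vv xS) := mem_Cz.2 hh
      have hk : S.κ ⟨h, hh'⟩ ∈ pairStab := S.κ_mem _
      rw [fcS_conj C S hh]
      refine and_congr_right fun _ => ⟨fun H cu cv h1 h2 h3 h4 => ?_, fun H cu cv h1 h2 h3 h4 => ?_⟩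
      · have cu' := (conj_Cz hh).2 cu
        have cv' := (conj_Cz hh).2 cv
        have eu : S.κ ⟨h * u * h⁻¹, cu'⟩ = S.κ ⟨h, hh'⟩ * S.κ ⟨u, cu⟩ * (S.κ ⟨h, hh'⟩)⁻¹ := by
          rw [← map_inv, ← map_mul, ← map_mul]; rfl
        have ev : S.κ ⟨h * v * h⁻¹, cv'⟩ = S.κ ⟨h, hh'⟩ * S.κ ⟨v, cv⟩ * (S.κ ⟨h, hh'⟩)⁻¹ := by
          rw [← map_inv, ← map_mul, ← map_mul]; rfl
        have := H cu' cv' (by rw [eu]; exact fun e => h1 (conj_eq_one_iff.1 e))
          (by rw [eu]; exact fix_pA_conj hk (S.κ_mem _) h2)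
          (by rw [ev]; exact h3.conj hk (S.κ_mem _)) (by rw [eu, ev, conj_mul, conj_mul, h4])
        exact ((isConj_iff.2 ⟨h, rfl⟩).trans this).trans (isConj_iff.2 ⟨h, rfl⟩).symm
      · have cu' := (conj_Cz hh).1 cu
        have cv' := (conj_Cz hh).1 cv
        have eu : S.κ ⟨h * u * h⁻¹, cu⟩ = S.κ ⟨h, hh'⟩ * S.κ ⟨u, cu'⟩ * (S.κ ⟨h, hh'⟩)⁻¹ := by
          rw [← map_inv, ← map_mul, ← map_mul]; rfl
        have ev : S.κ ⟨h * v * h⁻¹, cv⟩ = S.κ ⟨h, hh'⟩ * S.κ ⟨v, cv'⟩ * (S.κ ⟨h, hh'⟩)⁻¹ := by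
          rw [← map_inv, ← map_mul, ← map_mul]; rfl
        rw [eu] at h1 h2 h4
        rw [ev] at h3 h4
        have := H cu' cv' (fun e => h1 (by rw [e]; simp)) ((fix_pA_conj_iff hk (S.κ_mem _)).1 h2)
          ((free_conj_iff hk (S.κ_mem _)).1 h3)
          (by rw [conj_mul, conj_mul] at h4; exact mul_left_cancel (mul_right_cancel h4))
        exact ((isConj_iff.2 ⟨h, rfl⟩).symm.trans this).trans (isConj_iff.2 ⟨h, rfl⟩)
    · intro r hr p hp hpa hpb
      obtain ⟨hso, hto, hsI, htI⟩ := seeds_ok hr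
      obtain ⟨hsa, hta⟩ := aux_rows i r hr
      have hgd := good_hits i r hr p hp
      simp only [goodHit, Bool.and_eq_true, Bool.or_eq_true, beq_iff_eq, Bool.not_eq_true'] at hgd
      refine ⟨?_, fun cu cv h1 h2 h3 h4 => ?_⟩
      · rw [hfcount hsI htI hsa hta _ hpa _ hpb]
        exact hgd.1.symm.imp (fun h => Nat.dvd_of_mod_eq_zero h) id
      · have eu := img hsI hsa _ hpa ⟨_, cu⟩ rfl
        have ev := img htI hta _ hpb ⟨_, cv⟩ rfl
        have hlab : r.s.lab labD.masks p.1 = r.t.lab labD.masks p.2 := by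
          rcases hgd.2 with h | h
          · exact h
          · exfalso
            rw [Bool.and_eq_false_iff, Bool.and_eq_false_iff, Bool.and_eq_false_iff] at h
            rcases h with ((h | h) | h) | h
            · refine absurd ((innerHit_iff hsa p.1).2 ?_) (by simp [h])
              rw [← eu]; exact (fix_pA_conj_iff hg (S.κ_mem _)).2 h2
            · refine absurd ((freeHit_iff hta p.2).2 ?_) (by simp [h])
              rw [← ev]; exact h3.conj hg (S.κ_mem _)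
            · rw [Bool.not_eq_false', beq_iff_eq] at h
              have hc := imgCode_cod hsa p.1
              rw [h] at hc
              have h1' : toPerm (imgCode i r.s p.1) = 1 := by rw [h]; exact hc.inj cod_idCode
              rw [← eu] at h1'
              exact h1 (conj_eq_one_iff.1 h1')
            · refine absurd ((commHit_iff hsa hta p.1 p.2).2 ?_) (by simp [h])
              rw [← eu, ← ev, conj_mul, conj_mul, h4]
        rcases C.type_lab labD_ok hx hso hpa with ⟨e6, e1⟩ | ⟨hl, n, -, he⟩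
        · have : (⟨_, cu⟩ : ↥(Cz (C.vv xS))) = 1 := Subtype.ext e1
          exact absurd (by rw [this, map_one]) h1
        · rcases C.type_lab labD_ok hx hto hpb with ⟨e6, -⟩ | ⟨-, n', -, he'⟩
          · omega
          · rw [← he, ← he', hlab]
            exact (isConj_iff.2 ⟨n, rfl⟩).symm.trans (isConj_iff.2 ⟨n', rfl⟩)
  have hfree : ∀ σ ∈ Invs xS, ∀ τ ∈ Invs xS, ∀ a ∈ Ctx.fixC σ,
      ∀ cu : C.ee a σ ∈ Cz (C.vv xS), OuterFree (S.κ ⟨C.ee a σ, cu⟩) →
        IsConj (C.baseElt labD 1) (C.ee a σ) := by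
    refine checkedS.forall_pairs
      (fun σ _ => ∀ a ∈ Ctx.fixC σ, ∀ cu : C.ee a σ ∈ Cz (C.vv xS),
        OuterFree (S.κ ⟨C.ee a σ, cu⟩) → IsConj (C.baseElt labD 1) (C.ee a σ))
      (fun γ hγ σ hσ τ _ => ?_) fun e he => ?_
    · obtain ⟨hγM, hγx⟩ := (mem_Stab hx).1 hγ
      have hσM := (mem_Invs.1 hσ).1.1
      have hh : C.ee 0 γ * C.vv xS = C.vv xS * C.ee 0 γ := (C.ee_comm_vv hx hγM).2 hγx
      have hh' : C.ee 0 γ ∈ Cz (C.vv xS) := mem_Cz.2 hh
      have hk : S.κ ⟨_, hh'⟩ ∈ pairStab := S.κ_mem _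
      constructor
      · intro H a ha cu hf
        have ha' := Ctx.actP_conj_fix hγM hσM ha
        have e := C.ee_conj hγM hσM a
        have cu' : C.ee (actP γ a) (γ * σ * γ⁻¹) ∈ Cz (C.vv xS) := e ▸ (conj_Cz hh).2 cu
        have ek : S.κ ⟨_, cu'⟩ = S.κ ⟨_, hh'⟩ * S.κ ⟨_, cu⟩ * (S.κ ⟨_, hh'⟩)⁻¹ := by
          rw [← map_inv, ← map_mul, ← map_mul]
          exact congrArg S.κ (Subtype.ext e.symm)
        have := H _ ha' cu' (ek ▸ hf.conj hk (S.κ_mem _))
        rw [← e] at this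
        exact this.trans (isConj_iff.2 ⟨_, rfl⟩).symm
      · intro H a ha cu hf
        have hγ' := inv_mem hγM
        have ha' := Ctx.actP_conj_fix hγ' (mul_mem (mul_mem hγM hσM) (inv_mem hγM)) ha
        rw [show γ⁻¹ * (γ * σ * γ⁻¹) * γ⁻¹⁻¹ = σ by group] at ha'
        have e : C.ee 0 γ * C.ee (actP γ⁻¹ a) σ * (C.ee 0 γ)⁻¹ = C.ee a (γ * σ * γ⁻¹) := by
          rw [C.ee_conj hγM hσM, ← actP_mul hγM, mul_inv_cancel, actP_one (Ctx.mem_fixC.1 ha).1]
        have cu' : C.ee (actP γ⁻¹ a) σ ∈ Cz (C.vv xS) := (conj_Cz hh).1 (e ▸ cu)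
        have ek : S.κ ⟨_, cu⟩ = S.κ ⟨_, hh'⟩ * S.κ ⟨_, cu'⟩ * (S.κ ⟨_, hh'⟩)⁻¹ := by
          rw [← map_inv, ← map_mul, ← map_mul]
          exact congrArg S.κ (Subtype.ext e.symm)
        have := H _ ha' cu' ((free_conj_iff hk (S.κ_mem _)).1 (ek ▸ hf))
        rw [← e]
        exact this.trans (isConj_iff.2 ⟨_, rfl⟩)
    · obtain ⟨r, hr, hcode⟩ := rows_pair he
      obtain ⟨hso, -, hsI, -⟩ := seeds_ok hr
      obtain ⟨hsa, -⟩ := aux_rows i r hr
      rw [← hcode]
      intro a ha cu hf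
      have hlab := freeLab_rows i r hr
      simp only [freeLabOK, Bool.and_eq_true, List.all_eq_true, Bool.or_eq_true,
        Bool.not_eq_true', beq_iff_eq] at hlab
      obtain ⟨hfix, hl⟩ := hlab
      obtain ⟨hfl, -⟩ := fixList_spec (invOK_spec hx hsI).2 hfix
      rcases hl a (List.mem_toFinset.1 (hfl ▸ ha)) with h | h
      · refine absurd ((freeHit_iff hsa a).2 ?_) (by simp [h])
        rw [← img hsI hsa a ha ⟨_, cu⟩ rfl]
        exact hf.conj hg (S.κ_mem _)
      · rcases C.type_lab labD_ok hx hso ha with ⟨e6, -⟩ | ⟨-, n, -, he'⟩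
        · omega
        · rw [← he', h]; exact isConj_iff.2 ⟨n, rfl⟩
  have hsq : ∀ {u : ↥(Cz (C.vv xS))}, (u : G) ∈ NV → orderOf u = 2 → (u : G) ∈ C.invPart xS := by
    intro u hu h2
    refine C.mem_invPart.2 ⟨hu, mem_Cz.1 u.2, ?_⟩
    rw [← Subgroup.coe_mul, ← pow_two, ← h2, pow_orderOf_eq_one]; rfl
  have hi : ∀ u v : ↥(Cz (C.vv xS)), (u : G) ∈ NV → (v : G) ∈ NV → orderOf u = 2 → orderOf v = 2 →
      OuterFree (S.κ u) → OuterFree (S.κ v) → IsConj (u : G) (v : G) := by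
    have one : ∀ u : ↥(Cz (C.vv xS)), (u : G) ∈ NV → orderOf u = 2 → OuterFree (S.κ u) →
        IsConj (C.baseElt labD 1) (u : G) := by
      intro u hu h2 hf
      obtain ⟨hN', hc, hsq'⟩ := C.mem_invPart.1 (hsq hu h2)
      obtain ⟨a, ha, σ, hσ, he⟩ := C.exists_ee hN'
      have hsq2 := (C.ee_sq hσ ha).1 (he ▸ hsq')
      have hI : σ ∈ Invs xS :=
        mem_Invs.2 ⟨(mem_Stab hx).2 ⟨hσ, (C.ee_comm_vv hx hσ).1 (he ▸ hc)⟩, hsq2.1⟩
      have cu : C.ee a σ ∈ Cz (C.vv xS) := he ▸ u.2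
      have hu' : u = ⟨C.ee a σ, cu⟩ := Subtype.ext he
      rw [hu'] at hf ⊢
      exact hfree σ hI σ hI a (Ctx.mem_fixC.2 ⟨ha, hsq2.2⟩) cu hf
    exact fun u v hu hv h2u h2v fu fv => (one u hu h2u fu).symm.trans (one v hv h2v fv)
  rw [C.ncard_pairSet_z S ho hX hi
    (fun u v hu hv h2u h2v h1 h2 h3 h4 _ h5 =>
      (hgood _ (hsq hu h2u) _ (hsq hv h2v) h5).2 u.2 v.2 h1 h2 h3 h4)
    (fcS C S) (fun u v _ _ => by rw [fcS, dif_pos ⟨u.2, v.2⟩])
    (fun u hu v hv _ _ h => (hgood u hu v hv h).1)]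
  congr 1
  -- the table
  have hone : ¬ IsConj C.z (1 : G) ∧ ¬ IsConj C.D.t (1 : G) :=
    ⟨fun h => by simpa using C.orderOf_of_conj_z h, fun h => by simpa using C.orderOf_of_conj_t h⟩
  have hconj : ∀ w g u : G, IsConj w (g * u * g⁻¹) ↔ IsConj w u := fun w g u =>
    ⟨fun h => h.trans (isConj_iff.2 ⟨g, rfl⟩).symm, fun h => h.trans (isConj_iff.2 ⟨g, rfl⟩)⟩
  have hbase : ∀ l < 6, C.baseElt labD l * C.baseElt labD l = 1 ∧ C.baseElt labD l ≠ 1 := by
    intro l hl
    have hk : isAut (baseCode (kindOf l)) = true := baseCode_aut _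
    have hchk : ∀ l < 6, (decide (labD.baseA l < 2048) &&
        (List.range 24).all (fun n =>
          fn (baseCode (kindOf l)) (fn (baseCode (kindOf l)) n) == n) &&
        act (baseCode (kindOf l)) (labD.baseA l) == labD.baseA l &&
        (labD.baseA l != 0 || baseCode (kindOf l) != idCode &&
          !((List.range 24).all fun n => fn (baseCode (kindOf l)) n == n))) = true := by
      decide +kernel
    have h := hchk l hl
    simp only [Bool.and_eq_true, decide_eq_true_eq, beq_iff_eq, List.all_eq_true, List.mem_range,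
      Bool.or_eq_true, bne_iff_ne, ne_eq, Bool.not_eq_true'] at h
    obtain ⟨⟨⟨ha, hinv⟩, hact⟩, hne⟩ := h
    have hv := validPerm_of_isAut hk
    have hM : toPerm (baseCode (kindOf l)) ∈ M24 := toPerm_mem_M24 hk
    refine ⟨(C.ee_sq hM ha).2 ⟨Equiv.ext fun p => idx_injective ?_, ?_⟩, fun he => ?_⟩
    · rw [Equiv.Perm.mul_apply, idx_toPerm hv, idx_toPerm hv, hinv _ (idx_lt p)]; rfl
    · rw [actP_toPerm hv, hact]
    · rw [Ctx.baseElt, ← C.ee_zero_one] at he
      obtain ⟨e1, e2⟩ := C.ee_inj hM (one_mem _) ha (by norm_num) he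
      rcases hne with h | ⟨-, h⟩
      · exact h e1
      · have : ((List.range 24).all fun n => fn (baseCode (kindOf l)) n == n) = true := by
          simp only [List.all_eq_true, List.mem_range, beq_iff_eq]
          intro n hn
          rw [← idx_pt hn, ← idx_toPerm hv, e2]; rfl
        rw [h] at this
        exact Bool.false_ne_true this
  have htype : ∀ l < 6, (IsConj C.z (C.baseElt labD l) ↔
      ([a₀, b₀, c₀, d₀] ++ [true, false, false]).getD l false = true) ∧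
      (IsConj C.D.t (C.baseElt labD l) ↔
      (!(([a₀, b₀, c₀, d₀] ++ [true, false, true]).getD l true)) = true) := by
    intro l hl
    obtain ⟨hb, hb1⟩ := hbase l hl
    haveI : Fact (Nat.Prime 2) := ⟨Nat.prime_two⟩
    have hor := C.invol _ (orderOf_eq_prime (by rw [pow_two, hb]) hb1)
    have hiff : IsConj C.D.t (C.baseElt labD l) ↔ ¬ IsConj C.z (C.baseElt labD l) :=
      ⟨fun h h' => C.t_not (h'.trans h.symm), fun h => hor.resolve_left h⟩
    have h0 : toPerm (baseCode 0) = 1 := cod_idCode.toPerm_eq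
    have e4 : C.baseElt labD 4 = C.vv xS := by
      show C.ee xS (toPerm (baseCode 0)) = _
      rw [h0, C.ee_one]
    have e5 : C.baseElt labD 5 = C.vv xT := by
      show C.ee xT (toPerm (baseCode 0)) = _
      rw [h0, C.ee_one]
    have c5 : ¬ IsConj C.z (C.baseElt labD 5) := fun h => C.t_not
      ((e5 ▸ h).trans (Supply.conj_xT C).symm)
    have c4 : IsConj C.z (C.baseElt labD 4) := e4 ▸ Supply.conj_xS C
    rw [hiff]
    have d : ∀ (p : Prop) (v : Bool), (p ↔ v = true) → (p ↔ v = true) ∧ (¬ p ↔ (!v) = true) :=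
      fun p v h => ⟨h, by cases v <;> simp [h]⟩
    rcases (by omega : l = 0 ∨ l = 1 ∨ l = 2 ∨ l = 3 ∨ l = 4 ∨ l = 5) with
      rfl | rfl | rfl | rfl | rfl | rfl
    · exact d _ a₀ (hty 0 (by norm_num))
    · exact d _ b₀ (hty 1 (by norm_num))
    · exact d _ c₀ (hty 2 (by norm_num))
    · exact d _ d₀ (hty 3 (by norm_num))
    · exact d _ true (iff_of_true c4 rfl)
    · exact d _ false (iff_of_false c5 (by decide))
  exact C.count_eq checkedS hx0 rowsS_spec rowsS_ok labD_ok (totZ_eq i) (IsConj C.z) (IsConj C.D.t)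
    (hconj C.z) (hconj C.D.t) hone
    (fun l => ([a₀, b₀, c₀, d₀] ++ [true, false, false]).getD l false)
    (fun l => !(([a₀, b₀, c₀, d₀] ++ [true, false, true]).getD l true)) ⟨rfl, rfl⟩
    (fun l hl => (htype l hl).1) (fun l hl => (htype l hl).2)
    (fun u v => if fcS C S u v = 0 then 0 else 90090 / fcS C S u v)
    (fun h _ hh u _ v _ => by simp only [fcS_conj C S hh])
    fun r hr p hp q hq => by
      obtain ⟨-, -, hsI, htI⟩ := seeds_ok hr
      obtain ⟨hsa, hta⟩ := aux_rows i r hr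
      rw [hfcount hsI htI hsa hta p hp q hq, wz]
      by_cases h : fHit i r.s r.t p q = 0
      · rw [h]; rfl
      · rw [if_neg h, beq_eq_false_iff_ne.2 h]; rfl

end Cfsg.Agent.J4Type.Order
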