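import Cfsg.Agent.Lib.J4Type.Order.Main
import Cfsg.Agent.Lib.J4Type.Order.Sound

/-
Groups of Janko-four type: the order.
-/

set_option autoImplicit false
open Cfsg Cfsg.Agent.J4Type Cfsg.Agent.J4Type.TwoTen

namespace Cfsg.Agent.J4Type.Order

/-- **The order of a group of Janko-four type.** -/
theorem natCard_janko {G : Type*} [Group G] [Finite G] [IsSimpleGroup G] {z : G} {P : Subgroup G}
    (hJ : Cfsg.IsOfJankoFourTypeWith z P) : Nat.card G = 86775571046077562880 := by
  obtain ⟨C, rfl, -⟩ := Supply.exists_ctx inferInstance (Wiring.not_comm hJ) hJ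
  exact natCard_of_az C (fun _ S => ncard_az C S) hJ

end Cfsg.Agent.J4Type.Order
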