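import Cfsg.Agent.Lib.J4Type.Order.Model
import Cfsg.Agent.Lib.J4Type.Order.InvS

/-
Groups of Janko-four type, order formula: evaluation of a sum over two fibres of involutions by
coded arithmetic (owner: helper43).

Main results: `Seed`, `Seed.lab`, `hitsOf`, `Ctx.pairF_hits`, `Ctx.pairF_ident`, `evalTab_addHits`,
`Ctx.type_lab`.
-/

set_option autoImplicit false
set_option linter.unusedSectionVars false
set_option linter.unusedSimpArgs false
set_option maxRecDepth 100000
set_option exponentiation.threshold 4096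
open scoped Pointwise
open Cfsg Cfsg.Agent.Golay Cfsg.Agent.J4Type Cfsg.Agent.J4Type.TwoTen

namespace Cfsg.Agent.J4Type.Order

theorem Cod.valid {d : ℕ} {σ : Equiv.Perm GolayPt} (h : Cod d σ) : validPerm d = true := by
  rw [validPerm, beq_iff_eq]
  refine Nat.eq_of_testBit_eq fun i => Bool.eq_iff_iff.2 ?_
  rw [imgMask, testBit_imgAux, show (16777215 : ℕ) = 2 ^ 24 - 1 from rfl,
    Nat.testBit_two_pow_sub_one, decide_eq_true_eq]
  constructor
  · rintro ⟨k, hk, -, he⟩
    rw [← he, ← idx_pt hk, ← h]
    exact idx_lt _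
  · intro hi
    refine ⟨idx (σ⁻¹ (pt i)), idx_lt _,
      by rw [Nat.testBit_two_pow_sub_one]; simpa using idx_lt _, ?_⟩
    rw [← h, Equiv.Perm.coe_inv, Equiv.apply_symm_apply, idx_pt hi]

theorem Cod.toPerm_eq {d : ℕ} {σ : Equiv.Perm GolayPt} (h : Cod d σ) : toPerm d = σ :=
  (cod_toPerm h.valid).inj h

theorem Cod.act_eq {d : ℕ} {σ : Equiv.Perm GolayPt} (h : Cod d σ) (c : ℕ) :
    act d c = actP σ c := by
  rw [← actP_toPerm h.valid, h.toPerm_eq]

theorem mk_congr {f g : ℕ → ℕ} (h : ∀ i < 24, f i = g i) : mk f = mk g := by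
  have key : ∀ n ≤ 24, mkAux f n = mkAux g n := by
    intro n hn
    induction n with
    | zero => rfl
    | succ k ih => rw [mkAux, mkAux, ih (by omega), h k (by omega)]
  exact key 24 le_rfl

/-- The images of the standard coordinates. -/
def colsOf (f : ℕ → ℕ) : List ℕ := (List.range 11).map fun i => f (2 ^ i)

theorem encAux_colsOf {f : ℕ → ℕ} (hf : ∀ a b, f (a ^^^ b) = f a ^^^ f b) {c : ℕ} (hc : c < 2048) :
    encAux (colsOf f) c = f c := by
  have h0 : f 0 = 0 := by have := hf 0 0; simpa using this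
  have key : ∀ (n i c : ℕ), c < 2 ^ n →
      encAux ((List.range' i n).map fun j => f (2 ^ j)) c = f (c * 2 ^ i) := by
    intro n
    induction n with
    | zero => intro i c hc; simp at hc; subst hc; simp [encAux, h0]
    | succ n ih =>
      intro i c hc
      rw [List.range'_succ, List.map_cons, encAux, ih (i + 1) (c / 2) (by rw [pow_succ] at hc; omega)]
      have hxor : c * 2 ^ i = c % 2 * 2 ^ i ^^^ c / 2 * 2 ^ (i + 1) := by
        refine Nat.eq_of_testBit_eq fun k => ?_
        rw [Nat.testBit_xor]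
        simp only [Nat.testBit_mul_two_pow]
        rcases lt_trichotomy k i with h | rfl | h
        · simp [Nat.not_le.2 h, Nat.not_le.2 (Nat.lt_succ_of_lt h)]
        · simp [Nat.testBit_zero]
        · obtain ⟨m, rfl⟩ : ∃ m, k = i + 1 + m := ⟨k - i - 1, by omega⟩
          have e1 : i + 1 + m - i = m + 1 := by omega
          have e2 : i + 1 + m - (i + 1) = m := by omega
          simp [e1, e2, Nat.testBit_succ, show i ≤ i + 1 + m by omega]
      rw [hxor, hf]
      congr 1
      rcases Nat.mod_two_eq_zero_or_one c with h2 | h2 <;> simp [h2, h0]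
  have := key 11 0 c hc
  simpa [colsOf, List.range_eq_range'] using this

/-- The order of a coded permutation, by repeated products. -/
def ordAux (ρ : ℕ) : ℕ → ℕ → ℕ → ℕ
  | 0, _, _ => 0
  | fuel + 1, cur, j => bif cur == idCode then j else ordAux ρ fuel (Order.comp ρ cur) (j + 1)

/-- The order of a coded permutation, `0` if above 30. -/
def ordOf (ρ : ℕ) : ℕ := ordAux ρ 31 (Order.comp ρ idCode) 1

/-- A code in normal form. -/
def Norm (d : ℕ) : Prop := ∃ f : ℕ → ℕ, (∀ i < 24, f i < 32) ∧ d = mk f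

theorem Norm.comp (a b : ℕ) : Norm (Order.comp a b) :=
  ⟨fun i => fn a (fn b i), fun _ _ => fn_lt32 _ _, rfl⟩

theorem Norm.eq_idCode {d : ℕ} (hd : Norm d) (h : Cod d 1) : d = idCode := by
  obtain ⟨f, hf, rfl⟩ := hd
  refine mk_congr fun i hi => ?_
  have := h (pt i)
  rw [Equiv.Perm.one_apply, idx_pt hi, fn_mk hf hi] at this
  exact this.symm

theorem ordAux_spec {ρ : ℕ} {σ : Equiv.Perm GolayPt} (hρ : Cod ρ σ) :
    ∀ (fuel cur j : ℕ), Norm cur → Cod cur (σ ^ j) → 0 < j →
      (∀ k, 0 < k → k < j → σ ^ k ≠ 1) → ordAux ρ fuel cur j ≠ 0 →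
      σ ^ ordAux ρ fuel cur j = 1 ∧ 0 < ordAux ρ fuel cur j ∧
        ∀ k, 0 < k → k < ordAux ρ fuel cur j → σ ^ k ≠ 1
  | 0, cur, j, _, _, _, _, h => absurd rfl h
  | fuel + 1, cur, j, hn, hc, hj, hmin, h => by
    rw [ordAux] at h ⊢
    by_cases he : cur = idCode
    · simp only [he, beq_self_eq_true, cond_true]
      subst he
      exact ⟨hc.inj cod_idCode, hj, hmin⟩
    · simp only [beq_eq_false_iff_ne.2 he, cond_false] at h ⊢
      refine ordAux_spec hρ fuel _ (j + 1) (Norm.comp _ _) ?_ (by omega) ?_ h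
      · rw [pow_succ']; exact hρ.comp hc
      · intro k hk hkj
        rcases Nat.lt_succ_iff_lt_or_eq.1 hkj with h' | rfl
        · exact hmin k hk h'
        · exact fun e => he (hn.eq_idCode (e ▸ hc))

theorem ordOf_spec {ρ : ℕ} {σ : Equiv.Perm GolayPt} (hρ : Cod ρ σ) (h : ordOf ρ ≠ 0) :
    σ ^ ordOf ρ = 1 ∧ 0 < ordOf ρ ∧ ∀ k, 0 < k → k < ordOf ρ → σ ^ k ≠ 1 :=
  ordAux_spec hρ 31 _ 1 (Norm.comp _ _)
    (by rw [pow_one]; simpa using hρ.comp cod_idCode)
    (by omega) (fun k h1 h2 => by omega) h

/-- The sum of the iterates of a linear map. -/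
def iterXor (cols : List ℕ) : ℕ → ℕ → ℕ
  | 0, _ => 0
  | n + 1, w => w ^^^ iterXor cols n (encAux cols w)

theorem iterXor_eq {ρ : Equiv.Perm GolayPt} (hρ : ρ ∈ M24) {cols : List ℕ}
    (hc : ∀ c < 2048, encAux cols c = actP ρ c) :
    ∀ (n j w : ℕ), w < 2048 →
      iterXor cols n (actP (ρ ^ j) w) ^^^ Ctx.orbitSum ρ w j = Ctx.orbitSum ρ w (j + n)
  | 0, j, w, _ => by simp [iterXor]
  | n + 1, j, w, hw => by
    rw [iterXor, hc _ (actP_lt' _ _), ← actP_mul hρ, ← pow_succ',
      show j + (n + 1) = j + 1 + n by omega, ← iterXor_eq hρ hc n (j + 1) w hw,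
      show Ctx.orbitSum ρ w (j + 1) = Ctx.orbitSum ρ w j ^^^ actP (ρ ^ j) w from rfl]
    ac_rfl

theorem iterXor_xor {cols : List ℕ} :
    ∀ (n a b : ℕ), iterXor cols n (a ^^^ b) = iterXor cols n a ^^^ iterXor cols n b
  | 0, a, b => by simp [iterXor]
  | n + 1, a, b => by
    rw [iterXor, iterXor, iterXor, encAux_xor, iterXor_xor n]; ac_rfl

theorem encAux_iterXor (cols : List ℕ) (n : ℕ) {c : ℕ} (hc : c < 2048) :
    encAux (colsOf fun w => iterXor cols n w) c = iterXor cols n c :=
  encAux_colsOf (f := iterXor cols n) (iterXor_xor n) hc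

theorem iterXor_orbitSum {ρ : Equiv.Perm GolayPt} (hρ : ρ ∈ M24) {cols : List ℕ}
    (hc : ∀ c < 2048, encAux cols c = actP ρ c) (n : ℕ) {w : ℕ} (hw : w < 2048) :
    iterXor cols n w = Ctx.orbitSum ρ w n := by
  have h := iterXor_eq hρ hc n 0 w hw
  rw [pow_zero, actP_one hw, Nat.zero_add] at h
  rw [← h, show Ctx.orbitSum ρ w 0 = 0 from rfl, Nat.xor_zero]

/-! ### Seeds and labels -/

/-- A coded element of square one with a code carrying it to a base element and, where the first
coordinate is reduced, coset representatives with generators of the commutators. -/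
structure Seed where
  code : ℕ
  kind : ℕ
  conj : ℕ
  reps : List ℕ
  es : List ℕ
  aux : List ℕ := []

/-- The base permutation of a kind. -/
def baseCode (k : ℕ) : ℕ :=
  if k = 1 then GolayInvol.invRepFix else if k = 2 then GolayInvol.invRepFree else idCode

/-- A listed member of a class over a base permutation: label, commuting code, base, words. -/
structure ClassRow where
  lab : ℕ
  g : ℕ
  es : List ℕ

/-- The label of a coordinate over a base permutation. -/
def labBase (masks : ℕ × ℕ) (k a : ℕ) : ℕ :=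
  if k = 1 then (if masks.1.testBit a then 1 else 0)
  else if k = 2 then (if masks.2.testBit a then 3 else 2)
  else if a = 0 then 6 else if clsT a then 5 else 4

/-- The label of an element over a seed. -/
def Seed.lab (masks : ℕ × ℕ) (s : Seed) (a : ℕ) : ℕ :=
  if s.kind = 1 ∨ s.kind = 2 then labBase masks s.kind (act s.conj a) else labBase masks 0 a

/-- The seed is correct. -/
def Seed.ok (x : ℕ) (s : Seed) : Bool :=
  invOK x s.code && isAut s.conj && decide (s.kind ≤ 2) &&
    (s.kind != 0 || s.code == idCode) &&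
    (List.range 24).all fun i => fn s.conj (fn s.code i) == fn (baseCode s.kind) (fn s.conj i)

/-- The positions below 2048 of the set bits. -/
def bitList (m : ℕ) : List ℕ := (List.range 2048).filter fun c => m.testBit c

/-- The fixed coordinates of a coded permutation, listed. -/
def fixList (code : ℕ) : List ℕ := bitList (fixSet code)

/-- All listed coordinates are fixed. -/
def fixOK (code : ℕ) : Bool :=
  let cols := colsOf (act code)
  (fixList code).all fun c => encAux cols c == c

theorem fixList_spec {d : ℕ} {σ : Equiv.Perm GolayPt} (hd : Cod d σ) (h : fixOK d = true) :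
    (fixList d).toFinset = Ctx.fixC σ ∧ (fixList d).Nodup := by
  classical
  refine ⟨?_, List.nodup_range.filter _⟩
  simp only [fixOK, List.all_eq_true, beq_iff_eq] at h
  ext c
  rw [List.mem_toFinset, Ctx.mem_fixC]
  constructor
  · intro hc
    have hlt : c < 2048 := by
      simpa using (List.mem_filter.1 hc).1
    refine ⟨hlt, ?_⟩
    have := h c hc
    rwa [encAux_colsOf (act_xor hd.valid) hlt, hd.act_eq] at this
  · rintro ⟨hlt, hf⟩
    exact List.mem_filter.2 ⟨List.mem_range.2 hlt,
      testBit_fixSet hd.valid hlt (by rw [hd.act_eq, hf])⟩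

/-- The reduction data cover the fixed coordinates once. -/
def Seed.redOK (s : Seed) : Bool :=
  let cols := colsOf (act s.code)
  let L := s.reps.flatMap fun a => s.es.map fun e => a ^^^ (e ^^^ encAux cols e)
  let F := fixList s.code
  fixOK s.code && s.es.all (fun e => decide (e < 2048)) &&
    L.all (fun c => decide (c < 2048) && encAux cols c == c) && s.reps.all (fun a => F.contains a) &&
    GolayOrbitLists.allNew L .nil && L.length == F.length

/-- The pairs of coordinates with the element `x` in the group generated by their product. -/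
def hitsOf (x : ℕ) (scode tcode : ℕ) (as bs : List ℕ) : List (ℕ × ℕ) :=
  let ρ := Order.comp scode tcode
  let d := ordOf ρ
  let colr := colsOf (act ρ)
  let colL := colsOf (fun w => iterXor colr d w)
  let cols := colsOf (act scode)
  let bl := bs.map fun b => (b, encAux colL (encAux cols b))
  as.flatMap fun a =>
    let t := encAux colL a
    (bl.filter fun p => (t ^^^ p.2) == x).map fun p => (a, p.1)

/-- The product has a small order. -/
def ordOK (scode tcode : ℕ) : Bool := ordOf (Order.comp scode tcode) != 0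

end Cfsg.Agent.J4Type.Order

namespace Cfsg.Agent.J4Type.TwoTen.Ctx

open Cfsg.Agent.J4Type.Order

variable {G : Type*} [Group G] [Finite G] (C : Ctx G)

local notation "NV" => Subgroup.normalizer (C.D.V : Set G)

theorem mem_hits {x : ℕ} (hx : x < 2048) (hx0 : x ≠ 0) {sc tc : ℕ} (hs : invOK x sc = true)
    (ht : invOK x tc = true) (hord : ordOK sc tc = true) {a b : ℕ} (ha : a < 2048) (hb : b < 2048) :
    C.vv x ∈ Subgroup.zpowers (C.ee a (toPerm sc) * C.ee b (toPerm tc)) ↔
      (encAux (colsOf fun w => iterXor (colsOf (act (Order.comp sc tc))) (ordOf (Order.comp sc tc)) w) a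
        ^^^ encAux (colsOf fun w =>
            iterXor (colsOf (act (Order.comp sc tc))) (ordOf (Order.comp sc tc)) w)
          (encAux (colsOf (act sc)) b)) = x := by
  obtain ⟨hsI, hsc⟩ := invOK_spec hx hs
  obtain ⟨htI, htc⟩ := invOK_spec hx ht
  have hsM := (mem_Invs.1 hsI).1.1
  have htM := (mem_Invs.1 htI).1.1
  have hρ := hsc.comp htc
  have hρM := mul_mem hsM htM
  obtain ⟨h1, h0, hmin⟩ := ordOf_spec hρ (by simpa [ordOK] using hord)
  generalize ordOf (Order.comp sc tc) = d at h1 h0 hmin ⊢
  generalize Order.comp sc tc = ρc at hρ ⊢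
  rw [C.ee_mul hsM htM, C.mem_zpowers_ee hx hx0 hρM _ h1 h0 hmin,
    encAux_colsOf (act_xor hsc.valid) hb, hsc.act_eq,
    encAux_iterXor _ _ ha, encAux_iterXor _ _ (actP_lt' _ _), ← iterXor_xor]
  have hw : a ^^^ actP (toPerm sc) b < 2048 := Nat.xor_lt_two_pow (n := 11) ha (actP_lt' _ _)
  rw [iterXor_orbitSum hρM (cols := colsOf (act ρc))
    (fun c hc => by rw [encAux_colsOf (act_xor hρ.valid) hc, hρ.act_eq]) _ hw]

theorem sum_hits {x : ℕ} (hx : x < 2048) (hx0 : x ≠ 0) {sc tc : ℕ} (hs : invOK x sc = true)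
    (ht : invOK x tc = true) (hord : ordOK sc tc = true) {as bs : List ℕ}
    (has : ∀ a ∈ as, a < 2048) (hbs : ∀ b ∈ bs, b < 2048) {M : Type*} [AddCommMonoid M]
    (W : G → G → M) (Φ : ℕ → ℕ → M)
    (hW : ∀ a ∈ as, ∀ b ∈ bs,
      (C.vv x ∈ Subgroup.zpowers (C.ee a (toPerm sc) * C.ee b (toPerm tc)) →
        W (C.ee a (toPerm sc)) (C.ee b (toPerm tc)) = Φ a b) ∧
      (C.vv x ∉ Subgroup.zpowers (C.ee a (toPerm sc) * C.ee b (toPerm tc)) →
        W (C.ee a (toPerm sc)) (C.ee b (toPerm tc)) = 0)) :
    (as.map fun a => (bs.map fun b => W (C.ee a (toPerm sc)) (C.ee b (toPerm tc))).sum).sum =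
      ((hitsOf x sc tc as bs).map fun p => Φ p.1 p.2).sum := by
  classical
  simp only [hitsOf]
  set colL := colsOf fun w =>
    iterXor (colsOf (act (Order.comp sc tc))) (ordOf (Order.comp sc tc)) w with hcolL
  induction as with
  | nil => simp
  | cons a as ih =>
    rw [List.map_cons, List.sum_cons, List.flatMap_cons, List.map_append, List.sum_append,
      ih (fun b hb => has b (List.mem_cons_of_mem _ hb))
        fun b hb => hW b (List.mem_cons_of_mem _ hb)]
    congr 1
    have ha := has a List.mem_cons_self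
    have hWa := hW a List.mem_cons_self
    clear ih hW has
    induction bs with
    | nil => simp
    | cons b bs ih =>
      have hih := ih (fun c hc => hbs c (List.mem_cons_of_mem _ hc))
        fun c hc => hWa c (List.mem_cons_of_mem _ hc)
      have hiff := C.mem_hits hx hx0 hs ht hord ha (hbs b List.mem_cons_self)
      rw [List.map_cons, List.sum_cons, hih, List.map_cons, List.filter_cons]
      by_cases hm : C.vv x ∈ Subgroup.zpowers (C.ee a (toPerm sc) * C.ee b (toPerm tc))
      · rw [(hWa b List.mem_cons_self).1 hm]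
        simp only [hcolL, (beq_iff_eq).2 (hiff.1 hm), if_true, List.map_cons, List.sum_cons]
      · rw [(hWa b List.mem_cons_self).2 hm, zero_add]
        simp only [hcolL, beq_eq_false_iff_ne.2 (mt hiff.2 hm), Bool.false_eq_true, if_false]

/-- **A sum over two fibres as a sum over the hits.** -/
theorem pairF_hits {x : ℕ} (hx : x < 2048) (hx0 : x ≠ 0) {s : Seed} {tc : ℕ}
    (hs : invOK x s.code = true) (ht : invOK x tc = true) (hred : s.redOK = true)
    (hfix : fixOK tc = true) (hord : ordOK s.code tc = true) {M : Type*} [AddCommMonoid M]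
    {W : G → G → M} (hWc : C.ConjInv x W) (Φ : ℕ → ℕ → M)
    (hW : ∀ a ∈ fixC (toPerm s.code), ∀ b ∈ fixC (toPerm tc),
      (C.vv x ∈ Subgroup.zpowers (C.ee a (toPerm s.code) * C.ee b (toPerm tc)) →
        W (C.ee a (toPerm s.code)) (C.ee b (toPerm tc)) = Φ a b) ∧
      (C.vv x ∉ Subgroup.zpowers (C.ee a (toPerm s.code) * C.ee b (toPerm tc)) →
        W (C.ee a (toPerm s.code)) (C.ee b (toPerm tc)) = 0)) :
    C.pairF W (toPerm s.code) (toPerm tc) =
      s.es.length • ((hitsOf x s.code tc s.reps (fixList tc)).map fun p => Φ p.1 p.2).sum := by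
  classical
  obtain ⟨hsI, hsc⟩ := invOK_spec hx hs
  obtain ⟨htI, htc⟩ := invOK_spec hx ht
  obtain ⟨hfb, hndb⟩ := fixList_spec htc hfix
  simp only [Seed.redOK, Bool.and_eq_true, List.all_eq_true, decide_eq_true_eq, beq_iff_eq,
    List.contains_iff_mem] at hred
  obtain ⟨⟨⟨⟨⟨hfs, hes⟩, hL⟩, hin⟩, hnew⟩, hlen⟩ := hred
  obtain ⟨hfa, hnda⟩ := fixList_spec hsc hfs
  have hreps : ∀ a ∈ s.reps, a ∈ fixC (toPerm s.code) := fun a ha => by
    rw [← hfa]; exact List.mem_toFinset.2 (hin a ha)
  have heq : (s.reps.flatMap fun a => s.es.map fun e => a ^^^ (e ^^^ encAux (colsOf (act s.code)) e)) =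
      s.reps.flatMap fun a => s.es.map fun e => a ^^^ (e ^^^ actP (toPerm s.code) e) := by
    refine List.flatMap_congr fun a _ => List.map_congr_left fun e he => ?_
    rw [encAux_colsOf (act_xor hsc.valid) (hes e he), hsc.act_eq]
  have hnd := (GolayOrbitLists.allNew_spec _ _ hnew).1
  rw [C.pairF_reduce hx hWc hsI htI s.reps s.es hes hreps ?_ (heq ▸ hnd)]
  · congr 1
    rw [← C.sum_hits hx hx0 hs ht hord (fun a ha => (mem_fixC.1 (hreps a ha)).1)
      (fun b hb => (mem_fixC.1 (hfb ▸ List.mem_toFinset.2 hb)).1) W Φ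
      fun a ha b hb => hW a (hreps a ha) b (hfb ▸ List.mem_toFinset.2 hb)]
    congr 1
    refine List.map_congr_left fun a _ => ?_
    rw [← hfb, List.sum_toFinset _ hndb]
  · refine Finset.eq_of_subset_of_card_le (fun c hc => ?_) ?_
    · rw [List.mem_toFinset, ← heq] at hc
      obtain ⟨hlt, hcf⟩ := hL c hc
      rw [encAux_colsOf (act_xor hsc.valid) hlt, hsc.act_eq] at hcf
      exact mem_fixC.2 ⟨hlt, hcf⟩
    · rw [← heq, List.toFinset_card_of_nodup hnd, hlen, ← hfa, List.toFinset_card_of_nodup hnda]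

theorem fixC_one : fixC (1 : Equiv.Perm GolayPt) = Finset.range 2048 := by
  ext a; rw [mem_fixC, Finset.mem_range]
  exact ⟨And.left, fun h => ⟨h, actP_one h⟩⟩

/-- **The fibres over the identity.** -/
theorem pairF_ident {x : ℕ} (hx : x < 2048) (hx0 : x ≠ 0) {M : Type*} [AddCommMonoid M]
    (W : G → G → M) (Φ : ℕ → ℕ → M)
    (hW : ∀ a < 2048, ∀ b < 2048,
      (C.vv x ∈ Subgroup.zpowers (C.ee a 1 * C.ee b 1) → W (C.ee a 1) (C.ee b 1) = Φ a b) ∧
      (C.vv x ∉ Subgroup.zpowers (C.ee a 1 * C.ee b 1) → W (C.ee a 1) (C.ee b 1) = 0)) :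
    C.pairF W 1 1 = ((List.range 2048).map fun a => Φ a (a ^^^ x)).sum := by
  classical
  rw [pairF, fixC_one, ← List.sum_toFinset _ List.nodup_range,
    show (List.range 2048).toFinset = Finset.range 2048 by ext; simp]
  refine Finset.sum_congr rfl fun a ha => ?_
  have ha' := Finset.mem_range.1 ha
  have hb' : a ^^^ x < 2048 := Nat.xor_lt_two_pow (n := 11) ha' hx
  have key : ∀ b < 2048, C.vv x ∈ Subgroup.zpowers (C.ee a 1 * C.ee b 1) ↔ b = a ^^^ x := by
    intro b hb
    have hw : a ^^^ b < 2048 := Nat.xor_lt_two_pow (n := 11) ha' hb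
    rw [C.ee_mul (one_mem _) (one_mem _), one_mul, actP_one hb,
      C.mem_zpowers_ee hx hx0 (one_mem _) _ (pow_one 1) one_pos (fun j h1 h2 => by omega)]
    show 0 ^^^ actP (1 ^ 0) (a ^^^ b) = x ↔ _
    rw [pow_zero, actP_one hw, Nat.zero_xor]
    constructor
    · intro h; rw [← h, ← Nat.xor_assoc, Nat.xor_self, Nat.zero_xor]
    · intro h; rw [h, ← Nat.xor_assoc, Nat.xor_self, Nat.zero_xor]
  rw [Finset.sum_eq_single (a ^^^ x) (fun b hb hne => (hW a ha' b (Finset.mem_range.1 hb)).2
      fun hm => hne ((key b (Finset.mem_range.1 hb)).1 hm))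
    fun h => absurd (Finset.mem_range.2 hb') h]
  exact (hW a ha' _ hb').1 ((key _ hb').2 rfl)

end Cfsg.Agent.J4Type.TwoTen.Ctx

namespace Cfsg.Agent.J4Type.Order

/-! ### Tables -/

/-- Add `w` at position `i`. -/
def bump : List ℕ → ℕ → ℕ → List ℕ
  | [], _, _ => []
  | v :: l, 0, w => (v + w) :: l
  | v :: l, i + 1, w => v :: bump l i w

/-- The sum of the selected entries. -/
def evalTab (sel : ℕ → Bool) : List ℕ → ℕ → ℕ
  | [], _ => 0
  | v :: l, i => (bif sel i then v else 0) + evalTab sel l (i + 1)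

theorem evalTab_bump (sel : ℕ → Bool) : ∀ (l : List ℕ) (i j w : ℕ), i < l.length →
    evalTab sel (bump l i w) j = evalTab sel l j + bif sel (j + i) then w else 0
  | [], i, _, _, h => by simp at h
  | v :: l, 0, j, w, _ => by
    simp only [bump, evalTab, Nat.add_zero]
    cases sel j <;> simp <;> omega
  | v :: l, i + 1, j, w, h => by
    simp only [bump, evalTab]
    rw [evalTab_bump sel l i (j + 1) w (by simpa using h), show j + 1 + i = j + (i + 1) by omega]
    omega

theorem length_bump : ∀ (l : List ℕ) (i w : ℕ), (bump l i w).length = l.length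
  | [], _, _ => rfl
  | _ :: _, 0, _ => rfl
  | _ :: l, i + 1, w => by simp [bump, length_bump l i w]

/-- The table of a list of hits. -/
def tabHits {α : Type} (pos wt : α → ℕ) (n : ℕ) : List α → List ℕ
  | [] => List.replicate n 0
  | p :: l => bump (tabHits pos wt n l) (pos p) (wt p)

theorem tabHits_spec {α : Type} (sel : ℕ → Bool) (pos wt : α → ℕ) (n : ℕ) :
    ∀ l : List α, (∀ p ∈ l, pos p < n) →
      (tabHits pos wt n l).length = n ∧
      evalTab sel (tabHits pos wt n l) 0 =
        (l.map fun p => bif sel (pos p) then wt p else 0).sum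
  | [], _ => by
    refine ⟨by simp [tabHits], ?_⟩
    have : ∀ m j, evalTab sel (List.replicate m 0) j = 0 := by
      intro m
      induction m with
      | zero => intro j; rfl
      | succ m ih => intro j; simp [List.replicate_succ, evalTab, ih]
    simpa [tabHits] using this n 0
  | p :: l, h => by
    obtain ⟨h1, h2⟩ := tabHits_spec sel pos wt n l fun q hq => h q (List.mem_cons_of_mem _ hq)
    refine ⟨by rw [tabHits, length_bump, h1], ?_⟩
    rw [tabHits, evalTab_bump _ _ _ _ _ (h1.symm ▸ h p List.mem_cons_self), h2, Nat.zero_add,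
      List.map_cons, List.sum_cons, add_comm]

/-- The entrywise combination `k • l + m`. -/
def addMul (k : ℕ) : List ℕ → List ℕ → List ℕ
  | a :: l, b :: m => (k * a + b) :: addMul k l m
  | _, _ => []

theorem evalTab_addMul (sel : ℕ → Bool) (k : ℕ) : ∀ (l m : List ℕ) (j : ℕ), l.length = m.length →
    evalTab sel (addMul k l m) j = k * evalTab sel l j + evalTab sel m j
  | [], [], _, _ => by simp [addMul, evalTab]
  | [], _ :: _, _, h => by simp at h
  | _ :: _, [], _, h => by simp at h
  | a :: l, b :: m, j, h => by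
    simp only [addMul, evalTab]
    rw [evalTab_addMul sel k l m (j + 1) (by simpa using h)]
    cases sel j <;> simp <;> ring

theorem length_addMul (k : ℕ) : ∀ (l m : List ℕ), l.length = m.length →
    (addMul k l m).length = m.length
  | [], [], _ => rfl
  | [], _ :: _, h => by simp at h
  | _ :: _, [], h => by simp at h
  | a :: l, b :: m, h => by simp [addMul, length_addMul k l m (by simpa using h)]

/-- The weighted total of tables of width `n`. -/
def totTab (n : ℕ) : List (ℕ × List ℕ) → List ℕ
  | [] => List.replicate n 0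
  | e :: l => addMul e.1 e.2 (totTab n l)

theorem totTab_spec (sel : ℕ → Bool) (n : ℕ) :
    ∀ l : List (ℕ × List ℕ), (∀ e ∈ l, e.2.length = n) →
      (totTab n l).length = n ∧
      evalTab sel (totTab n l) 0 = (l.map fun e => e.1 * evalTab sel e.2 0).sum
  | [], _ => by
    refine ⟨by simp [totTab], ?_⟩
    have : ∀ m j, evalTab sel (List.replicate m 0) j = 0 := by
      intro m
      induction m with
      | zero => intro j; rfl
      | succ m ih => intro j; simp [List.replicate_succ, evalTab, ih]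
    simpa [totTab] using this n 0
  | e :: l, h => by
    obtain ⟨h1, h2⟩ := totTab_spec sel n l fun q hq => h q (List.mem_cons_of_mem _ hq)
    have he := (h e List.mem_cons_self).trans h1.symm
    refine ⟨by rw [totTab, length_addMul _ _ _ he, h1], ?_⟩
    rw [totTab, evalTab_addMul _ _ _ _ _ he, h2, List.map_cons, List.sum_cons]

end Cfsg.Agent.J4Type.Order
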