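import Cfsg.Agent.Lib.J4Type.Order.DataT

/-
Groups of Janko-four type, order formula: one row of the involution lists (owner: helper43).
-/

set_option autoImplicit false
set_option maxRecDepth 100000

namespace Cfsg.Agent.J4Type.Order

theorem rowT0_orbs : rowT0.checkOrbs xT 2872 tabT0 = true := by decide +kernel

theorem rowT0_cen : rowT0.checkCen xT covT.order = true := by decide +kernel

end Cfsg.Agent.J4Type.Order
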