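import Cfsg.Agent.Lib.J4Type.Order.LabelData

/-
Groups of Janko-four type, order formula: seeds and rows for the stabiliser of a duad (owner: helper43; generated).
-/

set_option autoImplicit false
set_option maxRecDepth 100000

namespace Cfsg.Agent.J4Type.Order

def seedT0 : Seed :=
  { code := 0xbdab49ca307b9ac5a928398a418820, kind := 0, conj := 0xbdab49ca307b9ac5a928398a418820,
    reps := [], es := [] }

def seedT1 : Seed :=
  { code := 0xb9e086be3593a6952d94b10a618820, kind := 1, conj := 0x1b1f502caa412f410533919c78b6d0,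
    reps := [0, 4, 32, 36, 282, 286, 314, 318],
    es := [0, 1, 2, 3, 8, 9, 10, 11, 16, 17, 18, 19, 24, 25, 26, 27] }

def seedT2 : Seed :=
  { code := 0x4133a31d63c5b259aa87a8a418837, kind := 1, conj := 0x9be57050ea599a9b0590408642ba35,
    reps := [0, 21, 141, 152, 524, 537, 641, 660],
    es := [0, 1, 2, 3, 4, 5, 6, 7, 8, 9, 10, 11, 12, 13, 14, 15] }

def seedT3 : Seed :=
  { code := 0x46954b2ce3c0b241a6b7a9a320457, kind := 2, conj := 0xbdab49ca307b9ac5a928398a418820,
    reps := [0, 20],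
    es := [0, 1, 2, 3, 4, 5, 6, 7, 8, 9, 10, 11, 12, 13, 14, 15, 128, 129, 130, 131, 132, 133, 134, 135, 136, 137, 138, 139, 140, 141, 142, 143] }

def seedT4 : Seed :=
  { code := 0xb99b28523343aaa4b16f258a718820, kind := 1, conj := 0x6d42fba860a584b9218934e27815c4,
    reps := [], es := [] }

def seedT5 : Seed :=
  { code := 0xbc92655a2c3b9706cea47d0a818820, kind := 1, conj := 0x68588a89d43d809bce4f32c6a84485,
    reps := [], es := [] }

def seedT6 : Seed :=
  { code := 0xbc533a4ace340ac59ea853da320820, kind := 1, conj := 0x1cc2a7daaca48f185c45024cb411cd,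
    reps := [], es := [] }

def seedT7 : Seed :=
  { code := 0xbbaab9bda595a2aa310939a0320820, kind := 1, conj := 0xb4a0b189f70b15442675714063922d,
    reps := [], es := [] }

def seedT8 : Seed :=
  { code := 0xbd8cf3b1d0a45b24254b9d46428820, kind := 1, conj := 0x1c18fa816552097a08299c8ce3c5b6,
    reps := [], es := [] }

def seedT9 : Seed :=
  { code := 0xbda6aaacb048da8951ec31e2470820, kind := 1, conj := 0x8968c4856e99c8f14aaa05d1030ecd,
    reps := [], es := [] }

def seedT10 : Seed :=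
  { code := 0xbad106be349166cb1d35519c410c20, kind := 1, conj := 0x8b122aae014026d91dd435ae553c83,
    reps := [], es := [] }

def seedT11 : Seed :=
  { code := 0xbc1679ca367b1aeaa0aaa0d2231020, kind := 1, conj := 0x6acd52c068b2a2f3b1329868015c8e,
    reps := [], es := [] }

def seedT12 : Seed :=
  { code := 0xbd9f24522daa6035a9d3394c261020, kind := 1, conj := 0x8b9e8badb550a6924020b4986a1ca3,
    reps := [], es := [] }

def seedT13 : Seed :=
  { code := 0xb9e9594e2868dec52d30b184471420, kind := 1, conj := 0xb0022a260ba9e6d930a8b914333e2e,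
    reps := [], es := [] }

def seedT14 : Seed :=
  { code := 0xbba69aca117d8ac42a8b399a320440, kind := 1, conj := 0x2824a634e61dc50439ebb10359a691,
    reps := [], es := [] }

def seedT15 : Seed :=
  { code := 0xb9eb49c8cf8290c1b92db444159480, kind := 1, conj := 0x89cad192e85a450ad1c1301f29a996,
    reps := [], es := [] }

def seedT16 : Seed :=
  { code := 0x3ab49b211558b25bd2831da320837, kind := 1, conj := 0x6062481d3478aa66a86505e685bad2,
    reps := [], es := [] }

def seedT17 : Seed :=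
  { code := 0x5a72ad22d40e0952d8f398a470837, kind := 1, conj := 0xbd8e1309d492d3553e6c2c083445a0,
    reps := [], es := [] }

def seedT18 : Seed :=
  { code := 0x59147ca309b1ae52c75394c249037, kind := 1, conj := 0x38d319d88eade0053e542ad01609a6,
    reps := [], es := [] }

def seedT19 : Seed :=
  { code := 0x3a68aa9a565a2f4c97431e0320457, kind := 2, conj := 0x2c2674aeec0b802520cf20e568d2ad,
    reps := [], es := [] }

def seedT20 : Seed :=
  { code := 0x58ea349d04c5ac5d1e8acc6428457, kind := 1, conj := 0xb527795649a2c389aaea2a50602e2,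
    reps := [], es := [] }

def seedT21 : Seed :=
  { code := 0x49f3a59ccac570698e44a86828457, kind := 2, conj := 0xb527795649a2c389aaea2a50602e2,
    reps := [], es := [] }

def seedT22 : Seed :=
  { code := 0x5aaf9a0b0a0dab6255239a2470457, kind := 1, conj := 0xa36078a90e356c0bc98f20d6598829,
    reps := [], es := [] }

def seedT23 : Seed :=
  { code := 0x1e126d0b540e6a4b16fb122670457, kind := 2, conj := 0xdcf89c3054ac9a4ea62344562177,
    reps := [], es := [] }

def seedT24 : Seed :=
  { code := 0x40e932cb650c8893e8cace2d70457, kind := 2, conj := 0xb065301882a15675552f65c686ba11,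
    reps := [], es := [] }

def seedT25 : Seed :=
  { code := 0x22496556f828f38ba9668c4131497, kind := 2, conj := 0xb85949ca0321d0973ea25d8aa8b4c0,
    reps := [], es := [] }

def seedT26 : Seed :=
  { code := 0x1e72ad0c86ade970d90b444151497, kind := 2, conj := 0x230ea79a967060d120b1956e958263,
    reps := [], es := [] }

def seedT27 : Seed :=
  { code := 0x314f2ba11a49363d5a358a6141897, kind := 2, conj := 0x68a90b8d0b710e1955f162813b1925,
    reps := [], es := [] }

def seedT28 : Seed :=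
  { code := 0x3d6a70cc5b4ce9ad1826c60192097, kind := 2, conj := 0x56c46c24fa154288c29330e874d77,
    reps := [], es := [] }

def seedT29 : Seed :=
  { code := 0x5a086bc3590e6c5a9343984471637, kind := 1, conj := 0x4c26193d75501836c6c22b8e4b9914,
    reps := [], es := [] }

def seedT30 : Seed :=
  { code := 0x1a6faa02da0e0a4b1722584771637, kind := 2, conj := 0x88c33151e84c16cbc8152914d718f6,
    reps := [], es := [] }

def seedT31 : Seed :=
  { code := 0xbb6aa9a1c44c6cb651f23987028820, kind := 1, conj := 0xb21b221de00a969a30468ba77a9603,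
    reps := [], es := [] }

def seedT32 : Seed :=
  { code := 0xbd933a4a303b88c41aab7a86d28440, kind := 1, conj := 0x215f3ab4709591148954606eb01cce,
    reps := [], es := [] }

def seedT33 : Seed :=
  { code := 0xb96b49c88d40e0c52d2f106d171cc0, kind := 1, conj := 0xb0471242b779c05649aaa2c533250e,
    reps := [], es := [] }

def seedT34 : Seed :=
  { code := 0x351459e30516c69bd35931c418837, kind := 1, conj := 0x24d09a0b112a92a84875b1e3759b7,
    reps := [], es := [] }

def seedT35 : Seed :=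
  { code := 0x32aa341d27c5766d1243cca818837, kind := 1, conj := 0xba9d549d86b484f0ce288506b690a0,
    reps := [], es := [] }

def seedT36 : Seed :=
  { code := 0x20ea9b62b7ba4485136a986c28837, kind := 1, conj := 0xa9881d48973666a2e2f91407bc2c2,
    reps := [], es := [] }

def seedT37 : Seed :=
  { code := 0x2d474b5c834644b5670a3c6c28457, kind := 2, conj := 0x71162552e5782a91a0cd09ed38c990,
    reps := [], es := [] }

def seedT38 : Seed :=
  { code := 0x42b49b1d67c4924292b3986d28457, kind := 1, conj := 0xba2cd2098b749e138e068968a4d660,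
    reps := [], es := [] }

def seedT39 : Seed :=
  { code := 0x3e2d72eaab4e889408c28ce930457, kind := 2, conj := 0x61ec345e2d7ac89014d30b84a852b2,
    reps := [], es := [] }

def seedT40 : Seed :=
  { code := 0x1269ab0a3435d252e8f1063681cd7, kind := 2, conj := 0xb9251638a9352b03beca0ada398900,
    reps := [], es := [] }

def seedT41 : Seed :=
  { code := 0xbc0ea332364b892451ebaccad18820, kind := 1, conj := 0xb065301882a15675552f65c686ba11,
    reps := [], es := [] }

def seedT42 : Seed :=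
  { code := 0xbb4c93ae2453ac893e8c9d4b018820, kind := 1, conj := 0x685f4381c8ac052bcd2c32a2bb0c85,
    reps := [], es := [] }

def seedT43 : Seed :=
  { code := 0xbc269ac9d65448c5be8831c6d28820, kind := 1, conj := 0x8bd175b6aa14d2480416930d43946e,
    reps := [], es := [] }

def seedT44 : Seed :=
  { code := 0xba63074ab424d4c5b6c828cef30820, kind := 1, conj := 0x8d6e9910144302e80a6d3bccb516c3,
    reps := [], es := [] }

def seedT45 : Seed :=
  { code := 0xbb4ef348a4a0ecc5a548ace3070820, kind := 1, conj := 0x1864b9952a45c4471cd06568f03636,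
    reps := [], es := [] }

def seedT46 : Seed :=
  { code := 0xbaa959ca28795a93d990591c610c20, kind := 1, conj := 0x23e7568e12b222912a8c0dd60399c5,
    reps := [], es := [] }

def seedT47 : Seed :=
  { code := 0x3eb03ae34b154c93488999c918837, kind := 1, conj := 0x5d206bb087486719554e0584f68ca8,
    reps := [], es := [] }

def seedT48 : Seed :=
  { code := 0x59e6549d0ac48c44ceb4d0ad18837, kind := 1, conj := 0x452f640c5a1c4dac9135a881b3877,
    reps := [], es := [] }

def seedT49 : Seed :=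
  { code := 0x4eb0b2a343b9666c9287b0a410c37, kind := 1, conj := 0xbd6269d0a710d0a5a5d00bc96649a0,
    reps := [], es := [] }

def seedT50 : Seed :=
  { code := 0x366faadc4a46c89254c31c7028457, kind := 2, conj := 0x685f4381c8ac052bcd2c32a2bb0c85,
    reps := [], es := [] }

def seedT51 : Seed :=
  { code := 0x49ca2d8e84d58d251f088e6b30457, kind := 2, conj := 0x6b9737c0321a2e0b248c128f135685,
    reps := [], es := [] }

def seedT52 : Seed :=
  { code := 0x3933a32113587241eab53c8568457, kind := 2, conj := 0xa8230725923dcb30aac233c646a174,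
    reps := [], es := [] }

def seedT53 : Seed :=
  { code := 0x34ca3b0a448ed2451eb9d63070457, kind := 2, conj := 0xbb82443d316d60750ca658a76a4980,
    reps := [], es := [] }

def seedT54 : Seed :=
  { code := 0x21b129e8952ea673e169326209077, kind := 2, conj := 0x9512645d5168663116d50116f81dcc,
    reps := [], es := [] }

def seedT55 : Seed :=
  { code := 0x26486d5cf8466752ed46104609477, kind := 2, conj := 0xbccee8bd0a32ed52b530a11830c840,
    reps := [], es := [] }

def seedT56 : Seed :=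
  { code := 0x40e6531d64c5726cde4ad04809477, kind := 2, conj := 0xba9d549d86b484f0ce288506b690a0,
    reps := [], es := [] }

/-- The rows of the table of pairs. -/
def rowsT : List PairRow :=
   [⟨1, seedT0, seedT0, 2⟩,
    ⟨1155, seedT0, seedT1, 1⟩,
    ⟨330, seedT0, seedT2, 1⟩,
    ⟨1386, seedT0, seedT3, 1⟩,
    ⟨1155, seedT1, seedT0, 0⟩,
    ⟨1155, seedT1, seedT1, 0⟩,
    ⟨6930, seedT1, seedT4, 0⟩,
    ⟨9240, seedT1, seedT5, 0⟩,
    ⟨443520, seedT1, seedT6, 0⟩,
    ⟨221760, seedT1, seedT7, 0⟩,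
    ⟨110880, seedT1, seedT8, 0⟩,
    ⟨55440, seedT1, seedT9, 0⟩,
    ⟨27720, seedT1, seedT10, 0⟩,
    ⟨110880, seedT1, seedT11, 0⟩,
    ⟨55440, seedT1, seedT12, 0⟩,
    ⟨13860, seedT1, seedT13, 0⟩,
    ⟨221760, seedT1, seedT14, 0⟩,
    ⟨55440, seedT1, seedT15, 0⟩,
    ⟨55440, seedT1, seedT2, 0⟩,
    ⟨221760, seedT1, seedT16, 0⟩,
    ⟨13860, seedT1, seedT17, 0⟩,
    ⟨55440, seedT1, seedT18, 0⟩,
    ⟨443520, seedT1, seedT3, 0⟩,
    ⟨221760, seedT1, seedT19, 0⟩,
    ⟨18480, seedT1, seedT20, 0⟩,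
    ⟨55440, seedT1, seedT21, 0⟩,
    ⟨13860, seedT1, seedT22, 0⟩,
    ⟨13860, seedT1, seedT23, 0⟩,
    ⟨27720, seedT1, seedT24, 0⟩,
    ⟨110880, seedT1, seedT25, 0⟩,
    ⟨55440, seedT1, seedT26, 0⟩,
    ⟨443520, seedT1, seedT27, 0⟩,
    ⟨221760, seedT1, seedT28, 0⟩,
    ⟨2310, seedT1, seedT29, 0⟩,
    ⟨6930, seedT1, seedT30, 0⟩,
    ⟨330, seedT2, seedT0, 0⟩,
    ⟨55440, seedT2, seedT1, 0⟩,
    ⟨13860, seedT2, seedT5, 0⟩,
    ⟨221760, seedT2, seedT7, 0⟩,
    ⟨55440, seedT2, seedT31, 0⟩,
    ⟨13860, seedT2, seedT14, 0⟩,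
    ⟨2310, seedT2, seedT32, 0⟩,
    ⟨18480, seedT2, seedT33, 0⟩,
    ⟨330, seedT2, seedT2, 0⟩,
    ⟨36960, seedT2, seedT34, 0⟩,
    ⟨13860, seedT2, seedT35, 0⟩,
    ⟨55440, seedT2, seedT36, 0⟩,
    ⟨13860, seedT2, seedT3, 0⟩,
    ⟨110880, seedT2, seedT19, 0⟩,
    ⟨55440, seedT2, seedT37, 0⟩,
    ⟨2310, seedT2, seedT38, 0⟩,
    ⟨221760, seedT2, seedT39, 0⟩,
    ⟨55440, seedT2, seedT40, 0⟩,
    ⟨1386, seedT3, seedT0, 0⟩,
    ⟨443520, seedT3, seedT1, 0⟩,
    ⟨221760, seedT3, seedT5, 0⟩,
    ⟨55440, seedT3, seedT41, 0⟩,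
    ⟨110880, seedT3, seedT42, 0⟩,
    ⟨13860, seedT3, seedT6, 0⟩,
    ⟨6930, seedT3, seedT43, 0⟩,
    ⟨55440, seedT3, seedT44, 0⟩,
    ⟨27720, seedT3, seedT45, 0⟩,
    ⟨443520, seedT3, seedT10, 0⟩,
    ⟨221760, seedT3, seedT46, 0⟩,
    ⟨13860, seedT3, seedT2, 0⟩,
    ⟨110880, seedT3, seedT34, 0⟩,
    ⟨221760, seedT3, seedT47, 0⟩,
    ⟨55440, seedT3, seedT48, 0⟩,
    ⟨55440, seedT3, seedT49, 0⟩,
    ⟨1386, seedT3, seedT3, 0⟩,
    ⟨110880, seedT3, seedT19, 0⟩,
    ⟨55440, seedT3, seedT50, 0⟩,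
    ⟨110880, seedT3, seedT39, 0⟩,
    ⟨443520, seedT3, seedT51, 0⟩,
    ⟨6930, seedT3, seedT52, 0⟩,
    ⟨27720, seedT3, seedT53, 0⟩,
    ⟨221760, seedT3, seedT54, 0⟩,
    ⟨887040, seedT3, seedT55, 0⟩,
    ⟨55440, seedT3, seedT56, 0⟩]

end Cfsg.Agent.J4Type.Order
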