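import Cfsg.Agent.Lib.J4Type.Order.Kappa
import Cfsg.Agent.Lib.J4Type.Order.CertDefs
import Cfsg.Agent.Lib.Golay.Dodecad

/-
Groups of Janko-four type, order formula: meaning of the data of a seed over the sextet element (owner: helper81).

* `imgCode_cod` : the code of an image is the code of a permutation
* `theta_ee` : the identification map on an element over a seed
* `fHit_eq` : the number of common fixed hexads from the bit tables
-/

set_option autoImplicit false
set_option maxRecDepth 100000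
set_option linter.unusedSectionVars false
open scoped Pointwise
open Cfsg Cfsg.Agent.Golay Cfsg.Agent.J4Type Cfsg.Agent.J4Type.TwoTen
open Cfsg.Agent.M24Sylow hiding word

namespace Cfsg.Agent.J4Type.Order

theorem toPerm_ACode {j : ℕ} (hj : j < 16) : toPerm (ACode j) = Ael j := toPerm_aCode hj

theorem valid_ACode {j : ℕ} (hj : j < 16) : validPerm (ACode j) = true := aCode_valid hj

/-- Fixing the anchor, on codes. -/
theorem anchorOK_iff {g : ℕ} (hg : validPerm g = true) (i : Bool) :
    anchorOK i g = true ↔ AnchorFix i (toPerm g) := by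
  cases i
  · simp only [anchorOK, AnchorFix, Bool.false_eq_true, if_false, beq_iff_eq]
    constructor
    · intro h
      refine idx_injective ?_
      rw [idx_toPerm hg, idx_pt (by decide), h]
    · intro h
      have := congrArg idx h
      rwa [idx_toPerm hg, idx_pt (by decide)] at this
  · simp only [anchorOK, AnchorFix, if_true, beq_iff_eq]
    constructor
    · intro h
      rw [← pts_imgMask hg, h]
    · intro h
      exact pts_injOn (imgMask_lt hg _) (by decide) (by rw [pts_imgMask hg, h])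

theorem ACode_anchor : ([false, true].all fun i => (List.range 16).all fun x =>
    x == 0 || !anchorOK i (ACode x)) = true := by decide +kernel

/-- Only the identity of the octad group fixes an anchor. -/
theorem eq_zero_of_anchor {i : Bool} {x : ℕ} (hx : x < 16) (h : AnchorFix i (Ael x)) : x = 0 := by
  have h1 := List.all_eq_true.1 (List.all_eq_true.1 ACode_anchor i (by cases i <;> simp)) x (List.mem_range.2 hx)
  rw [(anchorOK_iff (valid_ACode hx) i).2 (by rw [toPerm_ACode hx]; exact h)] at h1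
  simpa using h1

section AuxOK

variable {i : Bool} {s : Seed}

theorem auxOK_spec (h : auxOK i s = true) :
    isAut (gOf i s) = true ∧ anchorOK i (gOf i s) = true ∧
      (∀ k < 11, ∀ n < 24, fn (gOf i s) (fn (ACode (phiIdx (2 ^ k))) n) =
        fn (ACode (phiIdx (act s.code (2 ^ k)))) (fn (gOf i s) n)) ∧
      ∀ j < 16, pmask i s j = hexMask (Order.comp (ACode j) (gOf i s)) hexList := by
  simp only [auxOK, Bool.and_eq_true, List.all_eq_true, List.mem_range, beq_iff_eq] at h
  exact ⟨h.1.1.1.1, h.1.1.2, h.1.2, h.2⟩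

theorem imgCode_cod' (h : auxOK i s = true) (a : ℕ) :
    Cod (imgCode i s a) (Ael (phiIdx a) * toPerm (gOf i s)) := by
  rw [← toPerm_ACode (phiIdx_lt a)]
  exact (cod_toPerm (valid_ACode (phiIdx_lt a))).comp (cod_toPerm (validPerm_of_isAut (auxOK_spec h).1))

theorem toPerm_imgCode (h : auxOK i s = true) (a : ℕ) :
    toPerm (imgCode i s a) = Ael (phiIdx a) * toPerm (gOf i s) :=
  (imgCode_cod' h a).toPerm_eq

/-- **The code of an image codes it.** -/
theorem imgCode_cod (h : auxOK i s = true) (a : ℕ) : Cod (imgCode i s a) (toPerm (imgCode i s a)) :=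
  cod_toPerm (imgCode_cod' h a).valid

theorem imgCode_mem_M24 (h : auxOK i s = true) (a : ℕ) : toPerm (imgCode i s a) ∈ M24 := by
  rw [toPerm_imgCode h]
  exact mul_mem (mem_octadFix.1 (Ael_mem (phiIdx_lt a))).1 (toPerm_mem_M24 (auxOK_spec h).1)

/-- The image of the seed acts on the octad group as the seed on `V`. -/
theorem gOf_conj (h : auxOK i s = true) (hd : validPerm s.code = true) {x : ℕ} (hx : x < 2048) :
    toPerm (gOf i s) * Ael (phiIdx x) =
      Ael (phiIdx (actP (toPerm s.code) x)) * toPerm (gOf i s) := by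
  obtain ⟨hA, -, hrows, -⟩ := auxOK_spec h
  have hg := validPerm_of_isAut hA
  set g := toPerm (gOf i s)
  let P : ℕ → Prop := fun x => g * Ael (phiIdx x) = Ael (phiIdx (actP (toPerm s.code) x)) * g
  have h0 : P 0 := by
    have e : actP (toPerm s.code) 0 = 0 := by
      have := actP_xor (toPerm s.code) 0 0
      simpa using this
    show g * _ = _ * g
    rw [e, show phiIdx 0 = 0 from encAux_zero _, Ael_zero, mul_one, one_mul]
  have hxor : ∀ a b, P a → P b → P (a ^^^ b) := fun a b ha hb => by
    show g * _ = _ * g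
    rw [actP_xor, phiIdx_xor, phiIdx_xor, Ael_xor (phiIdx_lt _) (phiIdx_lt _),
      Ael_xor (phiIdx_lt _) (phiIdx_lt _), ← mul_assoc, ha, mul_assoc, hb, mul_assoc]
  have hp : ∀ r ∈ twoPows, P r := by
    intro r hr
    obtain ⟨k, hk, rfl⟩ : ∃ k < 11, 2 ^ k = r := by
      revert r; decide +kernel
    show g * Ael (phiIdx (2 ^ k)) = _ * g
    rw [← toPerm_ACode (phiIdx_lt _), ← toPerm_ACode (phiIdx_lt _)]
    refine Equiv.ext fun p => idx_injective ?_
    rw [Equiv.Perm.mul_apply, Equiv.Perm.mul_apply, idx_toPerm hg, idx_toPerm (valid_ACode (phiIdx_lt _)),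
      idx_toPerm (valid_ACode (phiIdx_lt _)), idx_toPerm hg, hrows k hk _ (idx_lt p), ← actP_toPerm hd]
  have := encAux_mem h0 hxor twoPows hp x
  rwa [show encAux twoPows x = x by
    simpa using forall_lt_two_pow twoPows_span (k := 11) (i := x) hx] at this

end AuxOK

variable {G : Type*} [Group G] [Finite G] (C : Ctx G)

local notation "NV" => Subgroup.normalizer (C.D.V : Set G)

/-- **The identification map on an element over a seed.** -/
theorem theta_ee (θ : ↥(Cz (C.vv xsC)) →* Equiv.Perm GolayPt) {i : Bool}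
    (hN : ∀ h : ↥(Cz (C.vv xsC)), (h : G) ∈ NV ↔ θ h ∈ stabO o0)
    (hV : ∀ a < 2048, ∀ h : ↥(Cz (C.vv xsC)), (h : G) = C.vv a → θ h = toPerm (phiCode a))
    (hA : ∀ σ : ↥M24, actP (σ : Equiv.Perm GolayPt) xsC = xsC → ∀ h : ↥(Cz (C.vv xsC)), (h : G) = C.D.el σ →
      AnchorFix i (θ h))
    {s : Seed} (hs : invOK xsC s.code = true) (haux : auxOK i s = true) {a : ℕ} (ha : a < 2048)
    (h : ↥(Cz (C.vv xsC))) (he : (h : G) = C.ee a (toPerm s.code)) :
    θ h = toPerm (imgCode i s a) := by
  obtain ⟨hinv, hcod⟩ := invOK_spec (by decide) hs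
  obtain ⟨hσM, hσx⟩ := (mem_Stab (by decide : xsC < 2048)).1 (mem_Invs.1 hinv).1
  set σ : ↥M24 := ⟨toPerm s.code, hσM⟩
  let e : ↥(Cz (C.vv xsC)) := ⟨C.D.el σ, (el_mem_Cz_iff C σ).2 hσx⟩
  have hsplit : h = ⟨C.vv a, vv_mem_Cz C a⟩ * e := Subtype.ext (by
    rw [he, Ctx.ee, C.elP_eq hσM]; rfl)
  obtain ⟨hgA, hganc, -, -⟩ := auxOK_spec haux
  have hgv := validPerm_of_isAut hgA
  set g := toPerm (gOf i s)
  have hgM : g ∈ M24 := toPerm_mem_M24 hgA
  have heM : θ e ∈ M24 := pairStab_le_M24 ((hN e).1 (C.D.el_norm σ)).1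
  have hconj : ∀ x < 2048, θ e * Ael (phiIdx x) * (θ e)⁻¹ = Ael (phiIdx (actP (toPerm s.code) x)) := by
    intro x hx
    rw [← toPerm_phi, ← toPerm_phi, ← hV x hx ⟨_, vv_mem_Cz C x⟩ rfl,
      ← hV _ (TwoTen.actP_lt _ _) ⟨_, vv_mem_Cz C _⟩ rfl, ← map_inv, ← map_mul, ← map_mul]
    exact congrArg θ (Subtype.ext (C.conj_vv σ x))
  have hy : g⁻¹ * θ e ∈ octadFix o0 := by
    refine acts_comm (mul_mem (inv_mem hgM) heM) fun y hy => ?_
    have hpre : encAux pre4 y < 2048 ∧ phiIdx (encAux pre4 y) = y :=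
      ⟨encAux_lt11 rows_lt.2.2.1 y, by simpa using List.all_eq_true.1 pre_ok y (List.mem_range.2 hy)⟩
    have h1 := gOf_conj haux hcod.valid hpre.1
    have h2 := hconj _ hpre.1
    rw [hpre.2] at h1 h2
    rw [← h2] at h1
    calc g⁻¹ * θ e * Ael y = g⁻¹ * (θ e * Ael y * (θ e)⁻¹) * θ e := by group
      _ = g⁻¹ * ((θ e * Ael y * (θ e)⁻¹) * g) * (g⁻¹ * θ e) := by group
      _ = g⁻¹ * (g * Ael y) * (g⁻¹ * θ e) := by rw [h1]
      _ = Ael y * (g⁻¹ * θ e) := by group
  obtain ⟨y, hy16, hye⟩ := Ael_surj hy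
  have hanc : AnchorFix i (g⁻¹ * θ e) := by
    have h1 := (anchorOK_iff hgv i).1 hganc
    have h2 := hA σ hσx e rfl
    cases i <;> simp only [AnchorFix, Bool.false_eq_true, if_false, if_true] at h1 h2 ⊢
    · rw [Equiv.Perm.mul_apply, h2]
      exact Equiv.Perm.inv_eq_iff_eq.2 h1.symm
    · rw [mul_smul, h2]
      exact inv_smul_eq_iff.2 h1.symm
  rw [← hye] at hanc
  rw [eq_zero_of_anchor hy16 hanc, Ael_zero, eq_inv_mul_iff_mul_eq, mul_one] at hye
  rw [hsplit, map_mul, hV a ha _ rfl, toPerm_phi, ← hye, toPerm_imgCode haux]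

/-! ### Hexads from bits -/

/-- A list of bits as a number. -/
def ofBoolList : List Bool → ℕ
  | [] => 0
  | b :: l => (bif b then 1 else 0) + 2 * ofBoolList l

theorem testBit_ofBoolList : ∀ (l : List Bool) (i : ℕ), (ofBoolList l).testBit i = l.getD i false
  | [], i => by simp [ofBoolList]
  | b :: l, 0 => by cases b <;> simp [ofBoolList, Nat.testBit_zero, Nat.add_mod]
  | b :: l, i + 1 => by
    rw [Nat.testBit_succ, ofBoolList]
    cases b
    · simp only [cond_false, zero_add, Nat.mul_div_cancel_left _ (by norm_num : 0 < 2)]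
      simpa using testBit_ofBoolList l i
    · simp only [cond_true, show (1 + 2 * ofBoolList l) / 2 = ofBoolList l by omega]
      simpa using testBit_ofBoolList l i

theorem hexMask_eq (p : ℕ) : ∀ l, hexMask p l = ofBoolList (l.map (hexFixed p))
  | [] => rfl
  | h :: l => by rw [hexMask, List.map_cons, ofBoolList, hexMask_eq p l]

theorem ofBoolList_and {α : Type*} (f f' : α → Bool) (l : List α) :
    ofBoolList (l.map f) &&& ofBoolList (l.map f') = ofBoolList (l.map fun x => f x && f' x) := by
  refine Nat.eq_of_testBit_eq fun i => ?_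
  rw [Nat.testBit_and, testBit_ofBoolList, testBit_ofBoolList, testBit_ofBoolList]
  simp only [List.getD_eq_getElem?_getD, List.getElem?_map]
  cases l[i]? <;> simp

theorem sum_ofBoolList : ∀ (l : List Bool) (n : ℕ), l.length ≤ n →
    ∑ i ∈ Finset.range n, ((ofBoolList l).testBit i).toNat = l.countP id
  | [], n, _ => by simp [ofBoolList]
  | b :: l, 0, h => by simp at h
  | b :: l, n + 1, h => by
    have ih := sum_ofBoolList l n (by simpa using h)
    rw [Finset.sum_range_succ']
    simp only [testBit_ofBoolList] at ih ⊢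
    simp only [List.getD_cons_succ, List.getD_cons_zero, ih]
    cases b <;> simp

theorem pop96_eq (m : ℕ) : pop96 m = ∑ i ∈ Finset.range 96, (m.testBit i).toNat := by
  have e : ∀ k, popcount ((m >>> k) % 16777216) = ∑ i ∈ Finset.range 24, (m.testBit (k + i)).toNat := by
    intro k
    rw [popcount_eq_sum]
    refine Finset.sum_congr rfl fun i hi => ?_
    rw [show (16777216 : ℕ) = 2 ^ 24 from rfl, Nat.testBit_mod_two_pow, Nat.testBit_shiftRight]
    simp [Finset.mem_range.1 hi]
  have e0 := e 0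
  rw [Nat.shiftRight_zero] at e0
  rw [pop96, e0, e 24, e 48, e 72, show (96 : ℕ) = 24 + 24 + 24 + 24 from rfl, Finset.sum_range_add,
    Finset.sum_range_add, Finset.sum_range_add]
  simp

theorem hexList_ok : (hexList.length == 77) = true ∧
    (hexList.all fun h => isCode h.1 && popcount h.1 == 8 && h.1.testBit (idx pA) && h.1.testBit (idx pB) &&
      h.2.length == 5 && h.2.all fun k => decide (k < 24) && h.1.testBit k) = true ∧
    (hexList.map Prod.fst).Nodup ∧ (∀ h ∈ hexList, h.2.Nodup) := by decide +kernel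

theorem hex_spec {h : ℕ × List ℕ} (hh : h ∈ hexList) :
    HexOct (pts h.1) ∧ h.1 < 2 ^ 24 ∧ h.2.length = 5 ∧ h.2.Nodup ∧ ∀ k ∈ h.2, k < 24 ∧ h.1.testBit k = true := by
  have h1 := List.all_eq_true.1 hexList_ok.2.1 h hh
  simp only [Bool.and_eq_true, List.all_eq_true, decide_eq_true_eq, beq_iff_eq] at h1
  obtain ⟨⟨⟨⟨⟨hc, hp⟩, hA⟩, hB⟩, hl⟩, hk⟩ := h1
  exact ⟨⟨pts_mem_octads (by rw [hc, hp]; rfl), mem_pts.2 hA, mem_pts.2 hB⟩, lt_of_isCode hc, hl,
    hexList_ok.2.2.2 h hh, hk⟩

theorem hexFixed_iff {p : ℕ} (hp : validPerm p = true) (hM : toPerm p ∈ M24) {h : ℕ × List ℕ}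
    (hh : h ∈ hexList) : hexFixed p h = true ↔ toPerm p • pts h.1 = pts h.1 := by
  classical
  obtain ⟨ho, -, hl, hnd, hk⟩ := hex_spec hh
  simp only [hexFixed, List.all_eq_true]
  constructor
  · intro hf
    refine octad_eq_of_five (smul_mem_octads hM ho.mem) ho.mem ?_
    have hnd' : (h.2.map fun k => toPerm p (pt k)).Nodup := by
      refine hnd.map_on fun x hx y hy e => ?_
      have := congrArg idx ((toPerm p).injective e)
      rwa [idx_pt (hk x hx).1, idx_pt (hk y hy).1] at this
    calc 5 = (h.2.map fun k => toPerm p (pt k)).toFinset.card := by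
          rw [List.toFinset_card_of_nodup hnd', List.length_map, hl]
      _ ≤ _ := Finset.card_le_card fun q hq => by
          obtain ⟨k, hkm, rfl⟩ := List.mem_map.1 (List.mem_toFinset.1 hq)
          refine Finset.mem_inter.2 ⟨Finset.smul_mem_smul_finset (mem_pts.2 ?_), mem_pts.2 ?_⟩
          · rw [idx_pt (hk k hkm).1]; exact (hk k hkm).2
          · rw [idx_toPerm hp, idx_pt (hk k hkm).1]; exact hf k hkm
  · intro hf k hkm
    have hm : toPerm p (pt k) ∈ toPerm p • pts h.1 :=
      Finset.smul_mem_smul_finset (mem_pts.2 (by rw [idx_pt (hk k hkm).1]; exact (hk k hkm).2))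
    rw [hf, mem_pts, idx_toPerm hp, idx_pt (hk k hkm).1] at hm
    exact hm

/-- The number of hexads fixed by two coded elements. -/
theorem card_common {p p' : ℕ} (hp : validPerm p = true) (hM : toPerm p ∈ M24)
    (hp' : validPerm p' = true) (hM' : toPerm p' ∈ M24) :
    (hexOcts.filter fun o => toPerm p • o = o ∧ toPerm p' • o = o).card =
      pop96 (hexMask p hexList &&& hexMask p' hexList) := by
  classical
  have hinj : ∀ h ∈ hexList, ∀ h' ∈ hexList, pts h.1 = pts h'.1 → h = h' := fun h hh h' hh' e =>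
    List.inj_on_of_nodup_map hexList_ok.2.2.1 hh hh' (pts_injOn (hex_spec hh).2.1 (hex_spec hh').2.1 e)
  have hnd : (hexList.map fun h => pts h.1).Nodup :=
    (List.Nodup.of_map _ hexList_ok.2.2.1).map_on hinj
  have hlen : hexList.length = 77 := beq_iff_eq.1 hexList_ok.1
  have hall : (hexList.map fun h => pts h.1).toFinset = hexOcts := by
    refine Finset.eq_of_subset_of_card_le (fun o ho => ?_) ?_
    · obtain ⟨h, hh, rfl⟩ := List.mem_map.1 (List.mem_toFinset.1 ho)
      exact mem_hexOcts.2 (hex_spec hh).1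
    · rw [card_hexOcts, List.toFinset_card_of_nodup hnd, List.length_map, hlen]
  rw [pop96_eq, hexMask_eq, hexMask_eq, ofBoolList_and, sum_ofBoolList _ _ (by rw [List.length_map, hlen]; norm_num),
    List.countP_map, List.countP_eq_length_filter, ← hall,
    show ((hexList.map fun h => pts h.1).toFinset.filter fun o => toPerm p • o = o ∧ toPerm p' • o = o) =
        ((hexList.map fun h => pts h.1).filter fun o => decide (toPerm p • o = o ∧ toPerm p' • o = o)).toFinset by
      ext o; simp,
    List.toFinset_card_of_nodup (hnd.filter _), List.filter_map, List.length_map]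
  refine congrArg List.length (List.filter_congr fun h hh => ?_)
  rw [Bool.eq_iff_iff]
  simp only [Function.comp_apply, id_eq, Bool.and_eq_true, decide_eq_true_eq, hexFixed_iff hp hM hh,
    hexFixed_iff hp' hM' hh]

/-- **The common fixed hexads of two images.** -/
theorem fHit_eq {i : Bool} {s t : Seed} (hs : auxOK i s = true) (ht : auxOK i t = true) (a b : ℕ) :
    (hexOcts.filter fun o => toPerm (imgCode i s a) • o = o ∧ toPerm (imgCode i t b) • o = o).card =
      fHit i s t a b := by
  rw [card_common (imgCode_cod' hs a).valid (imgCode_mem_M24 hs a) (imgCode_cod' ht b).valid (imgCode_mem_M24 ht b),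
    fHit, (auxOK_spec hs).2.2.2 _ (phiIdx_lt a), (auxOK_spec ht).2.2.2 _ (phiIdx_lt b)]
  rfl

end Cfsg.Agent.J4Type.Order
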